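import Mathlib
import Cfsg.Prelude.Def_LieExceptional
import Cfsg.Agent.S4252
import Cfsg.Agent.S0035
import Cfsg.Agent.S3383
import Cfsg.Agent.Lib.Helper9.Simple

set_option autoImplicit false

namespace Cfsg.Agent.Lib.Helper9

open Cfsg

/-- A Frobenius action has a kernel: the identity and the fixed-point-free elements form a
normal subgroup, which is transitive and is comparable with every normal subgroup. -/
theorem frobenius_kernel_exists {X Ω : Type*} [Group X] [Finite X] [Finite Ω] [MulAction X Ω]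
    (hΩ : 1 < Nat.card Ω) (htrans : ∀ α β : Ω, ∃ g : X, g • α = β)
    (hnreg : ∃ g : X, g ≠ 1 ∧ ∃ α : Ω, g • α = α)
    (hfix : ∀ g : X, g ≠ 1 → ∀ α β : Ω, g • α = α → g • β = β → α = β) :
    ∃ M : Subgroup X, M.Normal ∧ (∀ g : X, g ∈ M ↔ g = 1 ∨ ∀ ω : Ω, g • ω ≠ ω) ∧
      (∀ α β : Ω, ∃ g ∈ M, g • α = β) ∧
      (∀ N' : Subgroup X, N'.Normal → M ≤ N' ∨ N' ≤ M) := by
  classical
  have : Fintype Ω := Fintype.ofFinite Ω
  have hΩ' : 1 < Fintype.card Ω := by rwa [← Nat.card_eq_fintype_card]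
  obtain ⟨α0⟩ : Nonempty Ω := Fintype.card_pos_iff.mp (by omega)
  obtain ⟨hFC, hker⟩ := Cfsg.Agent.S4252.result hΩ' htrans hnreg hfix α0
  obtain ⟨M, hM, hMn, hMc⟩ := Cfsg.Agent.S0035.result (MulAction.stabilizer X α0) hFC
  have hmem : ∀ g : X, g ∈ M ↔ g = 1 ∨ ∀ ω : Ω, g • ω ≠ ω := by
    intro g
    rw [← SetLike.mem_coe, hM, hker]
    rfl
  refine ⟨M, hMn, hmem, ?_, (Cfsg.Agent.S3383.result _ hFC M hM).2⟩
  have h1 : ∀ β : Ω, ∃ g ∈ M, g • α0 = β := by
    intro β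
    obtain ⟨x, hx⟩ := htrans α0 β
    obtain ⟨⟨m, h⟩, hmh, -⟩ := (Subgroup.isComplement'_def.mp hMc).existsUnique x
    refine ⟨m.1, m.2, ?_⟩
    have e : x = m.1 * h.1 := hmh.symm
    have hh : h.1 • α0 = α0 := h.2
    rw [← hx, e, mul_smul, hh]
  intro α β
  obtain ⟨g1, hg1, e1⟩ := h1 α
  obtain ⟨g2, hg2, e2⟩ := h1 β
  exact ⟨g2 * g1⁻¹, M.mul_mem hg2 (M.inv_mem hg1), by rw [mul_smul, ← e1, inv_smul_smul, e2]⟩

/-- Orbit-stabiliser for a subgroup of a group acting on a type. -/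
theorem card_eq_orbit_mul_stab_gen {G X : Type*} [Group G] [MulAction G X] (H : Subgroup G)
    (b : X) :
    Nat.card H = (MulAction.orbit H b).ncard * Nat.card ↥(H ⊓ MulAction.stabilizer G b) := by
  have h1 := Subgroup.card_mul_index (MulAction.stabilizer H b)
  rw [MulAction.index_stabilizer] at h1
  have h2 : MulAction.stabilizer H b = (MulAction.stabilizer G b).subgroupOf H := by
    ext x
    rw [Subgroup.mem_subgroupOf, MulAction.mem_stabilizer_iff, MulAction.mem_stabilizer_iff]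
    rfl
  have h3 : Nat.card (MulAction.stabilizer H b) =
      Nat.card ↥(H ⊓ MulAction.stabilizer G b) := by
    rw [h2, ← Subgroup.inf_subgroupOf_right, inf_comm]
    exact Nat.card_congr (Subgroup.subgroupOfEquivOfLe inf_le_left).toEquiv
  rw [← h1, h3, mul_comm]

section Zassenhaus

variable {G Ω : Type*} [Group G] [MulAction G Ω]

/-- The hypotheses on a Zassenhaus group other than the absence of regular normal subgroups. -/
structure ZData (G Ω : Type*) [Group G] [MulAction G Ω] : Prop where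
  faithful : FaithfulSMul G Ω
  two : ∀ {a b c d : Ω}, a ≠ b → c ≠ d → ∃ g : G, g • a = c ∧ g • b = d
  three : ∀ g : G, ∀ a b c : Ω, a ≠ b → b ≠ c → a ≠ c → g • a = a → g • b = b → g • c = c → g = 1
  fix : ∃ g : G, g ≠ 1 ∧ ∃ a b : Ω, a ≠ b ∧ g • a = a ∧ g • b = b

theorem zdata_of_zassenhaus (hZ : IsZassenhausGroup G Ω) : ZData G Ω :=
  ⟨hZ.1, MulAction.is_two_pretransitive_iff.mp hZ.2.1, hZ.2.2.1, hZ.2.2.2.1⟩

/-- There are at least three points: for every point there are two further ones. -/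
theorem ZData.exists_two (h : ZData G Ω) (c : Ω) : ∃ d e : Ω, d ≠ c ∧ e ≠ c ∧ d ≠ e := by
  obtain ⟨g, hg, a, b, hab, ha, hb⟩ := h.fix
  have := h.faithful
  obtain ⟨x, hx⟩ : ∃ x : Ω, g • x ≠ x := by
    by_contra hcon
    push Not at hcon
    exact hg (FaithfulSMul.eq_of_smul_eq_smul (α := Ω) (fun x => by rw [hcon x, one_smul]))
  have hxa : x ≠ a := fun e => hx (by rw [e, ha])
  have hxb : x ≠ b := fun e => hx (by rw [e, hb])
  by_cases hca : c = a
  · exact ⟨b, x, by rw [hca]; exact hab.symm, by rw [hca]; exact hxa, hxb.symm⟩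
  by_cases hcb : c = b
  · exact ⟨a, x, by rw [hcb]; exact hab, by rw [hcb]; exact hxb, hxa.symm⟩
  · exact ⟨a, b, fun e => hca e.symm, fun e => hcb e.symm, hab⟩

theorem ZData.card_gt [Finite Ω] (h : ZData G Ω) : 1 < Nat.card Ω := by
  obtain ⟨g, hg, a, b, hab, ha, hb⟩ := h.fix
  have : Nontrivial Ω := ⟨⟨a, b, hab⟩⟩
  exact Finite.one_lt_card

/-- A nontrivial normal subgroup is transitive. -/
theorem ZData.normal_trans (h : ZData G Ω) (N : Subgroup G) (hNn : N.Normal) (hN : N ≠ ⊥)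
    (a b : Ω) : ∃ n ∈ N, n • a = b := by
  have := h.faithful
  have horb : MulAction.orbit N a = Set.univ := by
    apply orbit_eq_of_normal Set.univ _ _ _ N hNn hN a (Set.mem_univ _)
    · intro g x hx
      exact absurd (Set.mem_univ x) hx
    · intro x _ y _ hxy y' _ hxy'
      exact h.two hxy hxy'
    · intro x _ x' _
      by_cases hxx : x = x'
      · exact ⟨1, by rw [one_smul, hxx]⟩
      · obtain ⟨g, hg, -⟩ := h.two hxx (Ne.symm hxx)
        exact ⟨g, hg⟩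
  have hb : b ∈ MulAction.orbit N a := by rw [horb]; exact Set.mem_univ _
  obtain ⟨n, hn⟩ := MulAction.mem_orbit_iff.mp hb
  exact ⟨n.1, n.2, hn⟩

/-- The Frobenius kernel of a point stabiliser. -/
theorem ZData.exists_kernel [Finite G] [Finite Ω] (h : ZData G Ω) (c : Ω) :
    ∃ K : Subgroup G,
      (∀ k : G, k ∈ K ↔ k • c = c ∧ (k = 1 ∨ ∀ ω : Ω, ω ≠ c → k • ω ≠ ω)) ∧
      (∀ y y' : Ω, y ≠ c → y' ≠ c → ∃ k ∈ K, k • y = y') ∧
      (∀ N' : Subgroup G, N'.Normal →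
        (∃ n ∈ N', n ≠ 1 ∧ n • c = c ∧ ∃ d : Ω, d ≠ c ∧ n • d = d) → K ≤ N') := by
  classical
  obtain ⟨d, e, hdc, hec, hde⟩ := h.exists_two c
  have mem : ∀ {ω : Ω}, ω ≠ c → ω ∈ SubMulAction.ofStabilizer G c :=
    fun hω => (SubMulAction.mem_ofStabilizer_iff G c).mpr hω
  have ne : ∀ α : ↥(SubMulAction.ofStabilizer G c), (α : Ω) ≠ c :=
    fun α => (SubMulAction.mem_ofStabilizer_iff G c).mp α.2
  have hcard : 1 < Nat.card ↥(SubMulAction.ofStabilizer G c) := by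
    have : Nontrivial ↥(SubMulAction.ofStabilizer G c) :=
      ⟨⟨⟨d, mem hdc⟩, ⟨e, mem hec⟩, fun hh => hde (congrArg Subtype.val hh)⟩⟩
    exact Finite.one_lt_card
  have htrans : ∀ α β : ↥(SubMulAction.ofStabilizer G c),
      ∃ g : MulAction.stabilizer G c, g • α = β := by
    intro α β
    obtain ⟨g, hg1, hg2⟩ := h.two (Ne.symm (ne α)) (Ne.symm (ne β))
    exact ⟨⟨g, hg1⟩, Subtype.ext hg2⟩
  have hnreg : ∃ g : MulAction.stabilizer G c, g ≠ 1 ∧
      ∃ α : ↥(SubMulAction.ofStabilizer G c), g • α = α := by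
    obtain ⟨g, hg, a, b, hab, ha, hb⟩ := h.fix
    obtain ⟨t, ht1, ht2⟩ := h.two hab (Ne.symm hdc)
    have hc' : (t * g * t⁻¹) • c = c := by
      rw [mul_smul, mul_smul, ← ht1, inv_smul_smul, ha]
    refine ⟨⟨t * g * t⁻¹, hc'⟩, ?_, ⟨d, mem hdc⟩, ?_⟩
    · intro hh
      apply hg
      have h1 : t * g * t⁻¹ = 1 := congrArg Subtype.val hh
      have h2 : g = t⁻¹ * (t * g * t⁻¹) * t := by group
      rw [h2, h1]
      group
    · apply Subtype.ext
      show (t * g * t⁻¹) • d = d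
      rw [mul_smul, mul_smul, ← ht2, inv_smul_smul, hb]
  have hfix : ∀ g : MulAction.stabilizer G c, g ≠ 1 →
      ∀ α β : ↥(SubMulAction.ofStabilizer G c), g • α = α → g • β = β → α = β := by
    intro g hg α β hα hβ
    by_contra hne
    apply hg
    have e1 : (g : G) • (α : Ω) = α := congrArg Subtype.val hα
    have e2 : (g : G) • (β : Ω) = β := congrArg Subtype.val hβ
    apply Subtype.ext
    exact h.three g.1 c α β (Ne.symm (ne α)) (fun hh => hne (Subtype.ext hh)) (Ne.symm (ne β))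
      g.2 e1 e2
  obtain ⟨M, hMn, hmem, hMt, hMc⟩ := frobenius_kernel_exists hcard htrans hnreg hfix
  refine ⟨M.map (MulAction.stabilizer G c).subtype, ?_, ?_, ?_⟩
  · intro k
    rw [Subgroup.mem_map]
    constructor
    · rintro ⟨x, hx, rfl⟩
      refine ⟨x.2, ?_⟩
      rcases (hmem x).mp hx with h1 | h1
      · left
        rw [h1]
        rfl
      · right
        intro ω hω hk
        exact h1 ⟨ω, mem hω⟩ (Subtype.ext hk)
    · rintro ⟨hk, h1⟩
      refine ⟨⟨k, hk⟩, (hmem _).mpr ?_, rfl⟩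
      rcases h1 with h1 | h1
      · left
        exact Subtype.ext h1
      · right
        intro ω hk'
        exact h1 ω (ne ω) (congrArg Subtype.val hk')
  · intro y y' hy hy'
    obtain ⟨x, hx, e⟩ := hMt ⟨y, mem hy⟩ ⟨y', mem hy'⟩
    exact ⟨x.1, Subgroup.mem_map_of_mem _ hx, congrArg Subtype.val e⟩
  · rintro N' hN' ⟨n, hn, hn1, hnc, d', hd', hnd⟩
    have hsub : (N'.subgroupOf (MulAction.stabilizer G c)).Normal := Subgroup.normal_subgroupOf
    rcases hMc _ hsub with hle | hle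
    · intro k hk
      obtain ⟨x, hx, rfl⟩ := Subgroup.mem_map.mp hk
      exact Subgroup.mem_subgroupOf.mp (hle hx)
    · exfalso
      have hx : (⟨n, hnc⟩ : MulAction.stabilizer G c) ∈
          N'.subgroupOf (MulAction.stabilizer G c) := Subgroup.mem_subgroupOf.mpr hn
      rcases (hmem _).mp (hle hx) with h1 | h1
      · exact hn1 (congrArg Subtype.val h1)
      · exact h1 ⟨d', mem hd'⟩ (Subtype.ext hnd)

/-- A nontrivial normal subgroup contains a non-identity element fixing two points. -/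
theorem ZData.normal_fix [Finite G] [Finite Ω] (h : ZData G Ω)
    (noreg : ∀ N : Subgroup G, N.Normal → (∀ a b : Ω, ∃ n ∈ N, n • a = b) →
      ∃ n ∈ N, n ≠ 1 ∧ ∃ a : Ω, n • a = a)
    (N : Subgroup G) (hNn : N.Normal) (hN : N ≠ ⊥) :
    ∃ n ∈ N, n ≠ 1 ∧ ∃ a b : Ω, a ≠ b ∧ n • a = a ∧ n • b = b := by
  by_contra hcon
  push Not at hcon
  have htrans : ∀ α β : Ω, ∃ g : ↥N, g • α = β := fun α β =>
    let ⟨n, hn, e⟩ := h.normal_trans N hNn hN α β
    ⟨⟨n, hn⟩, e⟩
  have hnreg : ∃ g : ↥N, g ≠ 1 ∧ ∃ α : Ω, g • α = α := by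
    obtain ⟨n, hn, hn1, a, ha⟩ := noreg N hNn (h.normal_trans N hNn hN)
    exact ⟨⟨n, hn⟩, fun hh => hn1 (congrArg Subtype.val hh), a, ha⟩
  have hfix : ∀ g : ↥N, g ≠ 1 → ∀ α β : Ω, g • α = α → g • β = β → α = β := by
    intro g hg α β hα hβ
    by_contra hne
    exact hcon g.1 g.2 (fun hh => hg (Subtype.ext hh)) α β hne hα hβ
  obtain ⟨M, hMn, hmem, hMt, -⟩ := frobenius_kernel_exists h.card_gt htrans hnreg hfix
  have hM'n : (M.map N.subtype).Normal := by
    constructor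
    intro m hm g
    obtain ⟨x, hx, rfl⟩ := Subgroup.mem_map.mp hm
    have hgx : g * x.1 * g⁻¹ ∈ N := hNn.conj_mem x.1 x.2 g
    refine Subgroup.mem_map.mpr ⟨⟨g * x.1 * g⁻¹, hgx⟩, (hmem _).mpr ?_, rfl⟩
    rcases (hmem x).mp hx with h1 | h1
    · left
      apply Subtype.ext
      show g * x.1 * g⁻¹ = 1
      rw [h1]
      show g * 1 * g⁻¹ = 1
      group
    · right
      intro ω hω
      apply h1 (g⁻¹ • ω)
      have hω' : (g * x.1 * g⁻¹) • ω = ω := hω
      rw [mul_smul, mul_smul] at hω'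
      exact eq_inv_smul_iff.mpr hω'
  obtain ⟨m, hm, hm1, a, ha⟩ := noreg (M.map N.subtype) hM'n (fun α β =>
    let ⟨x, hx, e⟩ := hMt α β
    ⟨x.1, Subgroup.mem_map_of_mem _ hx, e⟩)
  obtain ⟨x, hx, rfl⟩ := Subgroup.mem_map.mp hm
  rcases (hmem x).mp hx with h1 | h1
  · exact hm1 (by rw [h1]; rfl)
  · exact h1 a ha

/-- The Frobenius kernel of a point stabiliser lies in every nontrivial normal subgroup. -/
theorem ZData.kernel_le [Finite G] [Finite Ω] (h : ZData G Ω)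
    (noreg : ∀ N : Subgroup G, N.Normal → (∀ a b : Ω, ∃ n ∈ N, n • a = b) →
      ∃ n ∈ N, n ≠ 1 ∧ ∃ a : Ω, n • a = a)
    (N : Subgroup G) (hNn : N.Normal) (hN : N ≠ ⊥) (c : Ω) (K : Subgroup G)
    (hK : ∀ N' : Subgroup G, N'.Normal →
      (∃ n ∈ N', n ≠ 1 ∧ n • c = c ∧ ∃ d : Ω, d ≠ c ∧ n • d = d) → K ≤ N') : K ≤ N := by
  apply hK N hNn
  obtain ⟨n, hn, hn1, a, b, hab, ha, hb⟩ := h.normal_fix noreg N hNn hN
  obtain ⟨d, e, hdc, -, -⟩ := h.exists_two c
  obtain ⟨t, ht1, ht2⟩ := h.two hab (Ne.symm hdc)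
  refine ⟨t * n * t⁻¹, hNn.conj_mem n hn t, ?_, ?_, d, hdc, ?_⟩
  · intro hh
    apply hn1
    have h2 : n = t⁻¹ * (t * n * t⁻¹) * t := by group
    rw [h2, hh]
    group
  · rw [mul_smul, mul_smul, ← ht1, inv_smul_smul, ha]
  · rw [mul_smul, mul_smul, ← ht2, inv_smul_smul, hb]

/-- A nontrivial normal subgroup is doubly transitive. -/
theorem ZData.normal_two [Finite G] [Finite Ω] (h : ZData G Ω)
    (noreg : ∀ N : Subgroup G, N.Normal → (∀ a b : Ω, ∃ n ∈ N, n • a = b) →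
      ∃ n ∈ N, n ≠ 1 ∧ ∃ a : Ω, n • a = a)
    (N : Subgroup G) (hNn : N.Normal) (hN : N ≠ ⊥) {a b c d : Ω} (hab : a ≠ b) (hcd : c ≠ d) :
    ∃ n ∈ N, n • a = c ∧ n • b = d := by
  obtain ⟨K, hKmem, hKt, hKle⟩ := h.exists_kernel c
  have hKN := h.kernel_le noreg N hNn hN c K hKle
  obtain ⟨n1, hn1, e1⟩ := h.normal_trans N hNn hN a c
  have hb' : n1 • b ≠ c := by
    rw [← e1]
    exact fun hh => hab (smul_left_cancel n1 hh).symm
  obtain ⟨k, hk, ek⟩ := hKt (n1 • b) d hb' (Ne.symm hcd)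
  refine ⟨k * n1, N.mul_mem (hKN hk) hn1, ?_, ?_⟩
  · rw [mul_smul, e1]
    exact ((hKmem k).mp hk).1
  · rw [mul_smul, ek]

/-- A nontrivial normal subgroup has no regular subgroup normalised by it. -/
theorem ZData.no_regular_normal [Finite G] [Finite Ω] (h : ZData G Ω)
    (noreg : ∀ N : Subgroup G, N.Normal → (∀ a b : Ω, ∃ n ∈ N, n • a = b) →
      ∃ n ∈ N, n ≠ 1 ∧ ∃ a : Ω, n • a = a)
    (N : Subgroup G) (hNn : N.Normal) (hN : N ≠ ⊥)
    (M' : Subgroup G) (hM'n : ∀ n ∈ N, ∀ m ∈ M', n * m * n⁻¹ ∈ M')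
    (hM't : ∀ a b : Ω, ∃ m ∈ M', m • a = b) (hM'r : ∀ m ∈ M', ∀ a : Ω, m • a = a → m = 1) :
    False := by
  classical
  obtain ⟨c⟩ : Nonempty Ω := by
    obtain ⟨g, hg, a, _⟩ := h.fix
    exact ⟨a⟩
  obtain ⟨K, hKmem, hKt, hKle⟩ := h.exists_kernel c
  have hKN : K ≤ N := h.kernel_le noreg N hNn hN c K hKle
  obtain ⟨d, e, hdc, hec, hde⟩ := h.exists_two c
  obtain ⟨k0, hk0, ek0⟩ := hKt d e hdc hec
  have hk01 : k0 ≠ 1 := by
    rintro rfl
    rw [one_smul] at ek0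
    exact hde ek0
  let T : Subgroup G :=
    { carrier := {t | ∃ m ∈ M', ∃ k ∈ K, t = m * k}
      one_mem' := ⟨1, M'.one_mem, 1, K.one_mem, (mul_one 1).symm⟩
      mul_mem' := by
        rintro _ _ ⟨m1, hm1, k1, hk1, rfl⟩ ⟨m2, hm2, k2, hk2, rfl⟩
        exact ⟨m1 * (k1 * m2 * k1⁻¹), M'.mul_mem hm1 (hM'n k1 (hKN hk1) m2 hm2), k1 * k2,
          K.mul_mem hk1 hk2, by group⟩
      inv_mem' := by
        rintro _ ⟨m, hm, k, hk, rfl⟩
        exact ⟨k⁻¹ * m⁻¹ * k⁻¹⁻¹, hM'n k⁻¹ (N.inv_mem (hKN hk)) m⁻¹ (M'.inv_mem hm), k⁻¹,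
          K.inv_mem hk, by group⟩ }
  have hM'T : M' ≤ T := fun m hm => ⟨m, hm, 1, K.one_mem, (mul_one m).symm⟩
  have hKT : K ≤ T := fun k hk => ⟨1, M'.one_mem, k, hk, (one_mul k).symm⟩
  have hTc : ∀ t ∈ T, t • c = c → t ∈ K := by
    rintro _ ⟨m, hm, k, hk, rfl⟩ htc
    have hkc : k • c = c := ((hKmem k).mp hk).1
    rw [mul_smul, hkc] at htc
    rw [hM'r m hm c htc, one_mul]
    exact hk
  have hTfix : ∀ t ∈ T, t ≠ 1 → ∀ a b : Ω, t • a = a → t • b = b → a = b := by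
    intro t ht ht1 a b ha hb
    obtain ⟨m, hm, hmc⟩ := hM't c a
    have ht' : m⁻¹ * t * m ∈ T := T.mul_mem (T.mul_mem (T.inv_mem (hM'T hm)) ht) (hM'T hm)
    have hc' : (m⁻¹ * t * m) • c = c := by
      rw [mul_smul, mul_smul, hmc, ha, ← hmc, inv_smul_smul]
    have hK' := hTc _ ht' hc'
    rcases ((hKmem _).mp hK').2 with h1 | h1
    · exfalso
      apply ht1
      have h2 : t = m * (m⁻¹ * t * m) * m⁻¹ := by group
      rw [h2, h1]
      group
    · by_contra hab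
      apply h1 (m⁻¹ • b)
      · intro hh
        apply hab
        rw [← hmc, ← hh, smul_inv_smul]
      · rw [mul_smul, mul_smul, smul_inv_smul, hb]
  have hT0 : Subgroup.normalClosure (K : Set G) ≤ T := by
    rw [Subgroup.normalClosure]
    apply (Subgroup.closure_le T).mpr
    intro x hx
    rw [Group.mem_conjugatesOfSet_iff] at hx
    obtain ⟨k, hk, hconj⟩ := hx
    rw [isConj_iff] at hconj
    obtain ⟨g, rfl⟩ := hconj
    obtain ⟨m, hm, hmc⟩ := hM't c (g • c)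
    have hh : (m⁻¹ * g) • c = c := by rw [mul_smul, ← hmc, inv_smul_smul]
    have hh' : (m⁻¹ * g)⁻¹ • c = c := inv_smul_eq_iff.mpr hh.symm
    have hk' : (m⁻¹ * g) * k * (m⁻¹ * g)⁻¹ ∈ K := by
      rw [hKmem]
      obtain ⟨hkc, hk2⟩ := (hKmem k).mp hk
      constructor
      · rw [mul_smul, mul_smul, hh', hkc, hh]
      · rcases hk2 with h1 | h1
        · left
          rw [h1]
          group
        · right
          intro ω hω hfixω
          apply h1 ((m⁻¹ * g)⁻¹ • ω)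
          · intro hh2
            apply hω
            rw [inv_smul_eq_iff] at hh2
            rw [hh2, hh]
          · rw [mul_smul, mul_smul] at hfixω
            exact eq_inv_smul_iff.mpr hfixω
    have e : g * k * g⁻¹ = m * ((m⁻¹ * g) * k * (m⁻¹ * g)⁻¹) * m⁻¹ := by group
    show g * k * g⁻¹ ∈ T
    rw [e]
    exact T.mul_mem (T.mul_mem (hM'T hm) (hKT hk')) (T.inv_mem (hM'T hm))
  have hT0n : (Subgroup.normalClosure (K : Set G)).Normal := Subgroup.normalClosure_normal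
  have hT0ne : Subgroup.normalClosure (K : Set G) ≠ ⊥ := by
    intro hh
    have h1 : k0 ∈ Subgroup.normalClosure (K : Set G) := Subgroup.subset_normalClosure hk0
    rw [hh, Subgroup.mem_bot] at h1
    exact hk01 h1
  have horb0 : MulAction.orbit (Subgroup.normalClosure (K : Set G)) c = Set.univ := by
    ext ω
    simp only [Set.mem_univ, iff_true]
    obtain ⟨n, hn, e⟩ := h.normal_trans _ hT0n hT0ne c ω
    exact MulAction.mem_orbit_iff.mpr ⟨⟨n, hn⟩, e⟩
  have horbT : MulAction.orbit T c = Set.univ := by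
    ext ω
    simp only [Set.mem_univ, iff_true]
    obtain ⟨m, hm, e⟩ := hM't c ω
    exact MulAction.mem_orbit_iff.mpr ⟨⟨m, hM'T hm⟩, e⟩
  have hst : Subgroup.normalClosure (K : Set G) ⊓ MulAction.stabilizer G c =
      T ⊓ MulAction.stabilizer G c := by
    apply le_antisymm
    · exact inf_le_inf_right _ hT0
    · rintro t ⟨ht, htc⟩
      exact ⟨Subgroup.subset_normalClosure (hTc t ht htc), htc⟩
  have hcard : Nat.card T ≤ Nat.card (Subgroup.normalClosure (K : Set G)) := by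
    rw [card_eq_orbit_mul_stab_gen T c,
      card_eq_orbit_mul_stab_gen (Subgroup.normalClosure (K : Set G)) c, horb0, horbT, hst]
  have hTeq : Subgroup.normalClosure (K : Set G) = T := Subgroup.eq_of_le_of_card_ge hT0 hcard
  have hTn : T.Normal := hTeq ▸ hT0n
  have htransT : ∀ α β : Ω, ∃ g : ↥T, g • α = β := fun α β =>
    let ⟨m, hm, e⟩ := hM't α β
    ⟨⟨m, hM'T hm⟩, e⟩
  have hnregT : ∃ g : ↥T, g ≠ 1 ∧ ∃ α : Ω, g • α = α :=
    ⟨⟨k0, hKT hk0⟩, fun hh => hk01 (congrArg Subtype.val hh), c, ((hKmem k0).mp hk0).1⟩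
  have hfixT : ∀ g : ↥T, g ≠ 1 → ∀ α β : Ω, g • α = α → g • β = β → α = β :=
    fun g hg α β hα hβ => hTfix g.1 g.2 (fun hh => hg (Subtype.ext hh)) α β hα hβ
  obtain ⟨Mk, hMkn, hMkmem, hMkt, -⟩ := frobenius_kernel_exists h.card_gt htransT hnregT hfixT
  have hM'Mk : ∀ m (hm : m ∈ M'), (⟨m, hM'T hm⟩ : ↥T) ∈ Mk := by
    intro m hm
    rw [hMkmem]
    by_cases hm1 : m = 1
    · left
      exact Subtype.ext hm1
    · right
      intro ω hω
      exact hm1 (hM'r m hm ω hω)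
  have hMkM' : ∀ x ∈ Mk, (x : G) ∈ M' := by
    intro x hx
    obtain ⟨m, hm, e⟩ := hM't c (x.1 • c)
    have hy : (⟨m, hM'T hm⟩ : ↥T)⁻¹ * x ∈ Mk := Mk.mul_mem (Mk.inv_mem (hM'Mk m hm)) hx
    rcases (hMkmem _).mp hy with h1 | h1
    · have h2 : m⁻¹ * x.1 = 1 := congrArg Subtype.val h1
      have h3 : x.1 = m := by
        rw [inv_mul_eq_one] at h2
        exact h2.symm
      rw [h3]
      exact hm
    · exfalso
      apply h1 c
      show (m⁻¹ * x.1) • c = c
      rw [mul_smul, ← e, inv_smul_smul]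
  have hM'normal : M'.Normal := by
    constructor
    intro m hm g
    have hgT : g * m * g⁻¹ ∈ T := hTn.conj_mem m (hM'T hm) g
    apply hMkM' ⟨g * m * g⁻¹, hgT⟩
    rw [hMkmem]
    by_cases hm1 : m = 1
    · left
      apply Subtype.ext
      show g * m * g⁻¹ = 1
      rw [hm1]
      group
    · right
      intro ω hω
      apply hm1
      apply hM'r m hm (g⁻¹ • ω)
      have hω' : (g * m * g⁻¹) • ω = ω := hω
      rw [mul_smul, mul_smul] at hω'
      exact eq_inv_smul_iff.mpr hω'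
  obtain ⟨m, hm, hm1, a, ha⟩ := noreg M' hM'normal hM't
  exact hm1 (hM'r m hm a ha)

theorem noreg_of_zassenhaus (hZ : IsZassenhausGroup G Ω) :
    ∀ N : Subgroup G, N.Normal → (∀ a b : Ω, ∃ n ∈ N, n • a = b) →
      ∃ n ∈ N, n ≠ 1 ∧ ∃ a : Ω, n • a = a := by
  intro N hNn ht
  have hp : MulAction.IsPretransitive N Ω :=
    ⟨fun a b => let ⟨n, hn, e⟩ := ht a b; ⟨⟨n, hn⟩, e⟩⟩
  obtain ⟨a, ha⟩ := hZ.2.2.2.2 N hNn hp
  obtain ⟨x, hx⟩ := (Subgroup.ne_bot_iff_exists_ne_one).mp ha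
  exact ⟨x.1.1, x.1.2, fun hh => hx (Subtype.ext (Subtype.ext hh)), a, x.2⟩

/-- The number of fixed points of an involution has the parity of the number of points. -/
theorem card_fixed_involution [Finite Ω] (t : G) (ht : t * t = 1) :
    Nat.card Ω ≡ ({ω : Ω | t • ω = ω} : Set Ω).ncard [MOD 2] := by
  have : Fact (Nat.Prime 2) := ⟨Nat.prime_two⟩
  have hP : IsPGroup 2 (Subgroup.zpowers t) := by
    intro g
    refine ⟨1, ?_⟩
    obtain ⟨n, hn⟩ := Subgroup.mem_zpowers_iff.mp g.2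
    apply Subtype.ext
    show g.1 ^ 2 ^ 1 = 1
    rw [← hn, pow_one, ← zpow_natCast, ← zpow_mul, mul_comm, zpow_mul, zpow_natCast, pow_two, ht,
      one_zpow]
  have h1 := hP.card_modEq_card_fixedPoints Ω
  have h2 : (MulAction.fixedPoints (Subgroup.zpowers t) Ω) = {ω : Ω | t • ω = ω} := by
    ext ω
    rw [MulAction.mem_fixedPoints]
    constructor
    · intro hω
      exact hω ⟨t, Subgroup.mem_zpowers t⟩
    · intro hω x
      obtain ⟨n, hn⟩ := Subgroup.mem_zpowers_iff.mp x.2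
      show x.1 • ω = ω
      rw [← hn]
      exact MulAction.mem_stabilizer_iff.mp
        (Subgroup.zpow_mem _ (MulAction.mem_stabilizer_iff.mpr hω) n)
  rw [h2, _root_.Nat.card_coe_set_eq] at h1
  exact h1

theorem ZData.involution_fix [Finite Ω] (_h : ZData G Ω) (hodd : Odd (Nat.card Ω)) (t : G)
    (ht : t * t = 1) : ∃ c : Ω, t • c = c := by
  have h1 := card_fixed_involution (Ω := Ω) t ht
  by_contra hcon
  push Not at hcon
  have h2 : ({ω : Ω | t • ω = ω} : Set Ω) = ∅ := by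
    ext ω
    simp [hcon ω]
  rw [h2, Set.ncard_empty] at h1
  have := Nat.odd_iff.mp hodd
  have h3 : Nat.card Ω % 2 = 0 % 2 := h1
  omega

theorem ZData.involution_unique [Finite Ω] (h : ZData G Ω) (hodd : Odd (Nat.card Ω)) (t : G)
    (ht : t * t = 1) (ht1 : t ≠ 1) {a b : Ω} (hab : a ≠ b) (ha : t • a = a) (hb : t • b = b) :
    False := by
  have h1 := card_fixed_involution (Ω := Ω) t ht
  have h2 : ({ω : Ω | t • ω = ω} : Set Ω) = {a, b} := by
    ext ω
    simp only [Set.mem_ofPred_eq, Set.mem_insert_iff, Set.mem_singleton_iff]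
    constructor
    · intro hω
      by_contra hcon
      push Not at hcon
      exact ht1 (h.three t a b ω hab (Ne.symm hcon.2) (Ne.symm hcon.1) ha hb hω)
    · rintro (rfl | rfl)
      · exact ha
      · exact hb
  rw [h2, Set.ncard_pair hab] at h1
  have := Nat.odd_iff.mp hodd
  have h3 : Nat.card Ω % 2 = 2 % 2 := h1
  omega

/-- In a Zassenhaus group of odd degree every nontrivial normal subgroup is the whole group. -/
theorem ZData.normal_eq_top_of_odd [Finite G] [Finite Ω] (h : ZData G Ω)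
    (noreg : ∀ N : Subgroup G, N.Normal → (∀ a b : Ω, ∃ n ∈ N, n • a = b) →
      ∃ n ∈ N, n ≠ 1 ∧ ∃ a : Ω, n • a = a)
    (hodd : Odd (Nat.card Ω)) (N : Subgroup G) (hNn : N.Normal) (hN : N ≠ ⊥) : N = ⊤ := by
  classical
  obtain ⟨g0, hg0, a, b, hab, -, -⟩ := h.fix
  obtain ⟨H, hH⟩ : ∃ H : Subgroup G, H = MulAction.stabilizer G a ⊓ MulAction.stabilizer G b :=
    ⟨_, rfl⟩
  have hHmem : ∀ x : G, x ∈ H ↔ x • a = a ∧ x • b = b := by
    intro x
    rw [hH]
    rfl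
  -- the two-point stabiliser has odd order
  have hHodd : Odd (Nat.card H) := by
    rw [← Nat.not_even_iff_odd]
    intro heven
    have : Fact (Nat.Prime 2) := ⟨Nat.prime_two⟩
    obtain ⟨x, hx⟩ := exists_prime_orderOf_dvd_card' (G := ↥H) 2 heven.two_dvd
    have hx2 : x.1 * x.1 = 1 := by
      have h1 : x ^ 2 = 1 := by rw [← hx]; exact pow_orderOf_eq_one x
      have h2 := congrArg Subtype.val h1
      rw [pow_two] at h2
      exact h2
    have hx1 : x.1 ≠ 1 := by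
      intro hh
      have h1 : x = 1 := Subtype.ext hh
      rw [h1, orderOf_one] at hx
      omega
    exact h.involution_unique hodd x.1 hx2 hx1 hab ((hHmem x.1).mp x.2).1 ((hHmem x.1).mp x.2).2
  -- an involution of N exchanging a and b
  obtain ⟨n, hn, hna, hnb⟩ := h.normal_two noreg N hNn hN hab (Ne.symm hab)
  have hnn : n * n ∈ H := by
    rw [hHmem]
    exact ⟨by rw [mul_smul, hna, hnb], by rw [mul_smul, hnb, hna]⟩
  obtain ⟨j, hj⟩ := hHodd
  obtain ⟨t, ht⟩ : ∃ t : G, t = n ^ (Nat.card H) := ⟨_, rfl⟩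
  have htN : t ∈ N := by rw [ht]; exact N.pow_mem hn _
  have hpow : ∀ i : ℕ, (n * n) ^ i ∈ H := fun i => H.pow_mem hnn i
  have ht' : t = (n * n) ^ j * n := by
    rw [ht, hj, pow_succ, pow_mul, pow_two]
  have hta : t • a = b := by
    rw [ht', mul_smul, hna]
    exact ((hHmem _).mp (hpow j)).2
  have htb : t • b = a := by
    rw [ht', mul_smul, hnb]
    exact ((hHmem _).mp (hpow j)).1
  have htt : t * t = 1 := by
    have h1 : (⟨n * n, hnn⟩ : ↥H) ^ Nat.card H = 1 := pow_card_eq_one'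
    have h2 : (n * n) ^ Nat.card H = 1 := congrArg Subtype.val h1
    rw [ht, ← (Commute.refl n).mul_pow]
    exact h2
  obtain ⟨c, hc⟩ := h.involution_fix hodd t htt
  have hca : c ≠ a := by
    rintro rfl
    rw [hta] at hc
    exact hab hc.symm
  have hcb : c ≠ b := by
    rintro rfl
    rw [htb] at hc
    exact hab hc
  have ht1 : t ≠ 1 := by
    rintro rfl
    rw [one_smul] at hta
    exact hab hta
  have htinv : t⁻¹ = t := inv_eq_of_mul_eq_one_left htt
  -- the two-point stabiliser lies in N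
  have hconjH : ∀ x ∈ H, t * x * t⁻¹ ∈ H := by
    intro x hx
    rw [hHmem] at hx ⊢
    rw [htinv]
    exact ⟨by rw [mul_smul, mul_smul, hta, hx.2, htb], by rw [mul_smul, mul_smul, htb, hx.1, hta]⟩
  have hHN : H ≤ N := by
    let φ : ↥H → ↥H := fun x => ⟨x.1⁻¹ * (t * x.1 * t⁻¹), H.mul_mem (H.inv_mem x.2) (hconjH x.1 x.2)⟩
    have hinj : Function.Injective φ := by
      intro x y hxy
      have h1 : x.1⁻¹ * (t * x.1 * t⁻¹) = y.1⁻¹ * (t * y.1 * t⁻¹) := congrArg Subtype.val hxy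
      have hz : (y.1 * x.1⁻¹) * t = t * (y.1 * x.1⁻¹) := by
        have h2 : y.1 * x.1⁻¹ * t = y.1 * (x.1⁻¹ * (t * x.1 * t⁻¹)) * t * x.1⁻¹ := by group
        rw [h2, h1]
        group
      have hzH : y.1 * x.1⁻¹ ∈ H := H.mul_mem y.2 (H.inv_mem x.2)
      have hzc : (y.1 * x.1⁻¹) • c = c := by
        by_contra hne
        apply h.involution_unique hodd t htt ht1 (Ne.symm hne) hc
        rw [← mul_smul, ← hz, mul_smul, hc]
      have hz1 : y.1 * x.1⁻¹ = 1 :=
        h.three _ a b c hab (Ne.symm hcb) (Ne.symm hca) ((hHmem _).mp hzH).1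
          ((hHmem _).mp hzH).2 hzc
      apply Subtype.ext
      rw [mul_inv_eq_one] at hz1
      exact hz1.symm
    have hsurj : Function.Surjective φ := Finite.injective_iff_surjective.mp hinj
    intro x hx
    obtain ⟨y, hy⟩ := hsurj ⟨x, hx⟩
    have h1 : y.1⁻¹ * (t * y.1 * t⁻¹) = x := congrArg Subtype.val hy
    rw [← h1]
    have h2 : y.1⁻¹ * (t * y.1 * t⁻¹) = (y.1⁻¹ * t * y.1⁻¹⁻¹) * t⁻¹ := by group
    rw [h2]
    exact N.mul_mem (hNn.conj_mem t htN _) (N.inv_mem htN)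
  rw [eq_top_iff]
  intro g _
  have hgab : g • a ≠ g • b := fun hh => hab (smul_left_cancel g hh)
  obtain ⟨n', hn', e1, e2⟩ := h.normal_two noreg N hNn hN hab hgab
  have hH' : n'⁻¹ * g ∈ H := by
    rw [hHmem]
    exact ⟨by rw [mul_smul, ← e1, inv_smul_smul], by rw [mul_smul, ← e2, inv_smul_smul]⟩
  have e : g = n' * (n'⁻¹ * g) := by group
  rw [e]
  exact N.mul_mem hn' (hHN hH')

end Zassenhaus

end Cfsg.Agent.Lib.Helper9
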