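import Mathlib
import Cfsg.Prelude.Def_Sporadic_a

set_option autoImplicit false

namespace Cfsg.Agent.Lib.Helper9

open Finset

variable {α : Type*} [Fintype α] [DecidableEq α]

/-- The blocks as a finset. -/
noncomputable def blocksFin (B : Set (Finset α)) : Finset (Finset α) := (Set.toFinite B).toFinset

omit [DecidableEq α] in
theorem mem_blocksFin {B : Set (Finset α)} {b : Finset α} : b ∈ blocksFin B ↔ b ∈ B := by
  simp [blocksFin]

omit [DecidableEq α] in
theorem ncard_eq_card_blocksFin (B : Set (Finset α)) : B.ncard = (blocksFin B).card :=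
  Set.ncard_eq_toFinset_card B _

omit [Fintype α] in
/-- Number of `n`-subsets of `U` containing `S`. -/
theorem card_powersetCard_filter_superset (S U : Finset α) (hSU : S ⊆ U) (n : ℕ) (hn : S.card ≤ n) :
    ((powersetCard n U).filter (fun T => S ⊆ T)).card = (U.card - S.card).choose (n - S.card) := by
  rw [← card_sdiff_of_subset hSU, ← card_powersetCard (n - S.card) (U \ S)]
  refine card_nbij' (fun T => T \ S) (fun T' => T' ∪ S) ?_ ?_ ?_ ?_
  · intro T hT
    simp only [mem_coe, mem_filter, mem_powersetCard] at hT ⊢
    refine ⟨sdiff_subset_sdiff hT.1.1 (subset_refl _), ?_⟩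
    rw [card_sdiff_of_subset hT.2, hT.1.2]
  · intro T' hT'
    simp only [mem_coe, mem_filter, mem_powersetCard] at hT' ⊢
    have hdisj : Disjoint T' S := disjoint_of_subset_left hT'.1 sdiff_disjoint
    refine ⟨⟨union_subset (hT'.1.trans sdiff_subset) hSU, ?_⟩, subset_union_right⟩
    rw [card_union_of_disjoint hdisj, hT'.2]
    omega
  · intro T hT
    simp only [mem_coe, mem_filter, mem_powersetCard] at hT
    exact sdiff_union_of_subset hT.2
  · intro T' hT'
    simp only [mem_coe, mem_powersetCard] at hT'
    have hdisj : Disjoint T' S := disjoint_of_subset_left hT'.1 sdiff_disjoint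
    exact union_sdiff_cancel_right hdisj

/-- In a Steiner system `S(t,k,v)`, the number `λ` of blocks through a `j`-set (`j ≤ t`) satisfies
`λ * C(k-j, t-j) = C(v-j, t-j)`. -/
theorem card_blocks_through {t k : ℕ} {B : Set (Finset α)} (hB : Cfsg.IsSteinerSystem t k B)
    (S : Finset α) (hS : S.card ≤ t) :
    ((blocksFin B).filter (fun c => S ⊆ c)).card * (k - S.card).choose (t - S.card) =
      (Fintype.card α - S.card).choose (t - S.card) := by
  classical
  obtain ⟨hk, hex⟩ := hB
  -- the function sending a t-set to its block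
  let f : Finset α → Finset α := fun T =>
    if h : T.card = t then (hex T h).choose else ∅
  have hf : ∀ T, T.card = t → f T ∈ B ∧ T ⊆ f T ∧ ∀ c ∈ B, T ⊆ c → c = f T := by
    intro T hT
    have := (hex T hT).choose_spec
    simp only [f, hT, dif_pos]
    exact ⟨this.1.1, this.1.2, fun c hc hTc => this.2 c ⟨hc, hTc⟩⟩
  have key : ((powersetCard t univ).filter (fun T => S ⊆ T)).card =
      ∑ c ∈ (blocksFin B).filter (fun c => S ⊆ c),
        (((powersetCard t univ).filter (fun T => S ⊆ T)).filter (fun T => f T = c)).card := by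
    apply card_eq_sum_card_fiberwise
    intro T hT
    simp only [coe_filter, Set.mem_ofPred_eq, mem_powersetCard] at hT
    simp only [coe_filter, Set.mem_ofPred_eq, mem_blocksFin]
    exact ⟨(hf T hT.1.2).1, hT.2.trans (hf T hT.1.2).2.1⟩
  have fib : ∀ c ∈ (blocksFin B).filter (fun c => S ⊆ c),
      (((powersetCard t univ).filter (fun T => S ⊆ T)).filter (fun T => f T = c)).card =
        (k - S.card).choose (t - S.card) := by
    intro c hc
    simp only [mem_filter, mem_blocksFin] at hc
    have : ((powersetCard t univ).filter (fun T => S ⊆ T)).filter (fun T => f T = c) =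
        (powersetCard t c).filter (fun T => S ⊆ T) := by
      ext T
      simp only [mem_filter, mem_powersetCard, subset_univ, true_and]
      constructor
      · rintro ⟨⟨hT, hST⟩, hfT⟩
        exact ⟨⟨hfT ▸ (hf T hT).2.1, hT⟩, hST⟩
      · rintro ⟨⟨hTc, hT⟩, hST⟩
        exact ⟨⟨hT, hST⟩, ((hf T hT).2.2 c hc.1 hTc).symm⟩
    rw [this, card_powersetCard_filter_superset S c hc.2 t hS, hk c hc.1]
  rw [sum_congr rfl fib, sum_const, smul_eq_mul] at key
  rw [← key, card_powersetCard_filter_superset S univ (subset_univ _) t hS, card_univ]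

/-- The basic double count: blocks through `R` weighted by `C(|b ∩ c|, j)`. -/
theorem sum_choose_inter {t k : ℕ} {B : Set (Finset α)} (hB : Cfsg.IsSteinerSystem t k B)
    (R b : Finset α) (hRb : Disjoint R b) (j : ℕ) (hj : R.card + j ≤ t) :
    (∑ c ∈ (blocksFin B).filter (fun c => R ⊆ c), ((b ∩ c).card).choose j) *
        (k - (R.card + j)).choose (t - (R.card + j)) =
      (b.card).choose j * (Fintype.card α - (R.card + j)).choose (t - (R.card + j)) := by
  classical
  have h1 : ∀ c : Finset α, ((b ∩ c).card).choose j =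
      ((powersetCard j b).filter (fun S => S ⊆ c)).card := by
    intro c
    rw [← card_powersetCard j (b ∩ c)]
    congr 1
    ext S
    simp only [mem_powersetCard, mem_filter, subset_inter_iff]
    tauto
  have h2 : ∑ c ∈ (blocksFin B).filter (fun c => R ⊆ c), ((b ∩ c).card).choose j =
      ∑ S ∈ powersetCard j b, ((blocksFin B).filter (fun c => R ∪ S ⊆ c)).card := by
    simp only [h1, card_filter]
    rw [sum_comm]
    apply sum_congr rfl
    intro S _
    rw [sum_filter]
    apply sum_congr rfl
    intro c _
    by_cases hR : R ⊆ c <;> by_cases hS : S ⊆ c <;> simp [hR, hS, union_subset_iff]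
  rw [h2, sum_mul]
  have h3 : ∀ S ∈ powersetCard j b,
      ((blocksFin B).filter (fun c => R ∪ S ⊆ c)).card * (k - (R.card + j)).choose (t - (R.card + j)) =
        (Fintype.card α - (R.card + j)).choose (t - (R.card + j)) := by
    intro S hS
    rw [mem_powersetCard] at hS
    have hcard : (R ∪ S).card = R.card + j := by
      rw [card_union_of_disjoint (disjoint_of_subset_right hS.1 hRb), hS.2]
    have := card_blocks_through hB (R ∪ S) (by rw [hcard]; exact hj)
    rwa [hcard] at this
  rw [sum_congr rfl h3, sum_const, smul_eq_mul, card_powersetCard]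

/-- Intersection-number form: `x i` is the number of blocks through `R` meeting `b` in `i` points. -/
theorem sum_choose_mul_card_inter {t k : ℕ} {B : Set (Finset α)} (hB : Cfsg.IsSteinerSystem t k B)
    (R b : Finset α) (hRb : Disjoint R b) (j : ℕ) (hj : R.card + j ≤ t) :
    (∑ i ∈ range (b.card + 1), i.choose j *
        ((blocksFin B).filter (fun c => R ⊆ c ∧ (b ∩ c).card = i)).card) *
        (k - (R.card + j)).choose (t - (R.card + j)) =
      (b.card).choose j * (Fintype.card α - (R.card + j)).choose (t - (R.card + j)) := by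
  classical
  rw [← sum_choose_inter hB R b hRb j hj]
  congr 1
  have hmaps : ∀ c ∈ (blocksFin B).filter (fun c => R ⊆ c), (b ∩ c).card ∈ range (b.card + 1) := by
    intro c _
    rw [mem_range]
    exact Nat.lt_succ_of_le (card_le_card inter_subset_left)
  rw [← sum_fiberwise_of_maps_to hmaps]
  apply sum_congr rfl
  intro i _
  rw [filter_filter]
  have hc : ∀ c ∈ (blocksFin B).filter (fun c => R ⊆ c ∧ (b ∩ c).card = i),
      ((b ∩ c).card).choose j = i.choose j := by
    intro c hc
    rw [mem_filter] at hc
    rw [hc.2.2]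
  rw [sum_congr rfl hc, sum_const, smul_eq_mul, mul_comm]

omit [Fintype α] in
/-- Two blocks of a Steiner system sharing at least `t` points are equal. -/
theorem eq_of_le_card_inter {t k : ℕ} {B : Set (Finset α)} (hB : Cfsg.IsSteinerSystem t k B)
    {b c : Finset α} (hb : b ∈ B) (hc : c ∈ B) (h : t ≤ (b ∩ c).card) : b = c := by
  obtain ⟨S, hS, hSc⟩ := exists_subset_card_eq h
  obtain ⟨d, _, hd⟩ := hB.2 S hSc
  rw [hd b ⟨hb, hS.trans inter_subset_left⟩, hd c ⟨hc, hS.trans inter_subset_right⟩]

end Cfsg.Agent.Lib.Helper9
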