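import Mathlib
import Cfsg.Prelude.Def_Sporadic_a
import Cfsg.Agent.Lib.Helper9.Steiner

set_option autoImplicit false

namespace Cfsg.Agent.Lib.Helper9

open Finset

variable {α : Type*} [Fintype α] [DecidableEq α]

/-- Number of blocks meeting `b` in exactly `i` points. -/
noncomputable def interNum (B : Set (Finset α)) (b : Finset α) (i : ℕ) : ℕ :=
  ((blocksFin B).filter (fun c => (b ∩ c).card = i)).card

theorem interNum_eq (B : Set (Finset α)) (b : Finset α) (i : ℕ) :
    ((blocksFin B).filter (fun c => ∅ ⊆ c ∧ (b ∩ c).card = i)).card = interNum B b i := by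
  simp [interNum]

/-- The number of blocks meeting a block `b` in all `k` of its points is one. -/
theorem interNum_self {t k : ℕ} {B : Set (Finset α)} (hB : Cfsg.IsSteinerSystem t k B)
    {b : Finset α} (hb : b ∈ B) : interNum B b k = 1 := by
  classical
  rw [interNum, card_eq_one]
  refine ⟨b, ?_⟩
  ext c
  simp only [mem_filter, mem_blocksFin, mem_singleton]
  constructor
  · rintro ⟨hc, hbc⟩
    have h1 : b ∩ c = b := eq_of_subset_of_card_le inter_subset_left (by rw [hbc, hB.1 b hb])
    have h2 : b ∩ c = c := eq_of_subset_of_card_le inter_subset_right (by rw [hbc, hB.1 c hc])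
    rw [← h2, h1]
  · rintro rfl
    exact ⟨hb, by rw [inter_self, hB.1 c hb]⟩

/-- No block meets a block `b` in `i` points for `t ≤ i < k`. -/
theorem interNum_eq_zero {t k : ℕ} {B : Set (Finset α)} (hB : Cfsg.IsSteinerSystem t k B)
    {b : Finset α} (hb : b ∈ B) {i : ℕ} (hi : t ≤ i) (hik : i ≠ k) : interNum B b i = 0 := by
  classical
  rw [interNum, card_eq_zero, filter_eq_empty_iff]
  intro c hc hbc
  rw [mem_blocksFin] at hc
  have := eq_of_le_card_inter hB hb hc (by omega)
  subst this
  rw [inter_self, hB.1 b hb] at hbc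
  exact hik hbc.symm

/-- Intersection numbers of a block of an `S(5,8,24)`. -/
theorem interNum_5_8_24 (hα : Fintype.card α = 24) {B : Set (Finset α)}
    (hB : Cfsg.IsSteinerSystem 5 8 B) {b : Finset α} (hb : b ∈ B) :
    interNum B b 0 = 30 ∧ interNum B b 1 = 0 ∧ interNum B b 2 = 448 ∧ interNum B b 3 = 0 ∧
      interNum B b 4 = 280 := by
  have hbc : b.card = 8 := hB.1 b hb
  have e := fun j (hj : j ≤ 5) =>
    sum_choose_mul_card_inter hB ∅ b (disjoint_empty_left b) j (by simpa using hj)
  have e0 := e 0 (by norm_num)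
  have e1 := e 1 (by norm_num)
  have e2 := e 2 (by norm_num)
  have e3 := e 3 (by norm_num)
  have e4 := e 4 (by norm_num)
  simp only [interNum_eq, hbc, hα, card_empty, zero_add, sum_range_succ, sum_range_zero] at e0 e1 e2 e3 e4
  have h8 := interNum_self hB hb
  have h5 := interNum_eq_zero hB hb (i := 5) (by norm_num) (by norm_num)
  have h6 := interNum_eq_zero hB hb (i := 6) (by norm_num) (by norm_num)
  have h7 := interNum_eq_zero hB hb (i := 7) (by norm_num) (by norm_num)
  rw [h5, h6, h7, h8] at e0 e1 e2 e3 e4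
  norm_num [Nat.choose] at e0 e1 e2 e3 e4
  omega

/-- In an `S(5,8,24)` two distinct blocks meet in 0, 2 or 4 points. -/
theorem inter_card_5_8_24 (hα : Fintype.card α = 24) {B : Set (Finset α)}
    (hB : Cfsg.IsSteinerSystem 5 8 B) {b c : Finset α} (hb : b ∈ B) (hc : c ∈ B) (hbc : b ≠ c) :
    (b ∩ c).card = 0 ∨ (b ∩ c).card = 2 ∨ (b ∩ c).card = 4 := by
  classical
  obtain ⟨-, h1, -, h3, -⟩ := interNum_5_8_24 hα hB hb
  have hlt : (b ∩ c).card < 5 := by
    by_contra h
    exact hbc (eq_of_le_card_inter hB hb hc (by omega))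
  have hne : ∀ i, interNum B b i = 0 → (b ∩ c).card ≠ i := by
    intro i hi h
    rw [interNum, card_eq_zero, filter_eq_empty_iff] at hi
    exact hi (mem_blocksFin.mpr hc) h
  have := hne 1 h1
  have := hne 3 h3
  omega

end Cfsg.Agent.Lib.Helper9
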