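import Mathlib
import Cfsg.Prelude.Def_Sporadic_a

set_option autoImplicit false

namespace Cfsg.Agent.Lib.Helper9

open Cfsg
open scoped Pointwise

variable {α β : Type*} [DecidableEq α] [DecidableEq β]

theorem smul_image_permCongr (e : α ≃ β) (σ : Equiv.Perm α) (b : Finset α) :
    (e.permCongr σ) • (b.image e) = (σ • b).image e := by
  ext x
  simp only [Finset.mem_smul_finset, Finset.mem_image, Equiv.Perm.smul_def]
  constructor
  · rintro ⟨_, ⟨a, ha, rfl⟩, rfl⟩
    exact ⟨σ a, ⟨a, ha, rfl⟩, by simp [Equiv.permCongr_apply]⟩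
  · rintro ⟨_, ⟨a, ha, rfl⟩, rfl⟩
    exact ⟨e a, ⟨a, ha, rfl⟩, by simp [Equiv.permCongr_apply]⟩

theorem smul_image_set_permCongr (e : α ≃ β) (σ : Equiv.Perm α) (B : Set (Finset α)) :
    (e.permCongr σ) • ((fun b => b.image e) '' B) = (fun b => b.image e) '' (σ • B) := by
  ext c
  simp only [Set.mem_smul_set, Set.mem_image]
  constructor
  · rintro ⟨_, ⟨b, hb, rfl⟩, rfl⟩
    exact ⟨σ • b, ⟨b, hb, rfl⟩, (smul_image_permCongr e σ b).symm⟩
  · rintro ⟨_, ⟨b, hb, rfl⟩, rfl⟩
    exact ⟨b.image e, ⟨b, hb, rfl⟩, smul_image_permCongr e σ b⟩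

omit [DecidableEq α] in
theorem image_equiv_injective (e : α ≃ β) :
    Function.Injective (fun b : Finset α => b.image e) :=
  Finset.image_injective e.injective

/-- An isomorphism of set systems conjugates the automorphism groups into each other. -/
theorem mem_setSystemAut_permCongr {B : Set (Finset α)} {B' : Set (Finset β)} (e : α ≃ β)
    (he : (fun b => b.image e) '' B = B') (σ : Equiv.Perm α) :
    e.permCongr σ ∈ setSystemAut B' ↔ σ ∈ setSystemAut B := by
  show e.permCongr σ ∈ MulAction.stabilizer (Equiv.Perm β) B' ↔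
    σ ∈ MulAction.stabilizer (Equiv.Perm α) B
  rw [MulAction.mem_stabilizer_iff, MulAction.mem_stabilizer_iff, ← he, smul_image_set_permCongr]
  exact (Set.image_injective.mpr (image_equiv_injective e)).eq_iff

theorem map_setSystemAut {B : Set (Finset α)} {B' : Set (Finset β)} (e : α ≃ β)
    (he : (fun b => b.image e) '' B = B') :
    (setSystemAut B).map (e.permCongrHom : Equiv.Perm α →* Equiv.Perm β) = setSystemAut B' := by
  ext τ
  rw [Subgroup.mem_map]
  constructor
  · rintro ⟨σ, hσ, rfl⟩
    exact (mem_setSystemAut_permCongr e he σ).mpr hσ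
  · intro hτ
    refine ⟨e.permCongrHom.symm τ, ?_, e.permCongrHom.apply_symm_apply τ⟩
    rw [← mem_setSystemAut_permCongr e he]
    have : e.permCongr (e.permCongrHom.symm τ) = τ := e.permCongrHom.apply_symm_apply τ
    rw [this]
    exact hτ

/-- Isomorphic set systems have isomorphic automorphism groups. -/
noncomputable def setSystemAutEquiv {B : Set (Finset α)} {B' : Set (Finset β)} (e : α ≃ β)
    (he : (fun b => b.image e) '' B = B') : setSystemAut B ≃* setSystemAut B' :=
  (e.permCongrHom.subgroupMap (setSystemAut B)).trans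
    (MulEquiv.subgroupCongr (map_setSystemAut e he))

/-- Multiple transitivity of the automorphism group passes along an isomorphism of set
systems. -/
theorem multiplyPretransitive_of_iso {B : Set (Finset α)} {B' : Set (Finset β)} (e : α ≃ β)
    (he : (fun b => b.image e) '' B = B') (n : ℕ)
    (h : MulAction.IsMultiplyPretransitive (setSystemAut B') β n) :
    MulAction.IsMultiplyPretransitive (setSystemAut B) α n := by
  rw [MulAction.isMultiplyPretransitive_iff] at h ⊢
  intro x y
  obtain ⟨g, hg⟩ := h (x.trans e.toEmbedding) (y.trans e.toEmbedding)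
  have hmem : e.symm.permCongr g.1 ∈ setSystemAut B := by
    rw [← mem_setSystemAut_permCongr e he]
    have : e.permCongr (e.symm.permCongr g.1) = g.1 := by
      ext x
      simp [Equiv.permCongr_apply]
    rw [this]
    exact g.2
  refine ⟨⟨_, hmem⟩, ?_⟩
  ext i
  have h1 := congrArg (fun f => f i) hg
  simp only [Function.Embedding.smul_apply, Function.Embedding.trans_apply,
    Equiv.coe_toEmbedding] at h1
  have h2 : g.1 (e (x i)) = e (y i) := h1
  show (e.symm.permCongr g.1) (x i) = y i
  rw [Equiv.permCongr_apply, Equiv.symm_symm, h2, Equiv.symm_apply_apply]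

end Cfsg.Agent.Lib.Helper9
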