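import Mathlib
import Cfsg.Prelude.Def_Sporadic_a
import Cfsg.Agent.Lib.Helper9.Golay

set_option autoImplicit false

namespace Cfsg.Agent.Lib.Helper9

open Cfsg

/-- The dot product on binary words indexed by the 24 points, as a bilinear form. -/
noncomputable def dotG : LinearMap.BilinForm (ZMod 2) (GolayPt → ZMod 2) :=
  Matrix.toBilin' (1 : Matrix GolayPt GolayPt (ZMod 2))

theorem dotG_apply (x y : GolayPt → ZMod 2) : dotG x y = ∑ i, x i * y i := by
  unfold dotG
  rw [Matrix.toBilin'_apply']
  simp [dotProduct]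

theorem dotG_nondeg : dotG.Nondegenerate := by
  unfold dotG
  apply LinearMap.BilinForm.nondegenerate_toBilin'_of_det_ne_zero'
  simp

theorem finrank_golay : Module.finrank (ZMod 2) golayCode = 12 := by
  have h1 : Nat.card golayCode = 4096 := ncard_golay
  have h2 := Module.natCard_eq_pow_finrank (K := ZMod 2) (V := golayCode)
  rw [h1, Nat.card_zmod] at h2
  have h3 : (2 : ℕ) ^ 12 = 2 ^ Module.finrank (ZMod 2) golayCode := by
    rw [← h2]; norm_num
  exact (Nat.pow_right_injective (le_refl 2) h3).symm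

theorem sum_dec_mul (x m : ℕ) : ∑ p, dec x p * dec m p = (popc (x &&& m) : ZMod 2) := by
  rw [← sum_dec]
  exact Finset.sum_congr rfl (fun p _ => dec_mul_dec x m p)

theorem golay_self_orth (v w : GolayPt → ZMod 2) (hv : v ∈ golayCode) (hw : w ∈ golayCode) :
    ∑ i, v i * w i = 0 := by
  obtain ⟨m, hm, rfl⟩ := (mem_golayCode_iff v).mp hv
  obtain ⟨m', hm', rfl⟩ := (mem_golayCode_iff w).mp hw
  rw [sum_dec_mul]
  have h := popc_and_even hm hm'
  rw [ZMod.natCast_eq_zero_iff]
  exact Nat.dvd_of_mod_eq_zero h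

theorem golay_orthogonal_eq : dotG.orthogonal golayCode = golayCode := by
  symm
  apply Submodule.eq_of_le_of_finrank_eq
  · intro v hv
    rw [LinearMap.BilinForm.mem_orthogonal_iff]
    intro w hw
    show dotG w v = 0
    rw [dotG_apply]
    exact golay_self_orth w v hw hv
  · rw [LinearMap.BilinForm.finrank_orthogonal dotG_nondeg, finrank_golay]
    simp

/-- The code is self-dual: a word orthogonal to the whole code lies in it. -/
theorem mem_golay_of_orth (u : GolayPt → ZMod 2)
    (hu : ∀ w ∈ golayCode, ∑ i, w i * u i = 0) : u ∈ golayCode := by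
  rw [← golay_orthogonal_eq, LinearMap.BilinForm.mem_orthogonal_iff]
  intro w hw
  show dotG w u = 0
  rw [dotG_apply]
  exact hu w hw

/-- Every word is the word of a mask. -/
theorem exists_dec (w : GolayPt → ZMod 2) : ∃ x, x < 2 ^ 24 ∧ dec x = w := by
  let f : Fin (2 ^ 24) → (GolayPt → ZMod 2) := fun n => dec n.val
  have hinj : Function.Injective f := by
    intro a b hab
    exact Fin.ext (dec_injOn a.2 b.2 hab)
  have hcard : Fintype.card (Fin (2 ^ 24)) = Fintype.card (GolayPt → ZMod 2) := by
    simp [ZMod.card]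
  have hbij := (Fintype.bijective_iff_injective_and_card f).mpr ⟨hinj, hcard⟩
  obtain ⟨n, hn⟩ := hbij.2 w
  exact ⟨n.val, n.2, hn⟩

/-- Every set of points is the support of the word of a mask. -/
theorem exists_mask (X : Finset GolayPt) : ∃ x, x < 2 ^ 24 ∧ support₂ (dec x) = X := by
  obtain ⟨x, hx, hdec⟩ := exists_dec (fun p => if p ∈ X then 1 else 0)
  refine ⟨x, hx, ?_⟩
  ext p
  rw [mem_support₂, hdec]
  by_cases hp : p ∈ X <;> simp [hp]

theorem card_support₂_dec (n : ℕ) : (support₂ (dec n)).card = popc n := by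
  rw [card_support₂, hammingNorm_dec]

theorem and_eq_of_subset {t x : ℕ} (ht : t < 2 ^ 24)
    (h : support₂ (dec t) ⊆ support₂ (dec x)) : x &&& t = t := by
  have h1 : support₂ (dec x) ∩ support₂ (dec t) = support₂ (dec t) :=
    Finset.inter_eq_right.mpr h
  rw [support₂_dec_inter] at h1
  have h2 : x &&& t < 2 ^ 24 := lt_of_le_of_lt Nat.and_le_right ht
  exact dec_injOn h2 ht (support₂_injective h1)

theorem subset_of_and_eq {t x : ℕ} (h : x &&& t = t) :
    support₂ (dec t) ⊆ support₂ (dec x) := by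
  have h1 : support₂ (dec x) ∩ support₂ (dec t) = support₂ (dec t) := by
    rw [support₂_dec_inter, h]
  exact Finset.inter_eq_right.mp h1

theorem popc_and_xor (x s m : ℕ) :
    popc ((x ^^^ s) &&& m) % 2 = (popc (x &&& m) + popc (s &&& m)) % 2 := by
  rw [Nat.and_xor_distrib_right]
  have := popc_xor_add (x &&& m) (s &&& m)
  omega

theorem orth_of_mem_spanL (adL : List ℕ) (x : ℕ) (h : ∀ m ∈ adL, popc (x &&& m) % 2 = 0)
    (w : GolayPt → ZMod 2) (hw : w ∈ spanL adL) : ∑ i, w i * dec x i = 0 := by
  unfold spanL at hw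
  induction hw using Submodule.span_induction with
  | mem w hw =>
    obtain ⟨m, hm, rfl⟩ := hw
    rw [sum_dec_mul, ZMod.natCast_eq_zero_iff, Nat.and_comm]
    exact Nat.dvd_of_mod_eq_zero (h m hm)
  | zero => simp
  | add a b _ _ ha hb =>
    simp only [Pi.add_apply, add_mul, Finset.sum_add_distrib, ha, hb, add_zero]
  | smul c a _ ha =>
    simp only [Pi.smul_apply, smul_eq_mul, mul_assoc, ← Finset.mul_sum, ha, mul_zero]

/-- A mask orthogonal to a list of masks spanning the code lies in the code. -/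
theorem mem_sums_of_orth {x : ℕ} (hx : x < 2 ^ 24) (adL coef : List ℕ)
    (hgB : gB = coef.map (comb adL)) (h : ∀ m ∈ adL, popc (x &&& m) % 2 = 0) :
    x ∈ sums gB := by
  apply mem_sums_of_dec_mem hx
  apply mem_golay_of_orth
  intro w hw
  have hle : spanL gB ≤ spanL adL := by
    apply Submodule.span_le.mpr
    rintro w ⟨b, hb, rfl⟩
    have hb' : b ∈ coef.map (comb adL) := by rw [← hgB]; exact hb
    rw [List.mem_map] at hb'
    obtain ⟨c, _, rfl⟩ := hb'
    exact dec_comb_mem adL c
  have hw' : w ∈ spanL adL := by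
    rw [golay_eq_spanL_genL, spanL_genL_eq] at hw
    exact hle hw
  exact orth_of_mem_spanL adL x h w hw'

end Cfsg.Agent.Lib.Helper9
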