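import Mathlib
import Cfsg.Prelude.Def_Sporadic_a
import Cfsg.Agent.Lib.Helper9.Steiner

set_option autoImplicit false

namespace Cfsg.Agent.Lib.Helper9

open Finset

/-- Derived design at a set of points: removing the points of `A` from the blocks containing `A`. -/
theorem derived_finset {α : Type*} [DecidableEq α] {t k : ℕ} {B : Set (Finset α)}
    (A : Finset α) (hB : Cfsg.IsSteinerSystem (t + A.card) (k + A.card) B) :
    Cfsg.IsSteinerSystem t k {b' : Finset {a : α // a ∉ A} |
      ∃ b ∈ B, A ⊆ b ∧ b' = Finset.subtype (fun a => a ∉ A) b} := by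
  classical
  obtain ⟨hk, hex⟩ := hB
  refine ⟨?_, ?_⟩
  · rintro b' ⟨b, hb, hAb, rfl⟩
    rw [Finset.card_subtype]
    have h1 : b.filter (fun a => a ∉ A) = b \ A := by
      ext a
      simp
    rw [h1, Finset.card_sdiff_of_subset hAb, hk b hb]
    omega
  · intro s hs
    set s0 : Finset α := A ∪ (s.map (Function.Embedding.subtype _)) with hs0
    have hdisj : Disjoint A (s.map (Function.Embedding.subtype (fun a => a ∉ A))) := by
      rw [Finset.disjoint_left]
      intro a ha ha'
      rw [Finset.mem_map] at ha'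
      obtain ⟨y, -, rfl⟩ := ha'
      exact y.2 ha
    have hcard : s0.card = t + A.card := by
      rw [hs0, Finset.card_union_of_disjoint hdisj, Finset.card_map, hs, add_comm]
    obtain ⟨b, ⟨hbB, hsb⟩, huniq⟩ := hex s0 hcard
    have hAb : A ⊆ b := fun x hx => hsb (Finset.mem_union_left _ hx)
    refine ⟨Finset.subtype (fun a => a ∉ A) b, ⟨⟨b, hbB, hAb, rfl⟩, ?_⟩, ?_⟩
    · intro x hx
      rw [Finset.mem_subtype]
      apply hsb
      rw [hs0]
      apply Finset.mem_union_right
      rw [Finset.mem_map]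
      exact ⟨x, hx, rfl⟩
    · rintro c' ⟨⟨c, hcB, hAc, rfl⟩, hsc⟩
      have : c = b := by
        apply huniq c ⟨hcB, ?_⟩
        intro x hx
        rw [hs0, Finset.mem_union] at hx
        rcases hx with hx | hx
        · exact hAc hx
        · rw [Finset.mem_map] at hx
          obtain ⟨y, hy, rfl⟩ := hx
          have := hsc hy
          rw [Finset.mem_subtype] at this
          exact this
      rw [this]

/-- The image of a Steiner system under a bijection is a Steiner system. -/
theorem steiner_image {α β : Type*} [DecidableEq α] [DecidableEq β] {t k : ℕ}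
    {B : Set (Finset α)} (hB : Cfsg.IsSteinerSystem t k B) (e : α ≃ β) :
    Cfsg.IsSteinerSystem t k ((fun b => b.image e) '' B) := by
  obtain ⟨hk, hex⟩ := hB
  refine ⟨?_, ?_⟩
  · rintro _ ⟨b, hb, rfl⟩
    rw [Finset.card_image_of_injective _ e.injective]
    exact hk b hb
  · intro s hs
    have hs' : (s.image e.symm).card = t := by
      rw [Finset.card_image_of_injective _ e.symm.injective]
      exact hs
    obtain ⟨b, ⟨hbB, hsb⟩, huniq⟩ := hex _ hs'
    refine ⟨b.image e, ⟨⟨b, hbB, rfl⟩, ?_⟩, ?_⟩
    · intro x hx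
      rw [Finset.mem_image]
      exact ⟨e.symm x, hsb (Finset.mem_image_of_mem _ hx), e.apply_symm_apply x⟩
    · rintro _ ⟨⟨c, hcB, rfl⟩, hsc⟩
      have : c = b := by
        apply huniq c ⟨hcB, ?_⟩
        intro x hx
        rw [Finset.mem_image] at hx
        obtain ⟨y, hy, rfl⟩ := hx
        have := hsc hy
        rw [Finset.mem_image] at this
        obtain ⟨z, hz, hzy⟩ := this
        have : z = e.symm y := by rw [← hzy, e.symm_apply_apply]
        rw [← this]
        exact hz
      rw [this]

theorem setSystemIso_symm {α β : Type*} [DecidableEq α] [DecidableEq β] {B : Set (Finset α)}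
    {B' : Set (Finset β)} (h : Cfsg.SetSystemIso B B') : Cfsg.SetSystemIso B' B := by
  obtain ⟨e, he⟩ := h
  refine ⟨e.symm, ?_⟩
  rw [← he, Set.image_image]
  convert Set.image_id B using 2
  ext b : 1
  rw [Finset.image_image]
  simp

theorem setSystemIso_trans {α β γ : Type*} [DecidableEq β] [DecidableEq γ] {B : Set (Finset α)}
    {B' : Set (Finset β)} {B'' : Set (Finset γ)} (h : Cfsg.SetSystemIso B B')
    (h' : Cfsg.SetSystemIso B' B'') : Cfsg.SetSystemIso B B'' := by
  obtain ⟨e, he⟩ := h
  obtain ⟨e', he'⟩ := h'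
  refine ⟨e.trans e', ?_⟩
  rw [← he', ← he, Set.image_image]
  congr 1
  ext b : 1
  rw [Finset.image_image]
  rfl

/-- A Steiner system contained in another one with the same parameters is equal to it. -/
theorem steiner_eq_of_subset {α : Type*} [DecidableEq α] {t k : ℕ} {B B' : Set (Finset α)}
    (hB : Cfsg.IsSteinerSystem t k B) (hB' : Cfsg.IsSteinerSystem t k B') (hsub : B ⊆ B')
    (htk : t ≤ k) : B = B' := by
  apply Set.Subset.antisymm hsub
  intro b' hb'
  have hc : t ≤ b'.card := by rw [hB'.1 b' hb']; exact htk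
  obtain ⟨s, hs, hsc⟩ := Finset.exists_subset_card_eq hc
  obtain ⟨b, ⟨hb, hsb⟩, -⟩ := hB.2 s hsc
  obtain ⟨d, -, hd⟩ := hB'.2 s hsc
  have h1 := hd b ⟨hsub hb, hsb⟩
  have h2 := hd b' ⟨hb', hs⟩
  rw [h2, ← h1]
  exact hb

end Cfsg.Agent.Lib.Helper9
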