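import Mathlib
import Cfsg.Prelude.Def_Sporadic_a
import Cfsg.Agent.Lib.Helper9.GolayDual
import Cfsg.Agent.Lib.Helper9.SteinerGen
import Cfsg.Agent.Lib.Helper9.Steiner5824
import Cfsg.Agent.Lib.Helper9.M24Chain
import Cfsg.Agent.Lib.Helper95.M24Tab
import Cfsg.Agent.S0363

set_option autoImplicit false

namespace Cfsg.Agent.Lib.Helper9

open Cfsg
open Cfsg.Agent.Lib.Helper95 (tperm permOK hasTable_tperm)

/-! ### Uniqueness of the Steiner system `S(5,8,24)`: the concrete part

The three special points are `pt 23`, `pt 0`, `pt 1` (bits 23, 0, 1). -/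

/-- Masks of the 21 octads through the three special points. -/
def lineL : List ℕ :=
  [8398155, 8421811, 8505411, 8524371, 8536111, 8657159, 8716939, 8983587, 9347075, 9465987,
   9471495, 9963547, 10496547, 10765331, 11010247, 11731203, 12656663, 12717187, 13124355,
   13893731, 14716939]

/-- The octad through the points 23, 0, 2, 3, 4. -/
def oAB : ℕ := 10486557

/-- The octad through the points 23, 1, 2, 3, 4. -/
def oAC : ℕ := 8683614

/-- A list of 23 octads spanning the code. -/
def adL : List ℕ := lineL ++ [oAB, oAC]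

def adCoef : List ℕ :=
  [4194306, 2101407, 537, 4097, 6361148, 2101251, 6295613, 4194346, 6295587, 2101248, 6295611,
   2101249]

theorem gB_eq_comb_adL : gB = adCoef.map (comb adL) := by decide +kernel

/-- The empty set and the three pairs of special points. -/
def pairL : List ℕ := [0, 8388609, 8388610, 3]

theorem pairL_lt : ∀ s ∈ pairL, s < 2 ^ 24 := by decide

theorem pairL_lines : ∀ s ∈ pairL, ∀ L ∈ lineL, popc (s &&& L) % 2 = 0 := by decide +kernel

theorem pairL_choice : ∀ a < 2, ∀ b < 2, ∃ s ∈ pairL,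
    popc (s &&& oAB) % 2 = a ∧ popc (s &&& oAC) % 2 = b := by decide +kernel

/-- A mask orthogonal to the 21 line octads lies in the code up to adding a pair of special
points. -/
theorem exists_pair_of_orth_lines {x : ℕ} (hx : x < 2 ^ 24)
    (h : ∀ L ∈ lineL, popc (x &&& L) % 2 = 0) : ∃ s ∈ pairL, x ^^^ s ∈ sums gB := by
  obtain ⟨s, hs, e1, e2⟩ := pairL_choice (popc (x &&& oAB) % 2) (Nat.mod_lt _ (by norm_num))
    (popc (x &&& oAC) % 2) (Nat.mod_lt _ (by norm_num))
  refine ⟨s, hs, ?_⟩
  apply mem_sums_of_orth (Nat.xor_lt_two_pow hx (pairL_lt s hs)) adL adCoef gB_eq_comb_adL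
  intro m hm
  rw [popc_and_xor]
  rw [adL, List.mem_append] at hm
  rcases hm with hm | hm
  · have h1 := h m hm
    have h2 := pairL_lines s hs m hm
    omega
  · simp only [List.mem_cons, List.not_mem_nil, or_false] at hm
    rcases hm with rfl | rfl <;> omega

/-- All masks of weight 8 that lie in the code up to adding a pair of special points. -/
def blkL : List ℕ :=
  (pairL.flatMap (fun s => (sums gB).map (fun m => m ^^^ s))).filter (fun x => popc x == 8)

theorem mem_blkL {x : ℕ} (h8 : popc x = 8) {s : ℕ} (hs : s ∈ pairL) (hm : x ^^^ s ∈ sums gB) :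
    x ∈ blkL := by
  simp only [blkL, List.mem_filter, List.mem_flatMap, List.mem_map, beq_iff_eq]
  exact ⟨⟨s, hs, x ^^^ s, hm, by rw [Nat.xor_assoc, Nat.xor_self, Nat.xor_zero]⟩, h8⟩

theorem card_golayPt24 : Fintype.card GolayPt = 24 := by
  simp [ZMod.card]

/-- Two blocks of an `S(5,8,24)` on the 24 points, given by masks, meet evenly. -/
theorem popc_and_even_of_blocks {D : Set (Finset GolayPt)} (hD : IsSteinerSystem 5 8 D)
    {x m : ℕ} (hx : support₂ (dec x) ∈ D) (hm : support₂ (dec m) ∈ D) :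
    popc (x &&& m) % 2 = 0 := by
  by_cases heq : support₂ (dec x) = support₂ (dec m)
  · have h1 : (support₂ (dec x) ∩ support₂ (dec m)).card = 8 := by
      rw [← heq, Finset.inter_self]
      exact hD.1 _ hx
    rw [support₂_dec_inter, card_support₂_dec] at h1
    omega
  · have h1 := inter_card_5_8_24 card_golayPt24 hD hx hm heq
    rw [support₂_dec_inter, card_support₂_dec] at h1
    omega

/-- Two blocks given by different masks meet in at most four points. -/
theorem block_inter_le {D : Set (Finset GolayPt)} (hD : IsSteinerSystem 5 8 D) {x y : ℕ}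
    (hx24 : x < 2 ^ 24) (hy24 : y < 2 ^ 24) (hx : support₂ (dec x) ∈ D)
    (hy : support₂ (dec y) ∈ D) : x = y ∨ popc (x &&& y) ≤ 4 := by
  by_contra hcon
  push Not at hcon
  have h := eq_of_le_card_inter hD hx hy
    (by rw [support₂_dec_inter, card_support₂_dec]; omega)
  exact hcon.1 (dec_injOn hx24 hy24 (support₂_injective h))

/-- Every block of an `S(5,8,24)` containing the line octads has its mask in `blkL`. -/
theorem block_mask {D : Set (Finset GolayPt)} (hD : IsSteinerSystem 5 8 D)
    (hL : ∀ L ∈ lineL, support₂ (dec L) ∈ D) {X : Finset GolayPt} (hX : X ∈ D) :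
    ∃ x, x < 2 ^ 24 ∧ x ∈ blkL ∧ support₂ (dec x) = X := by
  obtain ⟨x, hx, rfl⟩ := exists_mask X
  have h8 : popc x = 8 := by
    rw [← card_support₂_dec]
    exact hD.1 _ hX
  obtain ⟨s, hs, hm⟩ := exists_pair_of_orth_lines hx
    (fun L hLm => popc_and_even_of_blocks hD hX (hL L hLm))
  exact ⟨x, hx, mem_blkL h8 hs hm, rfl⟩

theorem exists_block_through {D : Set (Finset GolayPt)} (hD : IsSteinerSystem 5 8 D)
    (hL : ∀ L ∈ lineL, support₂ (dec L) ∈ D) (t : ℕ) (ht : t < 2 ^ 24) (h5 : popc t = 5) :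
    ∃ x, x < 2 ^ 24 ∧ x ∈ blkL ∧ support₂ (dec x) ∈ D ∧ x &&& t = t := by
  obtain ⟨X, ⟨hX, hsub⟩, -⟩ := hD.2 (support₂ (dec t)) (by rw [card_support₂_dec, h5])
  obtain ⟨x, hx, hxb, rfl⟩ := block_mask hD hL hX
  exact ⟨x, hx, hxb, hX, and_eq_of_subset ht hsub⟩

def candAB : List ℕ := [10486557, 8393885, 8683613]

def candAC : List ℕ := [8683614, 8393886, 10486558]

def candBC : List ℕ := [5279, 295007, 2097951]

theorem blk_AB : ∀ x ∈ blkL, x &&& 8388637 = 8388637 → x ∈ candAB := by decide +kernel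

theorem blk_AC : ∀ x ∈ blkL, x &&& 8388638 = 8388638 → x ∈ candAC := by decide +kernel

theorem blk_BC : ∀ x ∈ blkL, x &&& 31 = 31 → x ∈ candBC := by decide +kernel

/-- Tables of the six permutations of the three special points. -/
def permTabs : List (List ℕ) :=
  [[0, 1, 2, 3, 4, 5, 6, 7, 8, 9, 10, 11, 12, 13, 14, 15, 16, 17, 18, 19, 20, 21, 22, 23],
   [1, 0, 2, 3, 4, 5, 6, 7, 8, 9, 10, 11, 12, 13, 14, 15, 16, 17, 18, 19, 20, 21, 22, 23],
   [23, 1, 2, 3, 4, 5, 6, 7, 8, 9, 10, 11, 12, 13, 14, 15, 16, 17, 18, 19, 20, 21, 22, 0],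
   [1, 23, 2, 3, 4, 5, 6, 7, 8, 9, 10, 11, 12, 13, 14, 15, 16, 17, 18, 19, 20, 21, 22, 0],
   [23, 0, 2, 3, 4, 5, 6, 7, 8, 9, 10, 11, 12, 13, 14, 15, 16, 17, 18, 19, 20, 21, 22, 1],
   [0, 23, 2, 3, 4, 5, 6, 7, 8, 9, 10, 11, 12, 13, 14, 15, 16, 17, 18, 19, 20, 21, 22, 1]]

/-- Some permutation of the special points carries two of the three blocks to `oAB`, `oAC`. -/
def caseOK (x y z : ℕ) : Bool :=
  permTabs.any (fun R => permOK R && lineL.all (fun L => pull R L == L) &&
    [pull R x, pull R y, pull R z].contains oAB && [pull R x, pull R y, pull R z].contains oAC)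

theorem cases_ok : ∀ x ∈ candAB, ∀ y ∈ candAC, ∀ z ∈ candBC,
    (x = y ∨ popc (x &&& y) ≤ 4) → (x = z ∨ popc (x &&& z) ≤ 4) →
    (y = z ∨ popc (y &&& z) ≤ 4) → caseOK x y z = true := by decide +kernel

theorem octads_steiner : IsSteinerSystem 5 8 octads := Cfsg.Agent.S0363.result

/-- An `S(5,8,24)` on the 24 points containing the 23 octads of `adL` is the octad system. -/
theorem eq_octads_of_adL {D : Set (Finset GolayPt)} (hD : IsSteinerSystem 5 8 D)
    (h : ∀ m ∈ adL, support₂ (dec m) ∈ D) : D = octads := by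
  apply steiner_eq_of_subset hD octads_steiner ?_ (by norm_num)
  intro X hX
  obtain ⟨x, hx, rfl⟩ := exists_mask X
  have h8 : popc x = 8 := by
    rw [← card_support₂_dec]
    exact hD.1 _ hX
  have hmem : x ∈ sums gB := mem_sums_of_orth hx adL adCoef gB_eq_comb_adL
    (fun m hm => popc_and_even_of_blocks hD hX (h m hm))
  exact (mem_octads_iff _).mpr ⟨x, hmem, h8, rfl⟩

theorem image_inv_support₂ {ρ : Equiv.Perm GolayPt} {R : List ℕ} (hT : HasTable ρ R) (m : ℕ) :
    (support₂ (dec m)).image ⇑ρ⁻¹ = support₂ (dec (pull R m)) := by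
  rw [← dec_comp_of_table hT.1 hT.2]
  ext p
  rw [Finset.mem_image, mem_support₂]
  constructor
  · rintro ⟨q, hq, rfl⟩
    rw [mem_support₂] at hq
    simpa using hq
  · intro hp
    exact ⟨ρ p, (mem_support₂ _ _).mpr hp, by simp⟩

/-- An `S(5,8,24)` on the 24 points containing the 21 octads through the three special
points is the image of the octad system under a permutation. -/
theorem core24 {D : Set (Finset GolayPt)} (hD : IsSteinerSystem 5 8 D)
    (hL : ∀ L ∈ lineL, support₂ (dec L) ∈ D) :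
    ∃ ρ : Equiv.Perm GolayPt, (fun b => b.image ρ) '' D = octads := by
  obtain ⟨x, hx24, hxb, hxD, hxt⟩ := exists_block_through hD hL 8388637 (by norm_num)
    (by decide +kernel)
  obtain ⟨y, hy24, hyb, hyD, hyt⟩ := exists_block_through hD hL 8388638 (by norm_num)
    (by decide +kernel)
  obtain ⟨z, hz24, hzb, hzD, hzt⟩ := exists_block_through hD hL 31 (by norm_num)
    (by decide +kernel)
  have hc := cases_ok x (blk_AB x hxb hxt) y (blk_AC y hyb hyt) z (blk_BC z hzb hzt)
    (block_inter_le hD hx24 hy24 hxD hyD) (block_inter_le hD hx24 hz24 hxD hzD)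
    (block_inter_le hD hy24 hz24 hyD hzD)
  simp only [caseOK, List.any_eq_true, Bool.and_eq_true, List.all_eq_true, beq_iff_eq,
    List.contains_iff_mem] at hc
  obtain ⟨R, -, ⟨⟨hperm, hlines⟩, hab⟩, hac⟩ := hc
  have hT : HasTable (tperm R) R := hasTable_tperm hperm
  refine ⟨(tperm R)⁻¹, ?_⟩
  have hD' : IsSteinerSystem 5 8 ((fun b => b.image ⇑(tperm R)⁻¹) '' D) :=
    steiner_image hD (tperm R)⁻¹
  apply eq_octads_of_adL hD'
  have key : ∀ m, support₂ (dec m) ∈ D →
      support₂ (dec (pull R m)) ∈ (fun b => b.image ⇑(tperm R)⁻¹) '' D := by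
    intro m hm
    exact ⟨_, hm, image_inv_support₂ hT m⟩
  have hxyz : ∀ w ∈ [pull R x, pull R y, pull R z],
      support₂ (dec w) ∈ (fun b => b.image ⇑(tperm R)⁻¹) '' D := by
    intro w hw
    simp only [List.mem_cons, List.not_mem_nil, or_false] at hw
    rcases hw with rfl | rfl | rfl
    · exact key x hxD
    · exact key y hyD
    · exact key z hzD
  intro m hm
  rw [adL, List.mem_append] at hm
  rcases hm with hm | hm
  · have := key m (hL m hm)
    rwa [hlines m hm] at this
  · simp only [List.mem_cons, List.not_mem_nil, or_false] at hm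
    rcases hm with rfl | rfl
    · exact hxyz _ hab
    · exact hxyz _ hac

end Cfsg.Agent.Lib.Helper9
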