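import Mathlib
import Cfsg.Prelude.Def_Sporadic_a
import Cfsg.Agent.Lib.Helper9.Steiner24Uniq
import Cfsg.Agent.S5626

set_option autoImplicit false

namespace Cfsg.Agent.Lib.Helper9

open Cfsg

/-- The three special points `pt 23`, `pt 0`, `pt 1`. -/
def A0 : Finset GolayPt := support₂ (dec 8388611)

theorem card_A0 : A0.card = 3 := by
  rw [A0, card_support₂_dec]
  decide +kernel

theorem lineL_spec : ∀ L ∈ lineL, inCode L = true ∧ popc L = 8 ∧ L &&& 8388611 = 8388611 := by
  decide +kernel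

theorem card_subtype_not_mem {α : Type*} [Fintype α] [DecidableEq α] (A : Finset α) :
    Fintype.card {a : α // a ∉ A} = Fintype.card α - A.card := by
  rw [Fintype.card_of_subtype Aᶜ (fun x => Finset.mem_compl), Finset.card_compl]

/-- Every Steiner system `S(5,8,24)` is isomorphic to the system of octads. -/
theorem exists_iso_octads {α : Type*} [Fintype α] [DecidableEq α] (hα : Fintype.card α = 24)
    {B : Set (Finset α)} (hB : IsSteinerSystem 5 8 B) : SetSystemIso B octads := by
  classical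
  obtain ⟨A, -, hA⟩ := Finset.exists_subset_card_eq (s := (Finset.univ : Finset α)) (n := 3)
    (by rw [Finset.card_univ, hα]; norm_num)
  have hB' : IsSteinerSystem 2 5 {b' : Finset {a : α // a ∉ A} |
      ∃ b ∈ B, A ⊆ b ∧ b' = Finset.subtype (fun a => a ∉ A) b} :=
    derived_finset A (by rw [hA]; exact hB)
  have hC' : IsSteinerSystem 2 5 {b' : Finset {a : GolayPt // a ∉ A0} |
      ∃ b ∈ octads, A0 ⊆ b ∧ b' = Finset.subtype (fun a => a ∉ A0) b} :=
    derived_finset A0 (by rw [card_A0]; exact octads_steiner)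
  have hcα : Fintype.card {a : α // a ∉ A} = 21 := by
    rw [card_subtype_not_mem, hα, hA]
  have hcγ : Fintype.card {a : GolayPt // a ∉ A0} = 21 := by
    rw [card_subtype_not_mem, card_golayPt24, card_A0]
  obtain ⟨e', he'⟩ := Cfsg.Agent.S5626.result hcα hcγ hB' hC'
  have f : {a : α // a ∈ A} ≃ {a : GolayPt // a ∈ A0} :=
    Finset.equivOfCardEq (hA.trans card_A0.symm)
  let e : α ≃ GolayPt := (Equiv.sumCompl (fun a => a ∈ A)).symm.trans
    ((Equiv.sumCongr f e').trans (Equiv.sumCompl (fun a => a ∈ A0)))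
  have he_in : ∀ a (_ : a ∈ A), e a ∈ A0 := by
    intro a ha
    have h1 : e a = (f ⟨a, ha⟩ : GolayPt) := by
      simp only [e, Equiv.trans_apply]
      rw [Equiv.sumCompl_symm_apply_of_pos (p := fun a => a ∈ A) ha]
      rfl
    rw [h1]
    exact (f ⟨a, ha⟩).2
  have he_out : ∀ a (ha : a ∉ A), e a = (e' ⟨a, ha⟩ : GolayPt) := by
    intro a ha
    simp only [e, Equiv.trans_apply]
    rw [Equiv.sumCompl_symm_apply_of_neg (p := fun a => a ∈ A) ha]
    rfl
  have hL : ∀ L ∈ lineL, support₂ (dec L) ∈ (fun b => b.image e) '' B := by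
    intro L hLm
    obtain ⟨hLs, hL8, hLA⟩ := lineL_spec L hLm
    have hOoct : support₂ (dec L) ∈ octads :=
      (mem_octads_iff _).mpr ⟨L, mem_sums_of_inCode hLs, hL8, rfl⟩
    have hAO : A0 ⊆ support₂ (dec L) := subset_of_and_eq hLA
    have hO' : Finset.subtype (fun a => a ∉ A0) (support₂ (dec L)) ∈
        {b' : Finset {a : GolayPt // a ∉ A0} |
          ∃ b ∈ octads, A0 ⊆ b ∧ b' = Finset.subtype (fun a => a ∉ A0) b} :=
      ⟨_, hOoct, hAO, rfl⟩
    rw [← he'] at hO'
    obtain ⟨b', ⟨b, hbB, hAb, rfl⟩, hb'⟩ := hO'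
    refine ⟨b, hbB, ?_⟩
    apply Finset.eq_of_subset_of_card_le
    · intro q hq
      rw [Finset.mem_image] at hq
      obtain ⟨a, ha, rfl⟩ := hq
      by_cases haA : a ∈ A
      · exact hAO (he_in a haA)
      · rw [he_out a haA]
        have h1 : e' ⟨a, haA⟩ ∈ Finset.subtype (fun a => a ∉ A0) (support₂ (dec L)) := by
          rw [← hb']
          exact Finset.mem_image_of_mem _ (Finset.mem_subtype.mpr ha)
        exact Finset.mem_subtype.mp h1
    · rw [Finset.card_image_of_injective _ e.injective, hB.1 b hbB, card_support₂_dec, hL8]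
  obtain ⟨ρ, hρ⟩ := core24 (steiner_image hB e) hL
  refine ⟨e.trans ρ, ?_⟩
  rw [← hρ, Set.image_image]
  congr 1
  ext b : 1
  rw [Finset.image_image]
  rfl

end Cfsg.Agent.Lib.Helper9
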