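import Mathlib
import Cfsg.Prelude.Def_Sporadic_a
import Cfsg.Agent.Lib.Helper9.Steiner24Iso

set_option autoImplicit false

namespace Cfsg.Agent.Lib.Helper9

open Cfsg
open Cfsg.Agent.Lib.Helper95 (tperm permOK hasTable_tperm)

/-! ### Families of 8-sets with even intersections containing the line octads -/

/-- Every member of a family of 8-sets with pairwise even intersections that contains the
line octads has its mask in `blkL`. -/
theorem family_mask {D : Set (Finset GolayPt)} (h8 : ∀ Y ∈ D, Y.card = 8)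
    (heven : ∀ Y ∈ D, ∀ Y' ∈ D, Even (Y ∩ Y').card)
    (hL : ∀ L ∈ lineL, support₂ (dec L) ∈ D) {Y : Finset GolayPt} (hY : Y ∈ D) :
    ∃ y, y < 2 ^ 24 ∧ y ∈ blkL ∧ support₂ (dec y) = Y := by
  obtain ⟨y, hy, rfl⟩ := exists_mask Y
  have hy8 : popc y = 8 := by
    rw [← card_support₂_dec]
    exact h8 _ hY
  obtain ⟨s, hs, hm⟩ := exists_pair_of_orth_lines hy (fun L hLm => by
    have h1 := heven _ hY _ (hL L hLm)
    rw [support₂_dec_inter, card_support₂_dec] at h1
    exact Nat.even_iff.mp h1)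
  exact ⟨y, hy, mem_blkL hy8 hs hm, rfl⟩

theorem family_even {D : Set (Finset GolayPt)}
    (heven : ∀ Y ∈ D, ∀ Y' ∈ D, Even (Y ∩ Y').card) {x y : ℕ}
    (hx : support₂ (dec x) ∈ D) (hy : support₂ (dec y) ∈ D) : popc (x &&& y) % 2 = 0 := by
  have h1 := heven _ hx _ hy
  rw [support₂_dec_inter, card_support₂_dec] at h1
  exact Nat.even_iff.mp h1

theorem family_through {D : Set (Finset GolayPt)} (h8 : ∀ Y ∈ D, Y.card = 8)
    (heven : ∀ Y ∈ D, ∀ Y' ∈ D, Even (Y ∩ Y').card)
    (hL : ∀ L ∈ lineL, support₂ (dec L) ∈ D) {t : ℕ} (ht : t < 2 ^ 24)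
    (h : ∃ Y ∈ D, support₂ (dec t) ⊆ Y) :
    ∃ x, x < 2 ^ 24 ∧ x ∈ blkL ∧ support₂ (dec x) ∈ D ∧ x &&& t = t := by
  obtain ⟨Y, hY, hsub⟩ := h
  obtain ⟨x, hx, hxb, rfl⟩ := family_mask h8 heven hL hY
  exact ⟨x, hx, hxb, hY, and_eq_of_subset ht hsub⟩

/-- The image of a member under the inverse of a table permutation is an octad as soon as
the pulled back mask is in the code. -/
theorem image_mem_octads {R : List ℕ} (hR : permOK R = true) {w : ℕ}
    (h8 : (support₂ (dec w)).card = 8) (hc : inCode (pull R w) = true) :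
    (support₂ (dec w)).image ⇑(tperm R)⁻¹ ∈ octads := by
  have hT : HasTable (tperm R) R := hasTable_tperm hR
  have himg := image_inv_support₂ hT w
  rw [(mem_octads_iff _)]
  refine ⟨pull R w, mem_sums_of_inCode hc, ?_, himg.symm⟩
  rw [← card_support₂_dec, ← himg, Finset.card_image_of_injective _ (tperm R)⁻¹.injective]
  exact h8

/-- Case analysis for two blocks through the triangle and the pairs `{23, 0}`, `{23, 1}`. -/
def case23 (x y : ℕ) : Bool :=
  permTabs.any (fun R => permOK R && blkL.all (fun w =>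
    !(popc (w &&& x) % 2 == 0 && popc (w &&& y) % 2 == 0) || inCode (pull R w)))

theorem cases23 : ∀ x ∈ candAB, ∀ y ∈ candAC, (x = y ∨ popc (x &&& y) ≤ 4) →
    case23 x y = true := by decide +kernel

/-- A family of 8-sets with pairwise even intersections, distinct members meeting in at most
four points, which contains the line octads and members through the triangle together with
`{23, 0}` and `{23, 1}`, consists of octads up to a permutation of the three special points. -/
theorem core23 {D : Set (Finset GolayPt)} (h8 : ∀ Y ∈ D, Y.card = 8)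
    (heven : ∀ Y ∈ D, ∀ Y' ∈ D, Even (Y ∩ Y').card)
    (hle : ∀ Y ∈ D, ∀ Y' ∈ D, Y ≠ Y' → (Y ∩ Y').card ≤ 4)
    (hL : ∀ L ∈ lineL, support₂ (dec L) ∈ D)
    (hAB : ∃ Y ∈ D, support₂ (dec 8388637) ⊆ Y) (hAC : ∃ Y ∈ D, support₂ (dec 8388638) ⊆ Y) :
    ∃ R, permOK R = true ∧ ∀ Y ∈ D, Y.image ⇑(tperm R)⁻¹ ∈ octads := by
  obtain ⟨x, hx24, hxb, hxD, hxt⟩ := family_through h8 heven hL (by norm_num) hAB
  obtain ⟨y, hy24, hyb, hyD, hyt⟩ := family_through h8 heven hL (by norm_num) hAC
  have hxy : x = y ∨ popc (x &&& y) ≤ 4 := by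
    by_cases h : x = y
    · exact Or.inl h
    · right
      have h1 := hle _ hxD _ hyD (fun hh => h (dec_injOn hx24 hy24 (support₂_injective hh)))
      rwa [support₂_dec_inter, card_support₂_dec] at h1
  have hc := cases23 x (blk_AB x hxb hxt) y (blk_AC y hyb hyt) hxy
  simp only [case23, List.any_eq_true, Bool.and_eq_true, List.all_eq_true, Bool.or_eq_true,
    Bool.not_eq_true', Bool.and_eq_false_iff, beq_eq_false_iff_ne, ne_eq] at hc
  obtain ⟨R, -, hperm, hall⟩ := hc
  refine ⟨R, hperm, ?_⟩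
  intro Y hY
  obtain ⟨w, hw24, hwb, rfl⟩ := family_mask h8 heven hL hY
  have h1 := family_even heven hY hxD
  have h2 := family_even heven hY hyD
  rcases hall w hwb with (h | h) | h
  · exact absurd h1 h
  · exact absurd h2 h
  · exact image_mem_octads hperm (h8 _ hY) h

/-- Case analysis for one block through the triangle and the pair `{23, 0}`. -/
def case22 (x : ℕ) : Bool :=
  permTabs.any (fun R => permOK R && blkL.all (fun w =>
    !(w &&& 8388609 == 8388609 && popc (w &&& x) % 2 == 0) || inCode (pull R w)))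

theorem cases22 : ∀ x ∈ candAB, case22 x = true := by decide +kernel

/-- A family of 8-sets through the points 23 and 0 with pairwise even intersections which
contains the line octads and a member through the triangle consists of octads up to a
permutation of the three special points. -/
theorem core22 {D : Set (Finset GolayPt)} (h8 : ∀ Y ∈ D, Y.card = 8)
    (heven : ∀ Y ∈ D, ∀ Y' ∈ D, Even (Y ∩ Y').card)
    (hL : ∀ L ∈ lineL, support₂ (dec L) ∈ D)
    (hAB : ∃ Y ∈ D, support₂ (dec 8388637) ⊆ Y)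
    (hP : ∀ Y ∈ D, support₂ (dec 8388609) ⊆ Y) :
    ∃ R, permOK R = true ∧ ∀ Y ∈ D, Y.image ⇑(tperm R)⁻¹ ∈ octads := by
  obtain ⟨x, hx24, hxb, hxD, hxt⟩ := family_through h8 heven hL (by norm_num) hAB
  have hc := cases22 x (blk_AB x hxb hxt)
  simp only [case22, List.any_eq_true, Bool.and_eq_true, List.all_eq_true, Bool.or_eq_true,
    Bool.not_eq_true', Bool.and_eq_false_iff, beq_eq_false_iff_ne, ne_eq] at hc
  obtain ⟨R, -, hperm, hall⟩ := hc
  refine ⟨R, hperm, ?_⟩
  intro Y hY
  obtain ⟨w, hw24, hwb, rfl⟩ := family_mask h8 heven hL hY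
  have h1 : w &&& 8388609 = 8388609 := and_eq_of_subset (by norm_num) (hP _ hY)
  have h2 := family_even heven hY hxD
  rcases hall w hwb with (h | h) | h
  · exact absurd h1 h
  · exact absurd h2 h
  · exact image_mem_octads hperm (h8 _ hY) h

end Cfsg.Agent.Lib.Helper9
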