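import Mathlib
import Cfsg.Prelude.Def_Sporadic_a
import Cfsg.Agent.Lib.Helper9.SteinerCore
import Cfsg.Agent.Lib.Helper9.M24Trans

set_option autoImplicit false

namespace Cfsg.Agent.Lib.Helper9

open Cfsg
open scoped Pointwise

/-! ### Derived designs of the octad system -/

/-- The derived design of the octad system at a set of points. -/
def der (P : Finset GolayPt) : Set (Finset {a : GolayPt // a ∉ P}) :=
  {b' | ∃ b ∈ octads, P ⊆ b ∧ b' = Finset.subtype (fun a => a ∉ P) b}

theorem der_steiner (P : Finset GolayPt) {t k : ℕ} (ht : t + P.card = 5) (hk : k + P.card = 8) :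
    IsSteinerSystem t k (der P) :=
  derived_finset P (by rw [ht, hk]; exact octads_steiner)

/-- A bijection onto the complement of `P` carrying a Steiner system into the derived design
of the octads at `P` is an isomorphism onto it. -/
theorem iso_der {β : Type*} [DecidableEq β] {t k : ℕ} {B : Set (Finset β)}
    (hB : IsSteinerSystem t k B) (htk : t ≤ k) {P : Finset GolayPt}
    (hP : IsSteinerSystem t k (der P)) (j : β ≃ {a : GolayPt // a ∉ P})
    (h : ∀ X ∈ B, P ∪ X.image (fun b => (j b : GolayPt)) ∈ octads) :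
    (fun b => b.image j) '' B = der P := by
  apply steiner_eq_of_subset (steiner_image hB j) hP ?_ htk
  rintro _ ⟨X, hX, rfl⟩
  refine ⟨_, h X hX, Finset.subset_union_left, ?_⟩
  ext a
  rw [Finset.mem_subtype, Finset.mem_union, Finset.mem_image, Finset.mem_image]
  constructor
  · rintro ⟨b, hb, rfl⟩
    exact Or.inr ⟨b, hb, rfl⟩
  · rintro (h1 | ⟨b, hb, hba⟩)
    · exact absurd h1 a.2
    · exact ⟨b, hb, Subtype.ext hba⟩

theorem smul_eq_image (g : Equiv.Perm GolayPt) (b : Finset GolayPt) : g • b = b.image g := by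
  ext x
  simp [Finset.mem_smul_finset]

/-- An element of `M24` carrying `P` to `P'` induces an isomorphism of the derived designs. -/
theorem der_iso_of_mem_M24 {P P' : Finset GolayPt} {g : Equiv.Perm GolayPt} (hg : g ∈ M24)
    (hgP : P.image g = P') {t k : ℕ} (htk : t ≤ k) (hP : IsSteinerSystem t k (der P))
    (hP' : IsSteinerSystem t k (der P')) : SetSystemIso (der P) (der P') := by
  subst hgP
  have hmem : ∀ a, a ∉ P ↔ g a ∉ P.image g := by
    intro a
    rw [Finset.mem_image]
    constructor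
    · rintro ha ⟨b, hb, hba⟩
      exact ha (g.injective hba ▸ hb)
    · intro ha hp
      exact ha ⟨a, hp, rfl⟩
  refine ⟨g.subtypeEquiv hmem, iso_der hP htk hP' (g.subtypeEquiv hmem) ?_⟩
  rintro X ⟨b, hb, hPb, rfl⟩
  have h1 : P.image g ∪ (Finset.subtype (fun a => a ∉ P) b).image
      (fun x => ((g.subtypeEquiv hmem x : {a : GolayPt // a ∉ P.image g}) : GolayPt)) =
      b.image g := by
    ext q
    rw [Finset.mem_union, Finset.mem_image, Finset.mem_image, Finset.mem_image]
    constructor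
    · rintro (⟨a, ha, rfl⟩ | ⟨x, hx, rfl⟩)
      · exact ⟨a, hPb ha, rfl⟩
      · exact ⟨x.1, Finset.mem_subtype.mp hx, rfl⟩
    · rintro ⟨a, ha, rfl⟩
      by_cases haP : a ∈ P
      · exact Or.inl ⟨a, haP, rfl⟩
      · exact Or.inr ⟨⟨a, haP⟩, Finset.mem_subtype.mpr ha, rfl⟩
  rw [h1, ← smul_eq_image]
  exact smul_octad_mem hg hb

/-! ### Families `Q0 ∪ ι X` -/

section family

variable {β : Type*} (Q0 : Finset GolayPt) (ι : β ↪ GolayPt)

theorem disjoint_map (hι : ∀ b, ι b ∉ Q0) (X : Finset β) : Disjoint Q0 (X.map ι) := by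
  rw [Finset.disjoint_left]
  intro p hp hp'
  rw [Finset.mem_map] at hp'
  obtain ⟨b, -, rfl⟩ := hp'
  exact hι b hp

theorem card_union_map (hι : ∀ b, ι b ∉ Q0) (X : Finset β) :
    (Q0 ∪ X.map ι).card = Q0.card + X.card := by
  rw [Finset.card_union_of_disjoint (disjoint_map Q0 ι hι X), Finset.card_map]

theorem inter_union_map [DecidableEq β] (X X' : Finset β) :
    (Q0 ∪ X.map ι) ∩ (Q0 ∪ X'.map ι) = Q0 ∪ (X ∩ X').map ι := by
  rw [← Finset.union_inter_distrib_left, ← Finset.map_inter]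

theorem union_map_inj (hι : ∀ b, ι b ∉ Q0) {X X' : Finset β}
    (h : Q0 ∪ X.map ι = Q0 ∪ X'.map ι) : X = X' := by
  have h1 : ∀ Z : Finset β, (Q0 ∪ Z.map ι) \ Q0 = Z.map ι := by
    intro Z
    rw [Finset.union_sdiff_left]
    exact Finset.sdiff_eq_self_of_disjoint (disjoint_map Q0 ι hι Z).symm
  have h2 : X.map ι = X'.map ι := by rw [← h1 X, ← h1 X', h]
  exact Finset.map_injective ι h2

theorem exists_preimage [Fintype β] (hι : ∀ b, ι b ∉ Q0)
    (hβ : Fintype.card β = 24 - Q0.card) (p : GolayPt) (hp : p ∉ Q0) : ∃ b, ι b = p := by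
  have hsub : (Finset.univ : Finset β).map ι ⊆ Q0ᶜ := by
    intro q hq
    rw [Finset.mem_map] at hq
    obtain ⟨b, -, rfl⟩ := hq
    exact Finset.mem_compl.mpr (hι b)
  have hcard : Q0ᶜ.card ≤ ((Finset.univ : Finset β).map ι).card := by
    rw [Finset.card_map, Finset.card_univ, hβ, Finset.card_compl, card_golayPt24]
  have heq := Finset.eq_of_subset_of_card_le hsub hcard
  have hp' : p ∈ (Finset.univ : Finset β).map ι := by
    rw [heq]
    exact Finset.mem_compl.mpr hp
  rw [Finset.mem_map] at hp'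
  obtain ⟨b, -, hb⟩ := hp'
  exact ⟨b, hb⟩

/-- Every set of `t + |Q0|` points containing `Q0` lies in a member of the family. -/
theorem family_through' [Fintype β] (hι : ∀ b, ι b ∉ Q0) (hβ : Fintype.card β = 24 - Q0.card)
    {t k : ℕ} {B : Set (Finset β)} (hB : IsSteinerSystem t k B) (M : Finset GolayPt)
    (hQM : Q0 ⊆ M) (hM : M.card = t + Q0.card) : ∃ X ∈ B, M ⊆ Q0 ∪ X.map ι := by
  classical
  set S' : Finset β := Finset.univ.filter (fun b => ι b ∈ M \ Q0) with hS'
  have hmap : S'.map ι = M \ Q0 := by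
    ext p
    rw [Finset.mem_map]
    constructor
    · rintro ⟨b, hb, rfl⟩
      rw [hS', Finset.mem_filter] at hb
      exact hb.2
    · intro hp
      obtain ⟨b, rfl⟩ := exists_preimage Q0 ι hι hβ p (Finset.mem_sdiff.mp hp).2
      exact ⟨b, by rw [hS', Finset.mem_filter]; exact ⟨Finset.mem_univ _, hp⟩, rfl⟩
  have hcard : S'.card = t := by
    rw [← Finset.card_map ι, hmap, Finset.card_sdiff_of_subset hQM, hM]
    omega
  obtain ⟨X, ⟨hX, hsub⟩, -⟩ := hB.2 S' hcard
  refine ⟨X, hX, ?_⟩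
  intro p hp
  by_cases hpQ : p ∈ Q0
  · exact Finset.mem_union_left _ hpQ
  · apply Finset.mem_union_right
    have hp' : p ∈ S'.map ι := by
      rw [hmap]
      exact Finset.mem_sdiff.mpr ⟨hp, hpQ⟩
    exact Finset.map_subset_map.mpr hsub hp'

end family

/-! ### The bridge: contraction to the plane and transport to the 24 points -/

/-- Let `Q0` be a set of at most two of the three special points.  A Steiner system
`S(5 - |Q0|, 8 - |Q0|, 24 - |Q0|)` can be transported onto the complement of `Q0` in the 24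
points in such a way that the blocks extended by `Q0` include the 21 line octads. -/
theorem bridge {β : Type*} [Fintype β] [DecidableEq β] (Q0 : Finset GolayPt) (hQ : Q0 ⊆ A0)
    (hq : Q0.card ≤ 2) (hβ : Fintype.card β = 24 - Q0.card) {B : Set (Finset β)}
    (hB : IsSteinerSystem (5 - Q0.card) (8 - Q0.card) B) :
    ∃ ι : β ↪ GolayPt, (∀ b, ι b ∉ Q0) ∧
      ∀ L ∈ lineL, ∃ X ∈ B, Q0 ∪ X.map ι = support₂ (dec L) := by
  classical
  have hA1 : (A0 \ Q0).card = 3 - Q0.card := by
    rw [Finset.card_sdiff_of_subset hQ, card_A0]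
  obtain ⟨A, -, hA⟩ := Finset.exists_subset_card_eq (s := (Finset.univ : Finset β))
    (n := 3 - Q0.card) (by rw [Finset.card_univ, hβ]; omega)
  have e1 : 2 + A.card = 5 - Q0.card := by omega
  have e2 : 5 + A.card = 8 - Q0.card := by omega
  have hB' : IsSteinerSystem 2 5 {b' : Finset {a : β // a ∉ A} |
      ∃ b ∈ B, A ⊆ b ∧ b' = Finset.subtype (fun a => a ∉ A) b} :=
    derived_finset A (by rw [e1, e2]; exact hB)
  have hC' : IsSteinerSystem 2 5 {b' : Finset {a : GolayPt // a ∉ A0} |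
      ∃ b ∈ octads, A0 ⊆ b ∧ b' = Finset.subtype (fun a => a ∉ A0) b} :=
    derived_finset A0 (by rw [card_A0]; exact octads_steiner)
  have hcα : Fintype.card {a : β // a ∉ A} = 21 := by
    rw [card_subtype_not_mem, hβ, hA]
    omega
  have hcγ : Fintype.card {a : GolayPt // a ∉ A0} = 21 := by
    rw [card_subtype_not_mem, card_golayPt24, card_A0]
  obtain ⟨e', he'⟩ := Cfsg.Agent.S5626.result hcα hcγ hB' hC'
  have f : {a : β // a ∈ A} ≃ {a : GolayPt // a ∈ A0 \ Q0} :=
    Finset.equivOfCardEq (hA.trans hA1.symm)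
  let ιf : β → GolayPt := fun b =>
    if h : b ∈ A then (f ⟨b, h⟩ : GolayPt) else (e' ⟨b, h⟩ : GolayPt)
  have hin : ∀ b (_ : b ∈ A), ιf b ∈ A0 \ Q0 := by
    intro b h
    simp only [ιf, dif_pos h]
    exact (f ⟨b, h⟩).2
  have hout : ∀ b (h : b ∉ A), ιf b = (e' ⟨b, h⟩ : GolayPt) := by
    intro b h
    simp only [ιf, dif_neg h]
  have hout' : ∀ b (_ : b ∉ A), ιf b ∉ A0 := by
    intro b h
    rw [hout b h]
    exact (e' ⟨b, h⟩).2
  have hinj : Function.Injective ιf := by
    intro b b' hbb'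
    by_cases h : b ∈ A <;> by_cases h' : b' ∈ A
    · have h1 : f ⟨b, h⟩ = f ⟨b', h'⟩ := by
        apply Subtype.ext
        simpa only [ιf, dif_pos h, dif_pos h'] using hbb'
      exact congrArg Subtype.val (f.injective h1)
    · exfalso
      have h1 := hin b h
      have h2 := hout' b' h'
      rw [← hbb'] at h2
      exact h2 (Finset.mem_sdiff.mp h1).1
    · exfalso
      have h1 := hin b' h'
      have h2 := hout' b h
      rw [hbb'] at h2
      exact h2 (Finset.mem_sdiff.mp h1).1
    · have h1 : e' ⟨b, h⟩ = e' ⟨b', h'⟩ := by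
        apply Subtype.ext
        rw [← hout b h, ← hout b' h']
        exact hbb'
      exact congrArg Subtype.val (e'.injective h1)
  have hι : ∀ b, ιf b ∉ Q0 := by
    intro b
    by_cases h : b ∈ A
    · exact (Finset.mem_sdiff.mp (hin b h)).2
    · exact fun hq' => hout' b h (hQ hq')
  refine ⟨⟨ιf, hinj⟩, hι, ?_⟩
  intro L hLm
  obtain ⟨hLs, hL8, hLA⟩ := lineL_spec L hLm
  have hOoct : support₂ (dec L) ∈ octads :=
    (mem_octads_iff _).mpr ⟨L, mem_sums_of_inCode hLs, hL8, rfl⟩
  have hAO : A0 ⊆ support₂ (dec L) := subset_of_and_eq hLA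
  have hO' : Finset.subtype (fun a => a ∉ A0) (support₂ (dec L)) ∈
      {b' : Finset {a : GolayPt // a ∉ A0} |
        ∃ b ∈ octads, A0 ⊆ b ∧ b' = Finset.subtype (fun a => a ∉ A0) b} :=
    ⟨_, hOoct, hAO, rfl⟩
  rw [← he'] at hO'
  obtain ⟨b', ⟨X, hXB, hAX, rfl⟩, hb'⟩ := hO'
  refine ⟨X, hXB, ?_⟩
  apply Finset.eq_of_subset_of_card_le
  · intro p hp
    rw [Finset.mem_union] at hp
    rcases hp with hp | hp
    · exact hAO (hQ hp)
    · rw [Finset.mem_map] at hp
      obtain ⟨a, ha, rfl⟩ := hp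
      show ιf a ∈ _
      by_cases haA : a ∈ A
      · exact hAO (Finset.sdiff_subset (hin a haA))
      · rw [hout a haA]
        have h1 : e' ⟨a, haA⟩ ∈ Finset.subtype (fun a => a ∉ A0) (support₂ (dec L)) := by
          rw [← hb']
          exact Finset.mem_image_of_mem _ (Finset.mem_subtype.mpr ha)
        exact Finset.mem_subtype.mp h1
  · rw [card_union_map Q0 ⟨ιf, hinj⟩ hι, hB.1 X hXB, card_support₂_dec, hL8]
    omega

end Cfsg.Agent.Lib.Helper9
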