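import Mathlib
import Cfsg.Prelude.Def_Sporadic_a
import Cfsg.Agent.Lib.Helper9.DerBridge
import Cfsg.Agent.S0355

set_option autoImplicit false

namespace Cfsg.Agent.Lib.Helper9

open Cfsg
open Cfsg.Agent.Lib.Helper95 (tperm permOK hasTable_tperm)

/-- From a transport of a Steiner system into the 24 points whose extended blocks become
octads under a permutation, an isomorphism onto a derived design of the octads. -/
theorem iso_der_of_perm {β : Type*} [Fintype β] [DecidableEq β] {t k : ℕ}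
    {B : Set (Finset β)} (hB : IsSteinerSystem t k B) (htk : t ≤ k) (Q0 : Finset GolayPt)
    (ht : t + Q0.card = 5) (hk : k + Q0.card = 8) (hβ : Fintype.card β = 24 - Q0.card)
    (ι : β ↪ GolayPt) (hι : ∀ b, ι b ∉ Q0) (ρ : Equiv.Perm GolayPt)
    (h : ∀ X ∈ B, (Q0 ∪ X.map ι).image ρ ∈ octads) :
    SetSystemIso B (der (Q0.image ρ)) := by
  have hQ'card : (Q0.image ρ).card = Q0.card := Finset.card_image_of_injective _ ρ.injective
  let jf : β → {a : GolayPt // a ∉ Q0.image ρ} := fun b => ⟨ρ (ι b), by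
    intro hh
    rw [Finset.mem_image] at hh
    obtain ⟨q, hq, hqb⟩ := hh
    have := ρ.injective hqb
    exact hι b (this ▸ hq)⟩
  have hjinj : Function.Injective jf := fun b b' hh =>
    ι.injective (ρ.injective (congrArg Subtype.val hh))
  have hjcard : Fintype.card β = Fintype.card {a : GolayPt // a ∉ Q0.image ρ} := by
    rw [card_subtype_not_mem, card_golayPt24, hQ'card, hβ]
  let j : β ≃ {a : GolayPt // a ∉ Q0.image ρ} :=
    Equiv.ofBijective jf ((Fintype.bijective_iff_injective_and_card jf).mpr ⟨hjinj, hjcard⟩)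
  refine ⟨j, iso_der hB htk (der_steiner _ (by rw [hQ'card]; exact ht)
    (by rw [hQ'card]; exact hk)) j ?_⟩
  intro X hX
  have h2 : Q0.image ρ ∪ X.image (fun b => (j b : GolayPt)) = (Q0 ∪ X.map ι).image ρ := by
    rw [Finset.image_union, Finset.map_eq_image, Finset.image_image]
    rfl
  rw [h2]
  exact h X hX

/-- The point `pt 23`. -/
def P23 : Finset GolayPt := {pt 23}

theorem card_P23 : P23.card = 1 := rfl

theorem P23_sub_A0 : P23 ⊆ A0 := by decide +kernel

theorem P23_sub_AB : P23 ⊆ support₂ (dec 8388637) := by decide +kernel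

theorem P23_sub_AC : P23 ⊆ support₂ (dec 8388638) := by decide +kernel

/-- Every Steiner system `S(4,7,23)` is isomorphic to the derived design of the octads at the
point `pt 23`. -/
theorem exists_iso_der23 {β : Type*} [Fintype β] [DecidableEq β] (hβ : Fintype.card β = 23)
    {B : Set (Finset β)} (hB : IsSteinerSystem 4 7 B) : SetSystemIso B (der P23) := by
  obtain ⟨ι, hι, hlines⟩ := bridge P23 P23_sub_A0 (by rw [card_P23]; norm_num)
    (by rw [card_P23]; exact hβ) (by rw [card_P23]; exact hB)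
  have hint : ∀ X ∈ B, ∀ X' ∈ B, (X ∩ X').card = 1 ∨ (X ∩ X').card = 3 ∨ X = X' := by
    intro X hX X' hX'
    by_cases h : X = X'
    · exact Or.inr (Or.inr h)
    · rcases Cfsg.Agent.S0355.result hβ hB hX hX' h with h1 | h1
      · exact Or.inl h1
      · exact Or.inr (Or.inl h1)
  obtain ⟨D, hD⟩ : ∃ D : Set (Finset GolayPt), D = {Y | ∃ X ∈ B, Y = P23 ∪ X.map ι} := ⟨_, rfl⟩
  have hmem : ∀ X ∈ B, P23 ∪ X.map ι ∈ D := fun X hX => by rw [hD]; exact ⟨X, hX, rfl⟩
  have h8 : ∀ Y ∈ D, Y.card = 8 := by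
    intro Y hY
    rw [hD] at hY
    obtain ⟨X, hX, rfl⟩ := hY
    rw [card_union_map _ _ hι, card_P23, hB.1 X hX]
  have heven : ∀ Y ∈ D, ∀ Y' ∈ D, Even (Y ∩ Y').card := by
    intro Y hY Y' hY'
    rw [hD] at hY hY'
    obtain ⟨X, hX, rfl⟩ := hY
    obtain ⟨X', hX', rfl⟩ := hY'
    rw [inter_union_map, card_union_map _ _ hι, card_P23]
    rcases hint X hX X' hX' with h | h | h
    · rw [h]; decide
    · rw [h]; decide
    · rw [h, Finset.inter_self, hB.1 X' hX']; decide
  have hle : ∀ Y ∈ D, ∀ Y' ∈ D, Y ≠ Y' → (Y ∩ Y').card ≤ 4 := by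
    intro Y hY Y' hY' hne
    rw [hD] at hY hY'
    obtain ⟨X, hX, rfl⟩ := hY
    obtain ⟨X', hX', rfl⟩ := hY'
    rw [inter_union_map, card_union_map _ _ hι, card_P23]
    rcases hint X hX X' hX' with h | h | h
    · omega
    · omega
    · exact absurd (by rw [h]) hne
  have hL : ∀ L ∈ lineL, support₂ (dec L) ∈ D := by
    intro L hLm
    obtain ⟨X, hX, e⟩ := hlines L hLm
    rw [← e]
    exact hmem X hX
  have hAB : ∃ Y ∈ D, support₂ (dec 8388637) ⊆ Y := by
    obtain ⟨X, hX, hsub⟩ := family_through' P23 ι hι (by rw [card_P23]; exact hβ) hB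
      (support₂ (dec 8388637)) P23_sub_AB (by rw [card_support₂_dec, card_P23]; decide +kernel)
    exact ⟨_, hmem X hX, hsub⟩
  have hAC : ∃ Y ∈ D, support₂ (dec 8388638) ⊆ Y := by
    obtain ⟨X, hX, hsub⟩ := family_through' P23 ι hι (by rw [card_P23]; exact hβ) hB
      (support₂ (dec 8388638)) P23_sub_AC (by rw [card_support₂_dec, card_P23]; decide +kernel)
    exact ⟨_, hmem X hX, hsub⟩
  obtain ⟨R, hperm, hR⟩ := core23 h8 heven hle hL hAB hAC
  have hiso1 := iso_der_of_perm hB (by norm_num) P23 (by rw [card_P23]) (by rw [card_P23])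
    (by rw [card_P23]; exact hβ) ι hι (tperm R)⁻¹ (fun X hX => hR _ (hmem X hX))
  obtain ⟨g, hg, hgp⟩ := exists_map_one ((tperm R)⁻¹ (pt 23))
  have hc : (P23.image ⇑(tperm R)⁻¹).card = 1 := by
    rw [Finset.card_image_of_injective _ (tperm R)⁻¹.injective, card_P23]
  have hiso2 : SetSystemIso (der (P23.image ⇑(tperm R)⁻¹)) (der P23) :=
    der_iso_of_mem_M24 (t := 4) (k := 7) hg
      (by rw [P23, Finset.image_singleton, Finset.image_singleton, hgp])
      (by norm_num) (der_steiner _ (by rw [hc]) (by rw [hc]))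
      (der_steiner _ (by rw [card_P23]) (by rw [card_P23]))
  exact setSystemIso_trans hiso1 hiso2

end Cfsg.Agent.Lib.Helper9
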