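import Mathlib
import Cfsg.Prelude.Def_Sporadic_a
import Cfsg.Agent.Lib.Helper9.Steiner23
import Cfsg.Agent.Lib.Helper9.AutTransfer
import Cfsg.Agent.Lib.Helper9.M23Simple
import Cfsg.Agent.S0369

set_option autoImplicit false

namespace Cfsg.Agent.Lib.Helper9

open Cfsg
open scoped Pointwise

/-! ### Automorphisms of derived designs of the octad system -/

/-- The extension by the identity of an automorphism of the derived design at `P` maps the
octads through `P` to octads through `P`. -/
theorem image_ofSubtype_mem {P : Finset GolayPt} {σ : Equiv.Perm {a : GolayPt // a ∉ P}}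
    (hσ : σ ∈ setSystemAut (der P)) {O : Finset GolayPt} (hO : O ∈ octads) (hPO : P ⊆ O) :
    O.image (Equiv.Perm.ofSubtype σ) ∈ octads ∧ P ⊆ O.image (Equiv.Perm.ofSubtype σ) := by
  have h1 : Finset.subtype (fun a => a ∉ P) O ∈ der P := ⟨O, hO, hPO, rfl⟩
  have h2 : σ • Finset.subtype (fun a => a ∉ P) O ∈ der P := by
    have hs : σ • der P = der P := hσ
    rw [← hs]
    exact Set.smul_mem_smul_set h1
  obtain ⟨O₃, hO₃, hPO₃, h3⟩ := h2
  have heq : O.image (Equiv.Perm.ofSubtype σ) = O₃ := by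
    apply Finset.eq_of_subset_of_card_le
    · intro q hq
      rw [Finset.mem_image] at hq
      obtain ⟨x, hx, rfl⟩ := hq
      by_cases hxP : x ∈ P
      · rw [Equiv.Perm.ofSubtype_apply_of_not_mem σ (not_not.mpr hxP)]
        exact hPO₃ hxP
      · rw [Equiv.Perm.ofSubtype_apply_of_mem σ hxP]
        have h4 : σ ⟨x, hxP⟩ ∈ σ • Finset.subtype (fun a => a ∉ P) O :=
          Finset.smul_mem_smul_finset (Finset.mem_subtype.mpr hx)
        rw [h3] at h4
        exact Finset.mem_subtype.mp h4
    · rw [Finset.card_image_of_injective _ (Equiv.Perm.ofSubtype σ).injective, card_octad hO,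
        card_octad hO₃]
  rw [heq]
  exact ⟨hO₃, hPO₃⟩

/-- An element of `M24` fixing `P` pointwise restricts to an automorphism of the derived
design at `P`. -/
theorem subtypePerm_mem {P : Finset GolayPt} {g : Equiv.Perm GolayPt} (hg : g ∈ M24)
    (hfix : ∀ x ∈ P, g x = x) :
    ∃ σ : Equiv.Perm {a : GolayPt // a ∉ P},
      σ ∈ setSystemAut (der P) ∧ Equiv.Perm.ofSubtype σ = g := by
  have h₁ : ∀ x, (fun a => a ∉ P) (g x) ↔ (fun a => a ∉ P) x := by
    intro x
    show (g x ∉ P) ↔ (x ∉ P)
    constructor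
    · intro h hx
      exact h (by rw [hfix x hx]; exact hx)
    · intro h hgx
      have h2 := hfix (g x) hgx
      exact h (by rw [← g.injective h2]; exact hgx)
  have hof : Equiv.Perm.ofSubtype (g.subtypePerm (p := fun a => a ∉ P) h₁) = g :=
    Equiv.Perm.ofSubtype_subtypePerm (p := fun a => a ∉ P) h₁
      (fun x hx hxP => hx (hfix x hxP))
  refine ⟨g.subtypePerm (p := fun a => a ∉ P) h₁, ?_, hof⟩
  show g.subtypePerm (p := fun a => a ∉ P) h₁ ∈ MulAction.stabilizer _ (der P)
  rw [MulAction.mem_stabilizer_set_iff_smul_set_subset (Set.toFinite _)]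
  rintro _ ⟨b', ⟨O, hO, hPO, rfl⟩, rfl⟩
  refine ⟨O.image g, by rw [← smul_eq_image]; exact smul_octad_mem hg hO, ?_, ?_⟩
  · intro x hx
    exact Finset.mem_image.mpr ⟨x, hPO hx, hfix x hx⟩
  · ext ⟨x, hx⟩
    rw [Finset.mem_smul_finset, Finset.mem_subtype, Finset.mem_image]
    constructor
    · rintro ⟨y, hy, hyx⟩
      exact ⟨y.1, Finset.mem_subtype.mp hy, congrArg Subtype.val hyx⟩
    · rintro ⟨y, hy, hyx⟩
      have hyP : y ∉ P := by
        apply (h₁ y).mp
        show g y ∉ P
        rw [hyx]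
        exact hx
      exact ⟨⟨y, hyP⟩, Finset.mem_subtype.mpr hy, Subtype.ext hyx⟩

/-- A permutation of the 24 points under which the preimages of the octads of `adL` are
octads lies in `M24`. -/
theorem mem_M24_of_adL {τ : Equiv.Perm GolayPt}
    (h : ∀ m ∈ adL, ∃ O ∈ octads, O.image τ = support₂ (dec m)) : τ ∈ M24 := by
  have hD : IsSteinerSystem 5 8 ((fun b => b.image τ) '' octads) := steiner_image octads_steiner τ
  have heq : (fun b => b.image τ) '' octads = octads :=
    eq_octads_of_adL hD (fun m hm => by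
      obtain ⟨O, hO, hOm⟩ := h m hm
      exact ⟨O, hO, hOm⟩)
  rw [Cfsg.Agent.S0369.result]
  show τ ∈ MulAction.stabilizer _ octads
  rw [MulAction.mem_stabilizer_iff]
  have h1 : τ • octads = (fun b => b.image τ) '' octads := by
    ext b
    simp only [Set.mem_smul_set, Set.mem_image, smul_eq_image]
  rw [h1, heq]

theorem adL_spec23 : ∀ m ∈ adL, inCode m = true ∧ popc m = 8 ∧ m &&& 8388608 = 8388608 := by
  decide +kernel

theorem P23_eq : P23 = support₂ (dec 8388608) := by decide +kernel

theorem map_ofSubtype_der23 :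
    (setSystemAut (der P23)).map
      (Equiv.Perm.ofSubtype : Equiv.Perm {a : GolayPt // a ∉ P23} →* Equiv.Perm GolayPt) =
      M24 ⊓ fixing [23] := by
  ext g
  rw [Subgroup.mem_map]
  constructor
  · rintro ⟨σ, hσ, rfl⟩
    refine ⟨?_, ?_⟩
    · apply mem_M24_of_adL
      intro m hm
      obtain ⟨h1, h2, h3⟩ := adL_spec23 m hm
      have hO : support₂ (dec m) ∈ octads :=
        (mem_octads_iff _).mpr ⟨m, mem_sums_of_inCode h1, h2, rfl⟩
      have hPO : P23 ⊆ support₂ (dec m) := by
        rw [P23_eq]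
        exact subset_of_and_eq h3
      have hσ' : σ⁻¹ ∈ setSystemAut (der P23) := Subgroup.inv_mem _ hσ
      refine ⟨_, (image_ofSubtype_mem hσ' hO hPO).1, ?_⟩
      have hcomp : (⇑(Equiv.Perm.ofSubtype σ) ∘ ⇑(Equiv.Perm.ofSubtype σ⁻¹)) = id := by
        funext x
        simp [map_inv]
      rw [Finset.image_image, hcomp, Finset.image_id]
    · show ∀ i ∈ [23], (Equiv.Perm.ofSubtype σ) (pt i) = pt i
      intro i hi
      simp only [List.mem_cons, List.not_mem_nil, or_false] at hi
      subst hi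
      exact Equiv.Perm.ofSubtype_apply_of_not_mem σ (not_not.mpr (Finset.mem_singleton_self _))
  · rintro ⟨hg, hfix'⟩
    have hfix : ∀ i ∈ [23], g (pt i) = pt i := hfix'
    obtain ⟨σ, hσ, hof⟩ := subtypePerm_mem (P := P23) hg (by
      intro x hx
      rw [P23, Finset.mem_singleton] at hx
      rw [hx]
      exact hfix 23 (by simp))
    exact ⟨σ, hσ, hof⟩

/-- The automorphism group of the derived design of the octads at `pt 23` is the stabiliser of
`pt 23` in `M24`. -/
noncomputable def autDer23Equiv : setSystemAut (der P23) ≃* ↥(M24 ⊓ fixing [23]) :=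
  ((setSystemAut (der P23)).equivMapOfInjective _ Equiv.Perm.ofSubtype_injective).trans
    (MulEquiv.subgroupCongr map_ofSubtype_der23)

theorem der23_four_transitive :
    MulAction.IsMultiplyPretransitive (setSystemAut (der P23)) {a : GolayPt // a ∉ P23} 4 := by
  rw [MulAction.isMultiplyPretransitive_iff]
  intro x y
  have hx : ∀ i j : Fin 4, i ≠ j → (x i : GolayPt) ≠ x j :=
    fun i j hij h => hij (x.injective (Subtype.ext h))
  have hy : ∀ i j : Fin 4, i ≠ j → (y i : GolayPt) ≠ y j :=
    fun i j hij h => hij (y.injective (Subtype.ext h))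
  have hx23 : ∀ i, pt 23 ≠ (x i : GolayPt) :=
    fun i h => (x i).2 (by rw [← h]; exact Finset.mem_singleton_self _)
  have hy23 : ∀ i, pt 23 ≠ (y i : GolayPt) :=
    fun i h => (y i).2 (by rw [← h]; exact Finset.mem_singleton_self _)
  obtain ⟨g, hg, e0, e1, e2, e3, e4⟩ := exists_map_five_five
    (hx23 0) (hx23 1) (hx23 2) (hx23 3)
    (hx 0 1 (by decide)) (hx 0 2 (by decide)) (hx 0 3 (by decide))
    (hx 1 2 (by decide)) (hx 1 3 (by decide)) (hx 2 3 (by decide))
    (hy23 0) (hy23 1) (hy23 2) (hy23 3)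
    (hy 0 1 (by decide)) (hy 0 2 (by decide)) (hy 0 3 (by decide))
    (hy 1 2 (by decide)) (hy 1 3 (by decide)) (hy 2 3 (by decide))
  obtain ⟨σ, hσ, hof⟩ := subtypePerm_mem (P := P23) hg (by
    intro z hz
    rw [P23, Finset.mem_singleton] at hz
    rw [hz]
    exact e0)
  refine ⟨⟨σ, hσ⟩, ?_⟩
  refine DFunLike.ext _ _ (fun i => ?_)
  rw [Function.Embedding.smul_apply]
  apply Subtype.ext
  have h1 : ((σ (x i) : {a : GolayPt // a ∉ P23}) : GolayPt) = g (x i) := by
    rw [← hof, Equiv.Perm.ofSubtype_apply_coe]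
  show ((σ (x i) : {a : GolayPt // a ∉ P23}) : GolayPt) = y i
  rw [h1]
  fin_cases i
  · exact e1
  · exact e2
  · exact e3
  · exact e4

end Cfsg.Agent.Lib.Helper9
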