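import Mathlib
import Cfsg.Prelude.Def_Sporadic_a
import Cfsg.Agent.Lib.Helper9.Steiner23
import Cfsg.Agent.S0356

set_option autoImplicit false

namespace Cfsg.Agent.Lib.Helper9

open Cfsg
open Cfsg.Agent.Lib.Helper95 (tperm permOK hasTable_tperm)

/-- The points `pt 23` and `pt 0`. -/
def P22 : Finset GolayPt := {pt 23, pt 0}

theorem pt23_ne_pt0 : pt 23 ≠ pt 0 := by decide +kernel

theorem card_P22 : P22.card = 2 := Finset.card_pair pt23_ne_pt0

theorem P22_sub_A0 : P22 ⊆ A0 := by decide +kernel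

theorem P22_sub_AB : P22 ⊆ support₂ (dec 8388637) := by decide +kernel

theorem P22_eq : P22 = support₂ (dec 8388609) := by decide +kernel

/-- Every Steiner system `S(3,6,22)` is isomorphic to the derived design of the octads at the
points `pt 23`, `pt 0`. -/
theorem exists_iso_der22 {β : Type*} [Fintype β] [DecidableEq β] (hβ : Fintype.card β = 22)
    {B : Set (Finset β)} (hB : IsSteinerSystem 3 6 B) : SetSystemIso B (der P22) := by
  obtain ⟨ι, hι, hlines⟩ := bridge P22 P22_sub_A0 (by rw [card_P22])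
    (by rw [card_P22]; exact hβ) (by rw [card_P22]; exact hB)
  have hint : ∀ X ∈ B, ∀ X' ∈ B, (X ∩ X').card = 0 ∨ (X ∩ X').card = 2 ∨ X = X' := by
    intro X hX X' hX'
    by_cases h : X = X'
    · exact Or.inr (Or.inr h)
    · rcases Cfsg.Agent.S0356.result hβ hB hX hX' h with h1 | h1
      · exact Or.inl h1
      · exact Or.inr (Or.inl h1)
  obtain ⟨D, hD⟩ : ∃ D : Set (Finset GolayPt), D = {Y | ∃ X ∈ B, Y = P22 ∪ X.map ι} := ⟨_, rfl⟩
  have hmem : ∀ X ∈ B, P22 ∪ X.map ι ∈ D := fun X hX => by rw [hD]; exact ⟨X, hX, rfl⟩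
  have h8 : ∀ Y ∈ D, Y.card = 8 := by
    intro Y hY
    rw [hD] at hY
    obtain ⟨X, hX, rfl⟩ := hY
    rw [card_union_map _ _ hι, card_P22, hB.1 X hX]
  have heven : ∀ Y ∈ D, ∀ Y' ∈ D, Even (Y ∩ Y').card := by
    intro Y hY Y' hY'
    rw [hD] at hY hY'
    obtain ⟨X, hX, rfl⟩ := hY
    obtain ⟨X', hX', rfl⟩ := hY'
    rw [inter_union_map, card_union_map _ _ hι, card_P22]
    rcases hint X hX X' hX' with h | h | h
    · rw [h]; decide
    · rw [h]; decide
    · rw [h, Finset.inter_self, hB.1 X' hX']; decide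
  have hL : ∀ L ∈ lineL, support₂ (dec L) ∈ D := by
    intro L hLm
    obtain ⟨X, hX, e⟩ := hlines L hLm
    rw [← e]
    exact hmem X hX
  have hAB : ∃ Y ∈ D, support₂ (dec 8388637) ⊆ Y := by
    obtain ⟨X, hX, hsub⟩ := family_through' P22 ι hι (by rw [card_P22]; exact hβ) hB
      (support₂ (dec 8388637)) P22_sub_AB (by rw [card_support₂_dec, card_P22]; decide +kernel)
    exact ⟨_, hmem X hX, hsub⟩
  have hP : ∀ Y ∈ D, support₂ (dec 8388609) ⊆ Y := by
    intro Y hY
    rw [hD] at hY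
    obtain ⟨X, hX, rfl⟩ := hY
    rw [← P22_eq]
    exact Finset.subset_union_left
  obtain ⟨R, hperm, hR⟩ := core22 h8 heven hL hAB hP
  have hiso1 := iso_der_of_perm hB (by norm_num) P22 (by rw [card_P22]) (by rw [card_P22])
    (by rw [card_P22]; exact hβ) ι hι (tperm R)⁻¹ (fun X hX => hR _ (hmem X hX))
  obtain ⟨g, hg, hg1, hg2⟩ := exists_map_two (p0 := (tperm R)⁻¹ (pt 23))
    (p1 := (tperm R)⁻¹ (pt 0)) (fun h => pt23_ne_pt0 ((tperm R)⁻¹.injective h))
  have hc : (P22.image ⇑(tperm R)⁻¹).card = 2 := by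
    rw [Finset.card_image_of_injective _ (tperm R)⁻¹.injective, card_P22]
  have hiso2 : SetSystemIso (der (P22.image ⇑(tperm R)⁻¹)) (der P22) :=
    der_iso_of_mem_M24 (t := 3) (k := 6) hg
      (by rw [P22, Finset.image_insert, Finset.image_singleton, Finset.image_insert,
        Finset.image_singleton, hg1, hg2])
      (by norm_num) (der_steiner _ (by rw [hc]) (by rw [hc]))
      (der_steiner _ (by rw [card_P22]) (by rw [card_P22]))
  exact setSystemIso_trans hiso1 hiso2

end Cfsg.Agent.Lib.Helper9
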