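import Mathlib
import Cfsg.Prelude.Def_Sporadic_a
import Cfsg.Agent.Lib.Helper9.DerAut
import Cfsg.Agent.Lib.Helper9.Steiner22
import Cfsg.Agent.Lib.Helper9.M22Simple

set_option autoImplicit false

namespace Cfsg.Agent.Lib.Helper9

open Cfsg
open Cfsg.Agent.Lib.Helper95 (tperm permOK hasTable_tperm tperm_apply)
open scoped Pointwise

/-! ### The automorphism group of the derived design of the octads at two points -/

/-- The octad through the points 0, 1, 2, 3, 4. -/
def oBC : ℕ := 5279

/-- A second list of 23 octads spanning the code. -/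
def adL' : List ℕ := lineL ++ [oAB, oBC]

def adCoef' : List ℕ :=
  [6295585, 2101407, 537, 4097, 4259871, 2101251, 4194334, 6295561, 4194304, 2101248, 4194328,
   2101249]

theorem gB_eq_comb_adL' : gB = adCoef'.map (comb adL') := by decide +kernel

/-- A permutation of the 24 points under which the preimages of the octads of a spanning
list are octads lies in `M24`. -/
theorem mem_M24_of_spanL {τ : Equiv.Perm GolayPt} (aL coef : List ℕ)
    (hgB : gB = coef.map (comb aL))
    (h : ∀ m ∈ aL, ∃ O ∈ octads, O.image τ = support₂ (dec m)) : τ ∈ M24 := by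
  have hD : IsSteinerSystem 5 8 ((fun b => b.image τ) '' octads) := steiner_image octads_steiner τ
  have hsub : (fun b => b.image τ) '' octads ⊆ octads := by
    intro X hX
    obtain ⟨x, hx, rfl⟩ := exists_mask X
    have h8 : popc x = 8 := by
      rw [← card_support₂_dec]
      exact hD.1 _ hX
    have hmem : x ∈ sums gB := mem_sums_of_orth hx aL coef hgB
      (fun m hm => popc_and_even_of_blocks hD hX (h m hm))
    exact (mem_octads_iff _).mpr ⟨x, hmem, h8, rfl⟩
  have heq : (fun b => b.image τ) '' octads = octads :=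
    steiner_eq_of_subset hD octads_steiner hsub (by norm_num)
  rw [Cfsg.Agent.S0369.result]
  show τ ∈ MulAction.stabilizer _ octads
  rw [MulAction.mem_stabilizer_iff]
  have h1 : τ • octads = (fun b => b.image τ) '' octads := by
    ext b
    simp only [Set.mem_smul_set, Set.mem_image, smul_eq_image]
  rw [h1, heq]

/-- The table of the transposition of the points 23 and 0. -/
def tauT : List ℕ :=
  [23, 1, 2, 3, 4, 5, 6, 7, 8, 9, 10, 11, 12, 13, 14, 15, 16, 17, 18, 19, 20, 21, 22, 0]

theorem tauT_ok : permOK tauT = true := by decide +kernel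

/-- The transposition of the points 23 and 0. -/
def tau : Equiv.Perm GolayPt := Equiv.swap (pt 23) (pt 0)

theorem tau_table : ∀ p : GolayPt, tau p = pt (tauT.getD (idx p) 0) := by
  unfold tau
  decide +kernel

theorem tperm_tauT : tperm tauT = tau := by
  ext p
  rw [tperm_apply tauT_ok, tau_table]

theorem tau_inv : tau⁻¹ = tau := Equiv.swap_inv _ _

theorem tau_not_mem : tau ∉ M24 := by
  intro h
  have h1 := tableOK_of_mem_M24 tauT (by decide) tau_table h
  revert h1
  decide +kernel

theorem lineAB_spec : ∀ m ∈ lineL ++ [oAB],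
    inCode m = true ∧ popc m = 8 ∧ m &&& 8388609 = 8388609 := by decide +kernel

theorem candAC_cases : ∀ y ∈ candAC, (y = oAB ∨ popc (y &&& oAB) ≤ 4) →
    y = oAC ∨ y = 8393886 := by decide +kernel

theorem tau_pull : (∀ L ∈ lineL, pull tauT L = L) ∧ pull tauT oAB = oAB ∧
    pull tauT 8393886 = oBC := by decide +kernel

/-- A permutation of the 24 points mapping octads onto all the octads through the points 23
and 0 lies in `M24`, possibly after composing with the transposition of 23 and 0. -/
theorem mem_M24_or {φ : Equiv.Perm GolayPt}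
    (h : ∀ m ∈ lineL ++ [oAB], ∃ O ∈ octads, O.image φ = support₂ (dec m)) :
    φ ∈ M24 ∨ tau * φ ∈ M24 := by
  have hD : IsSteinerSystem 5 8 ((fun b => b.image φ) '' octads) := steiner_image octads_steiner φ
  have hDm : ∀ m ∈ lineL ++ [oAB], support₂ (dec m) ∈ (fun b => b.image φ) '' octads := by
    intro m hm
    obtain ⟨O, hO, e⟩ := h m hm
    exact ⟨O, hO, e⟩
  have hL : ∀ L ∈ lineL, support₂ (dec L) ∈ (fun b => b.image φ) '' octads :=
    fun L hLm => hDm L (List.mem_append_left _ hLm)
  have hAB : support₂ (dec oAB) ∈ (fun b => b.image φ) '' octads := hDm oAB (by simp)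
  obtain ⟨y, hy24, hyb, hyD, hyt⟩ := exists_block_through hD hL 8388638 (by norm_num)
    (by decide +kernel)
  have hy := blk_AC y hyb hyt
  rcases candAC_cases y hy (block_inter_le hD hy24 (by decide) hyD hAB) with rfl | rfl
  · left
    apply mem_M24_of_adL
    intro m hm
    rw [adL, List.mem_append] at hm
    rcases hm with hm | hm
    · exact hL m hm
    · simp only [List.mem_cons, List.not_mem_nil, or_false] at hm
      rcases hm with rfl | rfl
      · exact hAB
      · exact hyD
  · right
    apply mem_M24_of_spanL adL' adCoef' gB_eq_comb_adL'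
    have key : ∀ m', support₂ (dec m') ∈ (fun b => b.image φ) '' octads →
        ∃ O ∈ octads, O.image (tau * φ) = support₂ (dec (pull tauT m')) := by
      rintro m' ⟨O, hO, e⟩
      refine ⟨O, hO, ?_⟩
      have h1 := image_inv_support₂ (hasTable_tperm tauT_ok) m'
      rw [tperm_tauT, tau_inv] at h1
      have e' : O.image φ = support₂ (dec m') := e
      rw [← h1, ← e', Finset.image_image]
      rfl
    intro m hm
    rw [adL', List.mem_append] at hm
    rcases hm with hm | hm
    · have h2 := key m (hL m hm)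
      rwa [tau_pull.1 m hm] at h2
    · simp only [List.mem_cons, List.not_mem_nil, or_false] at hm
      rcases hm with rfl | rfl
      · have h2 := key oAB hAB
        rwa [tau_pull.2.1] at h2
      · have h2 := key 8393886 hyD
        rwa [tau_pull.2.2] at h2

/-- The setwise stabiliser of `{pt 23, pt 0}` in `M24`. -/
def NGrp : Subgroup (Equiv.Perm GolayPt) :=
  M24 ⊓ MulAction.stabilizer (Equiv.Perm GolayPt) P22

theorem NGrp_pred {g : Equiv.Perm GolayPt} (hg : g • P22 = P22) (x : GolayPt) :
    (fun a => a ∉ P22) (g x) ↔ (fun a => a ∉ P22) x := by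
  show (g x ∉ P22) ↔ (x ∉ P22)
  rw [not_iff_not]
  conv_lhs => rw [← hg]
  exact Finset.smul_mem_smul_finset_iff g

/-- An element of `M24` preserving `P` restricts to an automorphism of the derived design. -/
theorem subtypePerm_mem_aut {P : Finset GolayPt} {g : Equiv.Perm GolayPt} (hg : g ∈ M24)
    (h₁ : ∀ x, (fun a => a ∉ P) (g x) ↔ (fun a => a ∉ P) x) :
    g.subtypePerm (p := fun a => a ∉ P) h₁ ∈ setSystemAut (der P) := by
  show g.subtypePerm (p := fun a => a ∉ P) h₁ ∈ MulAction.stabilizer _ (der P)
  rw [MulAction.mem_stabilizer_set_iff_smul_set_subset (Set.toFinite _)]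
  rintro _ ⟨b', ⟨O, hO, hPO, rfl⟩, rfl⟩
  refine ⟨O.image g, by rw [← smul_eq_image]; exact smul_octad_mem hg hO, ?_, ?_⟩
  · intro x hx
    have h2 : g⁻¹ x ∈ P := by
      by_contra hcon
      have h3 := (h₁ (g⁻¹ x)).mpr hcon
      have h4 : g (g⁻¹ x) = x := by simp
      exact h3 (by rw [h4]; exact hx)
    exact Finset.mem_image.mpr ⟨g⁻¹ x, hPO h2, by simp⟩
  · ext ⟨x, hx⟩
    rw [Finset.mem_smul_finset, Finset.mem_subtype, Finset.mem_image]
    constructor
    · rintro ⟨y, hy, hyx⟩
      exact ⟨y.1, Finset.mem_subtype.mp hy, congrArg Subtype.val hyx⟩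
    · rintro ⟨y, hy, hyx⟩
      have hyP : y ∉ P := by
        apply (h₁ y).mp
        show g y ∉ P
        rw [hyx]
        exact hx
      exact ⟨⟨y, hyP⟩, Finset.mem_subtype.mpr hy, Subtype.ext hyx⟩

/-- Restriction to the 22 points as a homomorphism. -/
noncomputable def resHom : NGrp →* Equiv.Perm {a : GolayPt // a ∉ P22} :=
  MonoidHom.mk' (fun g => g.1.subtypePerm (p := fun a => a ∉ P22) (NGrp_pred g.2.2))
    (by intro g g'; ext x; rfl)

theorem resHom_apply (g : NGrp) (x : {a : GolayPt // a ∉ P22}) :
    ((resHom g x : {a : GolayPt // a ∉ P22}) : GolayPt) = g.1 x := rfl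

theorem resHom_mem (g : NGrp) : resHom g ∈ setSystemAut (der P22) :=
  subtypePerm_mem_aut g.2.1 (NGrp_pred g.2.2)

theorem mem_P22 {x : GolayPt} : x ∈ P22 ↔ x = pt 23 ∨ x = pt 0 := by
  rw [P22, Finset.mem_insert, Finset.mem_singleton]

theorem resHom_injective : Function.Injective resHom := by
  rw [injective_iff_map_eq_one]
  intro g hg
  have hfix : ∀ x, x ∉ P22 → g.1 x = x := by
    intro x hx
    have h1 := resHom_apply g ⟨x, hx⟩
    rw [hg] at h1
    exact h1.symm
  have h23 : g.1 (pt 23) ∈ P22 := by
    have := (NGrp_pred g.2.2 (pt 23))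
    by_contra hcon
    exact (this.mp hcon) (mem_P22.mpr (Or.inl rfl))
  have h0 : g.1 (pt 0) ∈ P22 := by
    have := (NGrp_pred g.2.2 (pt 0))
    by_contra hcon
    exact (this.mp hcon) (mem_P22.mpr (Or.inr rfl))
  rw [mem_P22] at h23 h0
  have hne : g.1 (pt 23) ≠ g.1 (pt 0) := fun h => pt23_ne_pt0 (g.1.injective h)
  apply Subtype.ext
  rcases h23 with h23 | h23
  · have h0' : g.1 (pt 0) = pt 0 := by
      rcases h0 with h0 | h0
      · exact absurd (h23.trans h0.symm) hne
      · exact h0
    refine Equiv.ext (fun x => ?_)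
    by_cases hx : x ∈ P22
    · rcases mem_P22.mp hx with rfl | rfl
      · exact h23
      · exact h0'
    · exact hfix x hx
  · have h0' : g.1 (pt 0) = pt 23 := by
      rcases h0 with h0 | h0
      · exact h0
      · exact absurd (h23.trans h0.symm) hne
    exfalso
    apply tau_not_mem
    have : g.1 = tau := by
      refine Equiv.ext (fun x => ?_)
      by_cases hx : x ∈ P22
      · rcases mem_P22.mp hx with rfl | rfl
        · rw [h23]; exact (Equiv.swap_apply_left _ _).symm
        · rw [h0']; exact (Equiv.swap_apply_right _ _).symm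
      · rw [hfix x hx]
        have hx' := not_or.mp (fun h => hx (mem_P22.mpr h))
        exact (Equiv.swap_apply_of_ne_of_ne hx'.1 hx'.2).symm
    rw [← this]
    exact g.2.1

theorem ofSubtype_smul_P22 (σ : Equiv.Perm {a : GolayPt // a ∉ P22}) :
    Equiv.Perm.ofSubtype σ • P22 = P22 := by
  rw [smul_eq_image]
  have h : ∀ x ∈ P22, Equiv.Perm.ofSubtype σ x = x :=
    fun x hx => Equiv.Perm.ofSubtype_apply_of_not_mem σ (not_not.mpr hx)
  rw [Finset.image_congr (fun x hx => h x hx)]
  exact Finset.image_id'

theorem tau_smul_P22 : tau • P22 = P22 := by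
  rw [smul_eq_image, P22, Finset.image_insert, Finset.image_singleton, tau,
    Equiv.swap_apply_left, Equiv.swap_apply_right, Finset.pair_comm]

theorem resHom_surjective {σ : Equiv.Perm {a : GolayPt // a ∉ P22}}
    (hσ : σ ∈ setSystemAut (der P22)) : ∃ g : NGrp, resHom g = σ := by
  have h : ∀ m ∈ lineL ++ [oAB],
      ∃ O ∈ octads, O.image (Equiv.Perm.ofSubtype σ) = support₂ (dec m) := by
    intro m hm
    obtain ⟨h1, h2, h3⟩ := lineAB_spec m hm
    have hO : support₂ (dec m) ∈ octads :=
      (mem_octads_iff _).mpr ⟨m, mem_sums_of_inCode h1, h2, rfl⟩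
    have hPO : P22 ⊆ support₂ (dec m) := by
      rw [P22_eq]
      exact subset_of_and_eq h3
    have hσ' : σ⁻¹ ∈ setSystemAut (der P22) := Subgroup.inv_mem _ hσ
    refine ⟨_, (image_ofSubtype_mem hσ' hO hPO).1, ?_⟩
    have hcomp : (⇑(Equiv.Perm.ofSubtype σ) ∘ ⇑(Equiv.Perm.ofSubtype σ⁻¹)) = id := by
      funext x
      simp [map_inv]
    rw [Finset.image_image, hcomp, Finset.image_id]
  rcases mem_M24_or h with h1 | h1
  · refine ⟨⟨Equiv.Perm.ofSubtype σ, h1, ofSubtype_smul_P22 σ⟩, ?_⟩
    refine Equiv.ext (fun x => Subtype.ext ?_)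
    rw [resHom_apply]
    exact Equiv.Perm.ofSubtype_apply_coe σ x
  · refine ⟨⟨tau * Equiv.Perm.ofSubtype σ, h1, ?_⟩, ?_⟩
    · show (tau * Equiv.Perm.ofSubtype σ) • P22 = P22
      rw [mul_smul, ofSubtype_smul_P22, tau_smul_P22]
    · refine Equiv.ext (fun x => Subtype.ext ?_)
      rw [resHom_apply]
      show tau (Equiv.Perm.ofSubtype σ x) = σ x
      rw [Equiv.Perm.ofSubtype_apply_coe]
      have hx' := not_or.mp (fun h => (σ x).2 (mem_P22.mpr h))
      exact Equiv.swap_apply_of_ne_of_ne hx'.1 hx'.2

/-- The automorphism group of the derived design at two points is the setwise stabiliser of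
the two points in `M24`. -/
noncomputable def autDer22Equiv : NGrp ≃* setSystemAut (der P22) :=
  MulEquiv.ofBijective (resHom.codRestrict (setSystemAut (der P22)) resHom_mem)
    ⟨fun g g' h => resHom_injective (congrArg Subtype.val h),
     fun σ => by
       obtain ⟨g, hg⟩ := resHom_surjective σ.2
       exact ⟨g, Subtype.ext hg⟩⟩

end Cfsg.Agent.Lib.Helper9
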