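import Mathlib
import Cfsg.Prelude.Def_Sporadic_a
import Cfsg.Prelude.Def_Sporadic
import Cfsg.Agent.Lib.Helper9.Aut22

set_option autoImplicit false

namespace Cfsg.Agent.Lib.Helper9

open Cfsg
open scoped Pointwise

theorem smul_mem_P22 {g : Equiv.Perm GolayPt} (hg : g • P22 = P22) {x : GolayPt} (hx : x ∈ P22) :
    g x ∈ P22 := by
  have h : g • x ∈ g • P22 := Finset.smul_mem_smul_finset hx
  rw [hg] at h
  exact h

theorem NGrp_inf_stab :
    NGrp ⊓ MulAction.stabilizer (Equiv.Perm GolayPt) (pt 23) = M24 ⊓ fixing [0, 23] := by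
  ext g
  constructor
  · rintro ⟨⟨hg, hP⟩, h23⟩
    have h23' : g (pt 23) = pt 23 := h23
    refine ⟨hg, mem_fixing_pair h23' ?_⟩
    have h0 : g (pt 0) ∈ P22 := smul_mem_P22 hP (mem_P22.mpr (Or.inr rfl))
    rcases mem_P22.mp h0 with h | h
    · exact absurd (g.injective (h.trans h23'.symm)) pt23_ne_pt0.symm
    · exact h
  · rintro ⟨hg, hfix'⟩
    have hfix : ∀ i ∈ [0, 23], g (pt i) = pt i := hfix'
    have h23 : g (pt 23) = pt 23 := hfix 23 (by simp)
    have h0 : g (pt 0) = pt 0 := hfix 0 (by simp)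
    refine ⟨⟨hg, ?_⟩, h23⟩
    show g • P22 = P22
    rw [smul_eq_image, P22, Finset.image_insert, Finset.image_singleton, h23, h0]

theorem orbit_NGrp : MulAction.orbit NGrp (pt 23) = {pt 23, pt 0} := by
  ext q
  rw [MulAction.mem_orbit_iff]
  constructor
  · rintro ⟨g, rfl⟩
    have h : g.1 (pt 23) ∈ P22 := smul_mem_P22 g.2.2 (mem_P22.mpr (Or.inl rfl))
    exact mem_P22.mp h
  · rintro (rfl | rfl)
    · exact ⟨1, rfl⟩
    · obtain ⟨g, hg, e0, e1⟩ := exists_map_two_two pt23_ne_pt0 pt23_ne_pt0.symm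
      refine ⟨⟨g, hg, ?_⟩, e0⟩
      show g • P22 = P22
      rw [smul_eq_image, P22, Finset.image_insert, Finset.image_singleton, e0, e1,
        Finset.pair_comm]

theorem card_NGrp : Nat.card NGrp = 887040 := by
  have h := card_eq_orbit_mul_stab NGrp (pt 23)
  rw [orbit_NGrp, NGrp_inf_stab, card_M22, Set.ncard_pair pt23_ne_pt0] at h
  omega

theorem M22_le_NGrp : M24 ⊓ fixing [0, 23] ≤ NGrp := by
  rw [← NGrp_inf_stab]
  exact inf_le_left

theorem card_subgroupOf_NGrp : Nat.card ((M24 ⊓ fixing [0, 23]).subgroupOf NGrp) = 443520 := by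
  rw [Nat.card_congr (Subgroup.subgroupOfEquivOfLe M22_le_NGrp).toEquiv, card_M22]

theorem index_subgroupOf_NGrp : ((M24 ⊓ fixing [0, 23]).subgroupOf NGrp).index = 2 := by
  have h := Subgroup.card_mul_index ((M24 ⊓ fixing [0, 23]).subgroupOf NGrp)
  rw [card_subgroupOf_NGrp, card_NGrp] at h
  omega

theorem simple_subgroupOf_NGrp : IsSimpleGroup ((M24 ⊓ fixing [0, 23]).subgroupOf NGrp) := by
  have := isSimpleGroup_M22
  exact (Subgroup.subgroupOfEquivOfLe M22_le_NGrp).isSimpleGroup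

/-- A group isomorphic to the setwise stabiliser of two points in `M24` has order 887040 and
a subgroup of index 2 that is simple of order 443520. -/
theorem aut22_main {G : Type*} [Group G] (E : G ≃* NGrp) :
    Nat.card G = 887040 ∧ ∃ H : Subgroup G, H.index = 2 ∧ IsM22 H := by
  refine ⟨by rw [Nat.card_congr E.toEquiv, card_NGrp], ?_⟩
  refine ⟨((M24 ⊓ fixing [0, 23]).subgroupOf NGrp).map (E.symm : NGrp →* G), ?_, ?_, ?_⟩
  · rw [Subgroup.index_map_equiv]
    exact index_subgroupOf_NGrp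
  · have := simple_subgroupOf_NGrp
    exact (E.symm.subgroupMap ((M24 ⊓ fixing [0, 23]).subgroupOf NGrp)).symm.isSimpleGroup
  · rw [← Nat.card_congr (E.symm.subgroupMap ((M24 ⊓ fixing [0, 23]).subgroupOf NGrp)).toEquiv]
    exact card_subgroupOf_NGrp

theorem der22_three_transitive :
    MulAction.IsMultiplyPretransitive (setSystemAut (der P22)) {a : GolayPt // a ∉ P22} 3 := by
  rw [MulAction.isMultiplyPretransitive_iff]
  intro x y
  have hx : ∀ i j : Fin 3, i ≠ j → (x i : GolayPt) ≠ x j :=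
    fun i j hij h => hij (x.injective (Subtype.ext h))
  have hy : ∀ i j : Fin 3, i ≠ j → (y i : GolayPt) ≠ y j :=
    fun i j hij h => hij (y.injective (Subtype.ext h))
  have hx23 : ∀ i, pt 23 ≠ (x i : GolayPt) :=
    fun i h => (x i).2 (by rw [← h]; exact mem_P22.mpr (Or.inl rfl))
  have hy23 : ∀ i, pt 23 ≠ (y i : GolayPt) :=
    fun i h => (y i).2 (by rw [← h]; exact mem_P22.mpr (Or.inl rfl))
  have hx0 : ∀ i, pt 0 ≠ (x i : GolayPt) :=
    fun i h => (x i).2 (by rw [← h]; exact mem_P22.mpr (Or.inr rfl))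
  have hy0 : ∀ i, pt 0 ≠ (y i : GolayPt) :=
    fun i h => (y i).2 (by rw [← h]; exact mem_P22.mpr (Or.inr rfl))
  obtain ⟨g, hg, e0, e1, e2, e3, e4⟩ := exists_map_five_five
    pt23_ne_pt0 (hx23 0) (hx23 1) (hx23 2) (hx0 0) (hx0 1) (hx0 2)
    (hx 0 1 (by decide)) (hx 0 2 (by decide)) (hx 1 2 (by decide))
    pt23_ne_pt0 (hy23 0) (hy23 1) (hy23 2) (hy0 0) (hy0 1) (hy0 2)
    (hy 0 1 (by decide)) (hy 0 2 (by decide)) (hy 1 2 (by decide))
  obtain ⟨σ, hσ, hof⟩ := subtypePerm_mem (P := P22) hg (by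
    intro z hz
    rcases mem_P22.mp hz with rfl | rfl
    · exact e0
    · exact e1)
  refine ⟨⟨σ, hσ⟩, ?_⟩
  refine DFunLike.ext _ _ (fun i => ?_)
  rw [Function.Embedding.smul_apply]
  apply Subtype.ext
  have h1 : ((σ (x i) : {a : GolayPt // a ∉ P22}) : GolayPt) = g (x i) := by
    rw [← hof, Equiv.Perm.ofSubtype_apply_coe]
  show ((σ (x i) : {a : GolayPt // a ∉ P22}) : GolayPt) = y i
  rw [h1]
  fin_cases i
  · exact e2
  · exact e3
  · exact e4

end Cfsg.Agent.Lib.Helper9
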