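import Mathlib
import Cfsg.Agent.Lib.Helper18.CTDefs

/-!
# Project CT (S4699, helper18), piece MACK1 (backup copy c, helper9)

A sum over a finite union of free orbits of a permutation `T` of order dividing `q` of a
function twisted by `X`, `Xi` is a conjugation trace `trX X Xi q φ`.
-/

set_option autoImplicit false
set_option linter.unusedSectionVars false

namespace Cfsg.Agent.Lib.Helper18.CT

variable {G : Type*} [Group G] {F : Type*} [Field F] {V : Type*} [AddCommGroup V] [Module F V]

theorem mack1c_trX_add (X Xi : Module.End F V) (q : ℕ) (φ ψ : Module.End F V) :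
    trX X Xi q (φ + ψ) = trX X Xi q φ + trX X Xi q ψ := by
  simp [trX, mul_add, add_mul, Finset.sum_add_distrib]

theorem mack1c_trX_zero (X Xi : Module.End F V) (q : ℕ) : trX X Xi q 0 = 0 := by
  simp [trX]

theorem mack1c_pow_mem {Ω : Type*} (T : Equiv.Perm Ω) (S : Finset Ω) (hS : ∀ c ∈ S, T c ∈ S)
    (c : Ω) (hc : c ∈ S) (i : ℕ) : (T ^ i) c ∈ S := by
  induction i with
  | zero => simpa using hc
  | succ i ih =>
    rw [pow_succ', Equiv.Perm.mul_apply]
    exact hS _ ih

theorem mack1c_f_pow {Ω : Type*} (T : Equiv.Perm Ω) (X Xi : Module.End F V)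
    (f : Ω → Module.End F V) (hf : ∀ c, f (T c) = X * f c * Xi) (c : Ω) (i : ℕ) :
    f ((T ^ i) c) = X ^ i * f c * Xi ^ i := by
  induction i with
  | zero => simp
  | succ i ih =>
    rw [pow_succ' T, Equiv.Perm.mul_apply, hf, ih, pow_succ' X, pow_succ Xi]
    simp only [mul_assoc]

theorem mack1c_main {Ω : Type*} [DecidableEq Ω] (T : Equiv.Perm Ω) (q : ℕ) (hq : 0 < q)
    (hTq : T ^ q = 1) (X Xi : Module.End F V) (f : Ω → Module.End F V)
    (hf : ∀ c, f (T c) = X * f c * Xi) :
    ∀ n : ℕ, ∀ S : Finset Ω, S.card = n → (∀ c ∈ S, T c ∈ S) →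
      (∀ c ∈ S, ∀ i, 0 < i → i < q → (T ^ i) c ≠ c) →
      ∃ φ : Module.End F V, ∑ c ∈ S, f c = trX X Xi q φ := by
  intro n
  induction n using Nat.strong_induction_on with
  | _ n ih =>
    intro S hn hS hfree
    rcases Finset.eq_empty_or_nonempty S with hempty | ⟨c, hc⟩
    · exact ⟨0, by rw [hempty, Finset.sum_empty, mack1c_trX_zero]⟩
    · obtain ⟨O, hO⟩ : ∃ O : Finset Ω, O = (Finset.range q).image (fun i => (T ^ i) c) :=
        ⟨_, rfl⟩
      have hOS : O ⊆ S := by
        intro y hy
        rw [hO, Finset.mem_image] at hy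
        obtain ⟨i, -, rfl⟩ := hy
        exact mack1c_pow_mem T S hS c hc i
      have key : ∀ i j : ℕ, i < j → j < q → (T ^ i) c = (T ^ j) c → False := by
        intro i j hij hj h
        have h1 : (T ^ (j - i)) c = c := by
          have h2 : T ^ j = T ^ i * T ^ (j - i) := by
            rw [← pow_add]
            congr 1
            omega
          rw [h2, Equiv.Perm.mul_apply] at h
          exact ((T ^ i).injective h).symm
        exact hfree c hc (j - i) (by omega) (by omega) h1
      have hinj : ∀ i ∈ Finset.range q, ∀ j ∈ Finset.range q,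
          (T ^ i) c = (T ^ j) c → i = j := by
        intro i hi j hj h
        rw [Finset.mem_range] at hi hj
        by_contra hne
        rcases Nat.lt_or_gt_of_ne hne with h' | h'
        · exact key i j h' hj h
        · exact key j i h' hi h.symm
      have hsumO : ∑ c' ∈ O, f c' = trX X Xi q (f c) := by
        rw [hO, Finset.sum_image (fun i hi j hj h => hinj i hi j hj h)]
        unfold trX
        exact Finset.sum_congr rfl (fun i _ => mack1c_f_pow T X Xi f hf c i)
      have hcO : c ∈ O := by
        rw [hO, Finset.mem_image]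
        exact ⟨0, Finset.mem_range.2 hq, by simp⟩
      have hS' : ∀ c' ∈ S \ O, T c' ∈ S \ O := by
        intro c' hc'
        rw [Finset.mem_sdiff] at hc' ⊢
        refine ⟨hS c' hc'.1, fun hT => hc'.2 ?_⟩
        rw [hO, Finset.mem_image] at hT ⊢
        obtain ⟨i, hi, hi2⟩ := hT
        rw [Finset.mem_range] at hi
        have hi2' : (T ^ i) c = T c' := hi2
        rcases Nat.eq_zero_or_pos i with h0 | hpos
        · refine ⟨q - 1, Finset.mem_range.2 (by omega), ?_⟩
          rw [h0] at hi2'
          have h3 : T ((T ^ (q - 1)) c) = T c' := by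
            rw [← Equiv.Perm.mul_apply, ← pow_succ', show q - 1 + 1 = q by omega, hTq]
            simpa using hi2'
          exact T.injective h3
        · refine ⟨i - 1, Finset.mem_range.2 (by omega), ?_⟩
          have h3 : T ((T ^ (i - 1)) c) = T c' := by
            rw [← Equiv.Perm.mul_apply, ← pow_succ', show i - 1 + 1 = i by omega]
            exact hi2'
          exact T.injective h3
      have hfree' : ∀ c' ∈ S \ O, ∀ i, 0 < i → i < q → (T ^ i) c' ≠ c' :=
        fun c' hc' => hfree c' (Finset.mem_sdiff.1 hc').1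
      have hcard : (S \ O).card < n := by
        rw [← hn]
        exact Finset.card_lt_card (Finset.sdiff_ssubset hOS ⟨c, hcO⟩)
      obtain ⟨φ, hφ⟩ := ih _ hcard (S \ O) rfl hS' hfree'
      refine ⟨φ + f c, ?_⟩
      rw [← Finset.sum_sdiff hOS, hφ, hsumO, mack1c_trX_add]

-- piece MACK1
theorem free_orbit_sum {Ω : Type*} (T : Equiv.Perm Ω) (q : ℕ) (hq : 0 < q) (hTq : T ^ q = 1)
    (S : Finset Ω) (hS : ∀ c ∈ S, T c ∈ S)
    (hfree : ∀ c ∈ S, ∀ i, 0 < i → i < q → (T ^ i) c ≠ c)
    (X Xi : Module.End F V) (f : Ω → Module.End F V) (hf : ∀ c, f (T c) = X * f c * Xi) :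
    ∃ φ : Module.End F V, ∑ c ∈ S, f c = trX X Xi q φ := by
  classical
  exact mack1c_main T q hq hTq X Xi f hf S.card S rfl hS hfree

end Cfsg.Agent.Lib.Helper18.CT
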