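import Mathlib
import Cfsg.Agent.Lib.Helper4.FCDefs

/-!
# Project FC (S4146, helper4), piece PRIM (duplicate seat, helper9)

An element of class size `n` has a power of prime-power order with class size `n`.
-/

set_option autoImplicit false

namespace Cfsg.Agent.Lib.Helper4.FC

universe u

theorem prim_helper9_cen_pow {G : Type u} [Group G] (x : G) (k : ℕ) : Cen x ≤ Cen (x ^ k) := by
  intro g hg
  rw [Subgroup.mem_centralizer_iff] at hg ⊢
  intro h hh
  rw [Set.mem_singleton_iff] at hh
  subst hh
  have h1 : Commute x g := hg x (Set.mem_singleton x)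
  exact (h1.pow_left k).eq

theorem prim_helper9_dvd {G : Type u} [Group G] {n m : ℕ} (hF : Four G n m) (y : G)
    (hy : cs y ∣ n) : cs y = 1 ∨ cs y = n := by
  obtain ⟨h1, h2, h3, h4, -, -, -⟩ := hF
  have hm : ¬ m ∣ n := fun h => by
    have h5 := Nat.Coprime.eq_one_of_dvd h3.symm h
    omega
  rcases h4 y with h | h | h | h
  · exact Or.inl h
  · exact Or.inr h
  · rw [h] at hy
    exact absurd hy hm
  · rw [h] at hy
    exact absurd ((Dvd.intro_left n rfl).trans hy) hm

theorem prim_helper9_main {G : Type u} [Group G] [Finite G] {n m : ℕ} (hF : Four G n m) :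
    ∀ k : ℕ, ∀ x : G, orderOf x = k → cs x = n →
      ∃ (p : ℕ) (a : G), p.Prime ∧ Prim p a ∧ cs a = n ∧ Cen x ≤ Cen a := by
  have hn1 : 1 < n := hF.1
  intro k
  induction k using Nat.strong_induction_on with
  | _ k ih =>
    intro x hk hx
    have hk0 : 0 < k := by
      rw [← hk]
      exact orderOf_pos x
    have hk1 : k ≠ 1 := by
      intro h1
      rw [h1, orderOf_eq_one_iff] at hk
      have h2 : cs x = 1 := by
        rw [hk]
        show (Cen (1 : G)).index = 1
        rw [Subgroup.index_eq_one, eq_top_iff]
        intro g _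
        rw [Subgroup.mem_centralizer_iff]
        intro h hh
        rw [Set.mem_singleton_iff] at hh
        rw [hh, one_mul, mul_one]
      omega
    obtain ⟨p, hp⟩ : ∃ p, p = k.minFac := ⟨_, rfl⟩
    have hpp : p.Prime := by
      rw [hp]
      exact Nat.minFac_prime hk1
    have hpk : p ∣ k := by
      rw [hp]
      exact Nat.minFac_dvd k
    obtain ⟨c, hc⟩ : ∃ c, c = p ^ k.factorization p := ⟨_, rfl⟩
    obtain ⟨d, hd⟩ : ∃ d, d = k / p ^ k.factorization p := ⟨_, rfl⟩
    have hcd : c * d = k := by
      rw [hc, hd]
      exact Nat.ordProj_mul_ordCompl_eq_self k p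
    by_cases hd1 : d = 1
    · refine ⟨p, x, hpp, ⟨k.factorization p, ?_⟩, hx, le_rfl⟩
      have h5 : k = c := by
        rw [← hcd, hd1, mul_one]
      exact hk.trans (h5.trans hc)
    · have hcop : Nat.Coprime c d := by
        rw [hc, hd]
        exact Nat.Coprime.pow_left _ (Nat.coprime_ordCompl hpp hk0.ne')
      have hc1 : 1 < c := by
        rw [hc]
        exact Nat.one_lt_pow (Nat.Prime.factorization_pos_of_dvd hpp hk0.ne' hpk).ne' hpp.one_lt
      have hd0 : 0 < d := by
        rcases Nat.eq_zero_or_pos d with h | h
        · rw [h, mul_zero] at hcd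
          omega
        · exact h
      have hd2 : 1 < d := by omega
      have hoy : orderOf (x ^ d) = c := by
        rw [orderOf_pow_of_dvd hd0.ne' (by rw [hk, ← hcd]; exact Dvd.intro_left c rfl), hk, ← hcd]
        exact Nat.mul_div_cancel c hd0
      have hoz : orderOf (x ^ c) = d := by
        rw [orderOf_pow_of_dvd (by omega) (by rw [hk, ← hcd]; exact Dvd.intro d rfl), hk, ← hcd]
        exact Nat.mul_div_cancel_left d (by omega)
      have hcy : cs (x ^ d) ∣ n := by
        rw [← hx]
        exact Subgroup.index_dvd_of_le (prim_helper9_cen_pow x d)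
      have hcz : cs (x ^ c) ∣ n := by
        rw [← hx]
        exact Subgroup.index_dvd_of_le (prim_helper9_cen_pow x c)
      have hlt_c : c < k := by nlinarith
      have hlt_d : d < k := by nlinarith
      rcases prim_helper9_dvd hF _ hcy with hy1 | hyn
      · rcases prim_helper9_dvd hF _ hcz with hz1 | hzn
        · exfalso
          have hxy : Cen (x ^ d) = ⊤ := Subgroup.index_eq_one.1 hy1
          have hxz : Cen (x ^ c) = ⊤ := Subgroup.index_eq_one.1 hz1
          have hxt : Cen x = ⊤ := by
            rw [eq_top_iff]
            intro g _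
            have hgy : g ∈ Cen (x ^ d) := by
              rw [hxy]
              exact Subgroup.mem_top g
            have hgz : g ∈ Cen (x ^ c) := by
              rw [hxz]
              exact Subgroup.mem_top g
            rw [Subgroup.mem_centralizer_iff] at hgy hgz ⊢
            have h1 : Commute (x ^ d) g := hgy _ (Set.mem_singleton _)
            have h2 : Commute (x ^ c) g := hgz _ (Set.mem_singleton _)
            obtain ⟨u, v, huv⟩ := Nat.isCoprime_iff_coprime.2 hcop
            have hxe : (x ^ c) ^ u * (x ^ d) ^ v = x := by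
              rw [← zpow_natCast, ← zpow_natCast, ← zpow_mul, ← zpow_mul, ← zpow_add,
                mul_comm (c : ℤ) u, mul_comm (d : ℤ) v, huv, zpow_one]
            have h3 : Commute ((x ^ c) ^ u * (x ^ d) ^ v) g :=
              (h2.zpow_left u).mul_left (h1.zpow_left v)
            rw [hxe] at h3
            intro h hh
            rw [Set.mem_singleton_iff] at hh
            rw [hh]
            exact h3.eq
          have h4 : cs x = 1 := Subgroup.index_eq_one.2 hxt
          omega
        · obtain ⟨q, a, hq, ha, hca, hle⟩ := ih d hlt_d (x ^ c) hoz hzn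
          exact ⟨q, a, hq, ha, hca, (prim_helper9_cen_pow x c).trans hle⟩
      · obtain ⟨q, a, hq, ha, hca, hle⟩ := ih c hlt_c (x ^ d) hoy hyn
        exact ⟨q, a, hq, ha, hca, (prim_helper9_cen_pow x d).trans hle⟩

theorem fc_prim : PrimStmt.{u} := by
  intro G _ _ n m x hF hx
  exact prim_helper9_main hF (orderOf x) x rfl hx

end Cfsg.Agent.Lib.Helper4.FC
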