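import Mathlib
import Cfsg.Agent.Lib.Helper9.FCLower
import Cfsg.Agent.Lib.Helper9.Fi24H0
import Cfsg.Agent.Lib.Helper9.Fi24H1
import Cfsg.Agent.Lib.Helper9.Fi24H2
import Cfsg.Agent.Lib.Helper9.Fi24H3
import Cfsg.Agent.Lib.Helper9.Fi24H4
import Cfsg.Agent.Lib.Helper9.Fi24H5
import Cfsg.Agent.Lib.Helper9.Fi24H6
import Cfsg.Agent.Lib.Helper9.Fi24H7
import Cfsg.Agent.Lib.Helper9.Fi24H8
import Cfsg.Agent.Lib.Helper9.Fi24H9
import Cfsg.Agent.Lib.Helper9.Fi24H10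
import Cfsg.Agent.Lib.Helper9.Fi24H11
import Cfsg.Agent.Lib.Helper9.Fi24H12
import Cfsg.Agent.Lib.Helper9.Fi24C0
import Cfsg.Agent.Lib.Helper9.Fi24C1
import Cfsg.Agent.Lib.Helper9.Fi24C2
import Cfsg.Agent.Lib.Helper9.Fi24C3
import Cfsg.Agent.Lib.Helper9.Fi24C4
import Cfsg.Agent.Lib.Helper9.Fi24C5
import Cfsg.Agent.Lib.Helper9.Fi24C6
import Cfsg.Agent.Lib.Helper9.Fi24L0
import Cfsg.Agent.Lib.Helper9.Fi24L1
import Cfsg.Agent.Lib.Helper9.Fi24J0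
import Cfsg.Agent.Lib.Helper9.Fi24J1
import Cfsg.Agent.Lib.Helper9.Fi24R0
import Cfsg.Agent.Lib.Helper9.Fi24R1
import Cfsg.Agent.Lib.Helper9.Fi24T0
import Cfsg.Agent.Lib.Helper9.Fi24T1
import Cfsg.Agent.Lib.Helper9.Fi24T2
import Cfsg.Agent.Lib.Helper9.Fi24T3
import Cfsg.Agent.Lib.Helper9.Fi24T4
import Cfsg.Agent.Lib.Helper9.Fi24P0
import Cfsg.Agent.Lib.Helper9.Fi24P1

set_option autoImplicit false

/-!
# The tables of the coset-enumeration certificate of `Fi24` over its subgroup `2 × Fi23`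
-/

namespace Cfsg.Agent.Lib.Helper9.Fi24C

open Cfsg.Agent.Lib.Helper9.FC

/-- The files of the table `C`. -/
def filesC : List (List (List ℕ)) := [tCf0, tCf1, tCf2, tCf3, tCf4, tCf5, tCf6]

/-- The files of the table `L`. -/
def filesL : List (List (List ℕ)) := [tLf0, tLf1]

/-- The files of the table `J`. -/
def filesJ : List (List (List ℕ)) := [tJf0, tJf1]

/-- The files of the table `R`. -/
def filesR : List (List (List ℕ)) := [tRf0, tRf1]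

/-- The files of the table `P`. -/
def filesP : List (List (List ℕ)) := [tPf0, tPf1]

/-- The files of the table `H`. -/
def filesH : List (List (List (List ℕ))) := [tHf0, tHf1, tHf2, tHf3, tHf4, tHf5, tHf6, tHf7, tHf8, tHf9, tHf10, tHf11, tHf12]

/-- The files of the table `T`. -/
def filesT : List (List (List (List ℕ))) := [tTf0, tTf1, tTf2, tTf3, tTf4]

/-- A chunk of a table. -/
def chunkOf (files : List (List (List ℕ))) (j : ℕ) : ℕ :=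
  lgetD (lgetL (lgetLL files (Nat.shiftRight j 10)) (Nat.land (Nat.shiftRight j 4) 63))
    (Nat.land j 15) 0

/-- Entry `n` of a list of lists of lists of lists. -/
def lget4 (l : List (List (List (List ℕ)))) (n : ℕ) : List (List (List ℕ)) :=
  List.rec (motive := fun _ => ℕ → List (List (List ℕ))) (fun _ => [])
    (fun a _ ih n => Nat.rec a (fun m _ => ih m) n) l n

/-- A chunk of a table of four levels. -/
def chunkOf4 (files : List (List (List (List ℕ)))) (j : ℕ) : ℕ :=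
  lgetD (lgetL (lgetLL (lget4 files (Nat.shiftRight j 11)) (Nat.land (Nat.shiftRight j 8) 7))
    (Nat.land (Nat.shiftRight j 4) 15)) (Nat.land j 15) 0

/-- A chunk of the table `C`. -/
def chunkC (j : ℕ) : ℕ := chunkOf filesC j

/-- A chunk of the table `L`. -/
def chunkL (j : ℕ) : ℕ := chunkOf filesL j

/-- A chunk of the table `J`. -/
def chunkJ (j : ℕ) : ℕ := chunkOf filesJ j

/-- A chunk of the table `R`. -/
def chunkR (j : ℕ) : ℕ := chunkOf filesR j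

/-- A chunk of the table `P`. -/
def chunkP (j : ℕ) : ℕ := chunkOf filesP j

/-- A chunk of the table `H`. -/
def chunkH (j : ℕ) : ℕ := chunkOf4 filesH j

/-- A chunk of the table `T`. -/
def chunkT (j : ℕ) : ℕ := chunkOf4 filesT j

/-- A row of the table of the slots. -/
def rowH (u : ℕ) : ℕ :=
  forceN (Nat.shiftRight u 4) (fun j =>
    Nat.land (Nat.shiftRight (chunkH j) (Nat.mul 516 (Nat.land u 15))) 214524926879081553593184399971293538039669853129478294043576983099548224481176751628829988770670454843040509730983776813660062124991145119142938384097345535)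

/-- The entry of a slot: target, rank and a flag. -/
def hot (u y : ℕ) : ℕ := Nat.land (Nat.shiftRight (rowH u) (Nat.mul 43 y)) 8796093022207

/-- A row of the table of the justifications. -/
def rowC (u : ℕ) : ℕ :=
  forceN (Nat.shiftRight u 6) (fun j =>
    Nat.land (Nat.shiftRight (chunkC j) (Nat.mul 276 (Nat.land u 63))) 121416805764108066932466369176469931665150427440758720078238275608681517825325531135)

/-- The justification of a slot. -/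
def cold (u y : ℕ) : ℕ := Nat.land (Nat.shiftRight (rowC u) (Nat.mul 23 y)) 8388607

/-- The coincidence of a node. -/
def lnk (t : ℕ) : ℕ :=
  forceN t (fun v => forceN (Nat.shiftRight v 8) (fun j =>
    Nat.land (Nat.shiftRight (chunkL j) (Nat.mul 42 (Nat.land v 255))) 4398046511103))

/-- The justification of the coincidence of a node. -/
def lj (t : ℕ) : ℕ :=
  forceN t (fun v => forceN (Nat.shiftRight v 8) (fun j =>
    Nat.land (Nat.shiftRight (chunkJ j) (Nat.mul 24 (Nat.land v 255))) 16777215))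

/-- The parent and the letter of a node in the tree. -/
def tr (t : ℕ) : ℕ :=
  forceN t (fun v => forceN (Nat.shiftRight v 8) (fun j =>
    Nat.land (Nat.shiftRight (chunkR j) (Nat.mul 24 (Nat.land v 255))) 16777215))

/-- A row of the final coset table. -/
def rowT (i : ℕ) : ℕ :=
  forceN (Nat.shiftRight i 5) (fun j =>
    Nat.land (Nat.shiftRight (chunkT j) (Nat.mul 266 (Nat.land i 31))) 118571099379011784113736688648896417641748464297615937576404566024103044751294463)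

/-- The final coset table. -/
def tf (i y : ℕ) : ℕ := Nat.land (Nat.shiftRight (rowT i) (Nat.mul 19 y)) 524287

/-- The parent and the letter of a point of the final table. -/
def tp (t : ℕ) : ℕ :=
  forceN t (fun v => forceN (Nat.shiftRight v 8) (fun j =>
    Nat.land (Nat.shiftRight (chunkP j) (Nat.mul 24 (Nat.land v 255))) 16777215))

/-- The letters are involutions. -/
def invF (y : ℕ) : ℕ := y

/-- The letters of the subgroup: all but `k`. -/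
def subB (y : ℕ) : Bool := Bool.rec true false (Nat.beq y 1)

/-- The Coxeter relators and their inverses, as words in the letters. -/
def coxL : List (List ℕ) := [[0, 1, 0, 1, 0, 1],
  [1, 0, 1, 0, 1, 0],
  [0, 2, 0, 2],
  [2, 0, 2, 0],
  [0, 3, 0, 3],
  [3, 0, 3, 0],
  [0, 4, 0, 4],
  [4, 0, 4, 0],
  [0, 5, 0, 5],
  [5, 0, 5, 0],
  [0, 6, 0, 6],
  [6, 0, 6, 0],
  [0, 7, 0, 7],
  [7, 0, 7, 0],
  [0, 8, 0, 8],
  [8, 0, 8, 0],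
  [0, 9, 0, 9],
  [9, 0, 9, 0],
  [0, 10, 0, 10],
  [10, 0, 10, 0],
  [0, 11, 0, 11],
  [11, 0, 11, 0],
  [1, 2, 1, 2, 1, 2],
  [2, 1, 2, 1, 2, 1],
  [1, 3, 1, 3],
  [3, 1, 3, 1],
  [1, 4, 1, 4],
  [4, 1, 4, 1],
  [1, 5, 1, 5],
  [5, 1, 5, 1],
  [1, 6, 1, 6],
  [6, 1, 6, 1],
  [1, 7, 1, 7],
  [7, 1, 7, 1],
  [1, 8, 1, 8],
  [8, 1, 8, 1],
  [1, 9, 1, 9],
  [9, 1, 9, 1],
  [1, 10, 1, 10],
  [10, 1, 10, 1],
  [1, 11, 1, 11],
  [11, 1, 11, 1],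
  [2, 3, 2, 3, 2, 3],
  [3, 2, 3, 2, 3, 2],
  [2, 4, 2, 4],
  [4, 2, 4, 2],
  [2, 5, 2, 5],
  [5, 2, 5, 2],
  [2, 6, 2, 6],
  [6, 2, 6, 2],
  [2, 7, 2, 7],
  [7, 2, 7, 2],
  [2, 8, 2, 8],
  [8, 2, 8, 2],
  [2, 9, 2, 9],
  [9, 2, 9, 2],
  [2, 10, 2, 10],
  [10, 2, 10, 2],
  [2, 11, 2, 11],
  [11, 2, 11, 2],
  [3, 4, 3, 4, 3, 4],
  [4, 3, 4, 3, 4, 3],
  [3, 5, 3, 5],
  [5, 3, 5, 3],
  [3, 6, 3, 6],
  [6, 3, 6, 3],
  [3, 7, 3, 7],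
  [7, 3, 7, 3],
  [3, 8, 3, 8],
  [8, 3, 8, 3],
  [3, 9, 3, 9],
  [9, 3, 9, 3],
  [3, 10, 3, 10],
  [10, 3, 10, 3],
  [3, 11, 3, 11],
  [11, 3, 11, 3],
  [4, 5, 4, 5, 4, 5],
  [5, 4, 5, 4, 5, 4],
  [4, 6, 4, 6],
  [6, 4, 6, 4],
  [4, 7, 4, 7],
  [7, 4, 7, 4],
  [4, 8, 4, 8],
  [8, 4, 8, 4],
  [4, 9, 4, 9],
  [9, 4, 9, 4],
  [4, 10, 4, 10],
  [10, 4, 10, 4],
  [4, 11, 4, 11],
  [11, 4, 11, 4],
  [5, 6, 5, 6, 5, 6],
  [6, 5, 6, 5, 6, 5],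
  [5, 7, 5, 7],
  [7, 5, 7, 5],
  [5, 8, 5, 8],
  [8, 5, 8, 5],
  [5, 9, 5, 9],
  [9, 5, 9, 5],
  [5, 10, 5, 10, 5, 10],
  [10, 5, 10, 5, 10, 5],
  [5, 11, 5, 11],
  [11, 5, 11, 5],
  [6, 7, 6, 7, 6, 7],
  [7, 6, 7, 6, 7, 6],
  [6, 8, 6, 8],
  [8, 6, 8, 6],
  [6, 9, 6, 9],
  [9, 6, 9, 6],
  [6, 10, 6, 10],
  [10, 6, 10, 6],
  [6, 11, 6, 11],
  [11, 6, 11, 6],
  [7, 8, 7, 8, 7, 8],
  [8, 7, 8, 7, 8, 7],
  [7, 9, 7, 9],
  [9, 7, 9, 7],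
  [7, 10, 7, 10],
  [10, 7, 10, 7],
  [7, 11, 7, 11],
  [11, 7, 11, 7],
  [8, 9, 8, 9, 8, 9],
  [9, 8, 9, 8, 9, 8],
  [8, 10, 8, 10],
  [10, 8, 10, 8],
  [8, 11, 8, 11],
  [11, 8, 11, 8],
  [9, 10, 9, 10],
  [10, 9, 10, 9],
  [9, 11, 9, 11],
  [11, 9, 11, 9],
  [10, 11, 10, 11, 10, 11],
  [11, 10, 11, 10, 11, 10]]

/-- The two further relators and their inverses. -/
def extL : List (List ℕ) := [[0, 10, 7, 6, 5, 4, 3, 2, 10, 7, 6, 5, 4, 3, 2, 10, 7, 6, 5, 4, 3, 2, 10, 7, 6, 5, 4, 3, 2, 10, 7, 6, 5, 4, 3, 2, 10, 7, 6, 5, 4, 3, 2, 10, 7, 6, 5, 4, 3, 2, 10, 7, 6, 5, 4, 3, 2, 10, 7, 6, 5, 4, 3, 2],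
  [2, 3, 4, 5, 6, 7, 10, 2, 3, 4, 5, 6, 7, 10, 2, 3, 4, 5, 6, 7, 10, 2, 3, 4, 5, 6, 7, 10, 2, 3, 4, 5, 6, 7, 10, 2, 3, 4, 5, 6, 7, 10, 2, 3, 4, 5, 6, 7, 10, 2, 3, 4, 5, 6, 7, 10, 2, 3, 4, 5, 6, 7, 10, 0],
  [5, 4, 3, 2, 1, 0, 5, 6, 7, 8, 9, 5, 10, 11, 5, 4, 3, 2, 1, 0, 5, 6, 7, 8, 9, 5, 10, 11, 5, 4, 3, 2, 1, 0, 5, 6, 7, 8, 9, 5, 10, 11, 5, 4, 3, 2, 1, 0, 5, 6, 7, 8, 9, 5, 10, 11, 5, 4, 3, 2, 1, 0, 5, 6, 7, 8, 9, 5, 10, 11, 5, 4, 3, 2, 1, 0, 5, 6, 7, 8, 9, 5, 10, 11, 5, 4, 3, 2, 1, 0, 5, 6, 7, 8, 9, 5, 10, 11, 5, 4, 3, 2, 1, 0, 5, 6, 7, 8, 9, 5, 10, 11, 5, 4, 3, 2, 1, 0, 5, 6, 7, 8, 9, 5, 10, 11, 5, 4, 3, 2, 1, 0, 5, 6, 7, 8, 9, 5, 10, 11, 5, 4, 3, 2, 1, 0, 5, 6, 7, 8, 9, 5, 10, 11, 5, 4, 3, 2, 1, 0, 5, 6, 7, 8, 9, 5, 10, 11, 5, 4, 3, 2, 1, 0, 5, 6, 7, 8, 9, 5, 10, 11, 5, 4, 3, 2, 1, 0, 5, 6, 7, 8, 9, 5, 10, 11, 5, 4, 3, 2, 1, 0, 5, 6, 7, 8,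 9, 5, 10, 11, 5, 4, 3, 2, 1, 0, 5, 6, 7, 8, 9, 5, 10, 11, 5, 4, 3, 2, 1, 0, 5, 6, 7, 8, 9, 5, 10, 11],
  [11, 10, 5, 9, 8, 7, 6, 5, 0, 1, 2, 3, 4, 5, 11, 10, 5, 9, 8, 7, 6, 5, 0, 1, 2, 3, 4, 5, 11, 10, 5, 9, 8, 7, 6, 5, 0, 1, 2, 3, 4, 5, 11, 10, 5, 9, 8, 7, 6, 5, 0, 1, 2, 3, 4, 5, 11, 10, 5, 9, 8, 7, 6, 5, 0, 1, 2, 3, 4, 5, 11, 10, 5, 9, 8, 7, 6, 5, 0, 1, 2, 3, 4, 5, 11, 10, 5, 9, 8, 7, 6, 5, 0, 1, 2, 3, 4, 5, 11, 10, 5, 9, 8, 7, 6, 5, 0, 1, 2, 3, 4, 5, 11, 10, 5, 9, 8, 7, 6, 5, 0, 1, 2, 3, 4, 5, 11, 10, 5, 9, 8, 7, 6, 5, 0, 1, 2, 3, 4, 5, 11, 10, 5, 9, 8, 7, 6, 5, 0, 1, 2, 3, 4, 5, 11, 10, 5, 9, 8, 7, 6, 5, 0, 1, 2, 3, 4, 5, 11, 10, 5, 9, 8, 7, 6, 5, 0, 1, 2, 3, 4, 5, 11, 10, 5, 9, 8, 7, 6, 5, 0, 1, 2, 3, 4, 5, 11, 10, 5, 9, 8, 7, 6, 5, 0, 1, 2, 3, 4, 5, 11, 10, 5, 9, 8, 7, 6, 5, 0, 1, 2, 3, 4, 5, 11, 10, 5, 9, 8, 7, 6, 5, 0, 1, 2, 3, 4, 5]]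

/-- The relators of the certificate. -/
def relList : List (List ℕ) := coxL ++ extL

/-- The relator of an index. -/
def relW (ρ : ℕ) : List ℕ := lgetL relList ρ

/-- The word `d c b a k l d e f g j d h i`, whose walk is held by the column 12. -/
def w14L : List ℕ := [5, 4, 3, 2, 1, 0, 5, 6, 7, 8, 9, 5, 10, 11]

/-- The word `h f e d c b a`, whose walk is held by the column 13. -/
def u7L : List ℕ := [10, 7, 6, 5, 4, 3, 2]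

/-- Sixteen steps along the column 12. -/
def cs16 : List ℕ := [12, 12, 12, 12, 12, 12, 12, 12, 12, 12, 12, 12, 12, 12, 12, 12]

/-- Nine steps along the column 13. -/
def cs9 : List ℕ := [13, 13, 13, 13, 13, 13, 13, 13, 13]

/-- The labels of the Coxeter graph, two bits for each pair of letters. -/
def labF (x z : ℕ) : ℕ :=
  Nat.land (Nat.shiftRight 238300723006185613446393403056033613223885353995741936472662134662942950396697764342445 (Nat.mul 2 (Nat.add (Nat.mul 12 x) z))) 3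

end Cfsg.Agent.Lib.Helper9.Fi24C
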