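import Mathlib
import Cfsg.Prelude.Def_Sporadic_a
import Cfsg.Agent.Lib.Helper9.HSSteiner

set_option autoImplicit false

namespace Cfsg.Agent.Lib.Helper9.HS

open Cfsg

/-! ### The point-block graph of the concrete Steiner system, on `Fin 100` -/

/-- Adjacency of the point-block graph on the codes `0` (extra vertex), `1 + a` (points),
`23 + j` (blocks). -/
def relN (i j : ℕ) : Bool :=
  if i = 0 then decide (1 ≤ j) && decide (j ≤ 22)
  else if i ≤ 22 then decide (23 ≤ j) && (msk (j - 23)).testBit (i - 1)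
  else decide (23 ≤ j) && (msk (i - 23) &&& msk (j - 23) == 0)

/-- The concrete point-block graph. -/
def Γc : SimpleGraph (Fin 100) := SimpleGraph.fromRel (fun i j => relN i.val j.val = true)

/-- Coding of the vertices. -/
def enc : Option (Fin 22 ⊕ Fin 77) → Fin 100
  | none => ⟨0, by omega⟩
  | some (Sum.inl a) => ⟨1 + a.val, by omega⟩
  | some (Sum.inr j) => ⟨23 + j.val, by omega⟩

/-- Decoding of the vertices. -/
def dec (i : Fin 100) : Option (Fin 22 ⊕ Fin 77) :=
  if h0 : i.val = 0 then none
  else if h : i.val ≤ 22 then some (Sum.inl ⟨i.val - 1, by omega⟩)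
  else some (Sum.inr ⟨i.val - 23, by omega⟩)

theorem dec_enc : ∀ x : Option (Fin 22 ⊕ Fin 77), dec (enc x) = x := by decide +kernel

theorem enc_dec : ∀ i : Fin 100, enc (dec i) = i := by decide +kernel

/-- The coding as a bijection. -/
def encEquiv : Option (Fin 22 ⊕ Fin 77) ≃ Fin 100 := ⟨enc, dec, dec_enc, enc_dec⟩

/-- The bijection from the vertices of the point-block graph of `B0` to `Fin 100`. -/
noncomputable def vEquivConc : Option (Fin 22 ⊕ ↥B0) ≃ Fin 100 :=
  (Equiv.optionCongr (Equiv.sumCongr (Equiv.refl _)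
    (Equiv.ofInjective blk blk_injective).symm)).trans encEquiv

theorem vEquivConc_none : vEquivConc none = 0 := rfl

theorem vEquivConc_inl (a : Fin 22) : (vEquivConc (some (Sum.inl a))).val = 1 + a.val := rfl

theorem vEquivConc_inr (b : ↥B0) (j : Fin 77) (hj : blk j = b.1) :
    (vEquivConc (some (Sum.inr b))).val = 23 + j.val := by
  have h1 : (Equiv.ofInjective blk blk_injective).symm b = j := by
    rw [Equiv.symm_apply_eq]
    exact Subtype.ext hj.symm
  show (enc (some (Sum.inr ((Equiv.ofInjective blk blk_injective).symm b)))).val = _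
  rw [h1]
  rfl

theorem rel_00 : relN 0 0 = false := by decide +kernel
theorem rel_0p : ∀ a : Fin 22, relN 0 (1 + a.val) = true := by decide +kernel
theorem rel_0b : ∀ j : Fin 77, relN 0 (23 + j.val) = false := by decide +kernel
theorem rel_p0 : ∀ a : Fin 22, relN (1 + a.val) 0 = false := by decide +kernel
theorem rel_pp : ∀ a a' : Fin 22, relN (1 + a.val) (1 + a'.val) = false := by decide +kernel
theorem rel_pb : ∀ a : Fin 22, ∀ j : Fin 77,
    relN (1 + a.val) (23 + j.val) = (msk j.val).testBit a.val := by decide +kernel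
theorem rel_b0 : ∀ j : Fin 77, relN (23 + j.val) 0 = false := by decide +kernel
theorem rel_bp : ∀ j : Fin 77, ∀ a : Fin 22, relN (23 + j.val) (1 + a.val) = false := by
  decide +kernel
theorem rel_bb : ∀ j k : Fin 77,
    relN (23 + j.val) (23 + k.val) = (msk j.val &&& msk k.val == 0) := by decide +kernel

theorem relConc (x y : Option (Fin 22 ⊕ ↥B0)) :
    relN (vEquivConc x).val (vEquivConc y).val = true ↔ pointBlockRel B0 x y := by
  rcases x with _ | a | b <;> rcases y with _ | a' | b'
  · show relN 0 0 = true ↔ False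
    rw [rel_00]; simp
  · show relN 0 (1 + a'.val) = true ↔ True
    rw [rel_0p]; simp
  · obtain ⟨k, hk⟩ := b'.2
    rw [vEquivConc_inr b' k hk]
    show relN 0 (23 + k.val) = true ↔ False
    rw [rel_0b]; simp
  · show relN (1 + a.val) 0 = true ↔ False
    rw [rel_p0]; simp
  · show relN (1 + a.val) (1 + a'.val) = true ↔ False
    rw [rel_pp]; simp
  · obtain ⟨k, hk⟩ := b'.2
    rw [vEquivConc_inr b' k hk]
    show relN (1 + a.val) (23 + k.val) = true ↔ a ∈ b'.1
    rw [rel_pb, ← hk, blk, mem_ofM]
  · obtain ⟨j, hj⟩ := b.2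
    rw [vEquivConc_inr b j hj]
    show relN (23 + j.val) 0 = true ↔ False
    rw [rel_b0]; simp
  · obtain ⟨j, hj⟩ := b.2
    rw [vEquivConc_inr b j hj]
    show relN (23 + j.val) (1 + a'.val) = true ↔ False
    rw [rel_bp]; simp
  · obtain ⟨j, hj⟩ := b.2
    obtain ⟨k, hk⟩ := b'.2
    rw [vEquivConc_inr b j hj, vEquivConc_inr b' k hk]
    show relN (23 + j.val) (23 + k.val) = true ↔ Disjoint b.1 b'.1
    rw [rel_bb, ← hj, ← hk, blk, blk, ofM_disjoint (msk_lt j)]
    simp

/-- The point-block graph of `B0` is the concrete graph. -/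
noncomputable def isoConc : pointBlockGraph B0 ≃g Γc where
  toEquiv := vEquivConc
  map_rel_iff' := by
    intro x y
    simp only [pointBlockGraph, Γc, SimpleGraph.fromRel_adj, relConc, ne_eq,
      EmbeddingLike.apply_eq_iff_eq]

theorem isoConc_none : isoConc none = 0 := rfl

/-! ### Automorphisms given by tables -/

/-- Symmetric adjacency on codes. -/
def adjN (i j : ℕ) : Bool := relN i j || relN j i

/-- The conditions for a pair of tables to define an automorphism of `Γc`. -/
def tblOK (T Ti : List ℕ) : Bool :=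
  (List.range 100).all (fun i => decide (T.getD i 0 < 100) && decide (Ti.getD i 0 < 100) &&
    (Ti.getD (T.getD i 0) 0 == i) && (T.getD (Ti.getD i 0) 0 == i)) &&
  (List.range 100).all (fun i => (List.range 100).all (fun j =>
    adjN (T.getD i 0) (T.getD j 0) == adjN i j))

theorem tblOK_spec {T Ti : List ℕ} (h : tblOK T Ti = true) (i : ℕ) (hi : i < 100) :
    T.getD i 0 < 100 ∧ Ti.getD i 0 < 100 ∧ Ti.getD (T.getD i 0) 0 = i ∧
      T.getD (Ti.getD i 0) 0 = i := by
  simp only [tblOK, Bool.and_eq_true, List.all_eq_true, List.mem_range, decide_eq_true_eq,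
    beq_iff_eq] at h
  obtain ⟨⟨⟨h1, h2⟩, h3⟩, h4⟩ := h.1 i hi
  exact ⟨h1, h2, h3, h4⟩

theorem tblOK_adj {T Ti : List ℕ} (h : tblOK T Ti = true) (i : ℕ) (hi : i < 100) (j : ℕ)
    (hj : j < 100) : adjN (T.getD i 0) (T.getD j 0) = adjN i j := by
  simp only [tblOK, Bool.and_eq_true, List.all_eq_true, List.mem_range, decide_eq_true_eq,
    beq_iff_eq] at h
  exact h.2 i hi j hj

/-- The permutation given by a table and its inverse. -/
def tblPerm (T Ti : List ℕ) (h : tblOK T Ti = true) : Equiv.Perm (Fin 100) where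
  toFun i := ⟨T.getD i.val 0, (tblOK_spec h i.val i.isLt).1⟩
  invFun i := ⟨Ti.getD i.val 0, (tblOK_spec h i.val i.isLt).2.1⟩
  left_inv i := Fin.ext (tblOK_spec h i.val i.isLt).2.2.1
  right_inv i := Fin.ext (tblOK_spec h i.val i.isLt).2.2.2

/-- The automorphism of `Γc` given by a table and its inverse. -/
def tblAut (T Ti : List ℕ) (h : tblOK T Ti = true) : Γc ≃g Γc where
  toEquiv := tblPerm T Ti h
  map_rel_iff' := by
    intro i j
    simp only [Γc, SimpleGraph.fromRel_adj, ne_eq, EmbeddingLike.apply_eq_iff_eq]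
    have h1 := tblOK_adj h i.val i.isLt j.val j.isLt
    have h2 : (relN (T.getD i.val 0) (T.getD j.val 0) = true ∨
        relN (T.getD j.val 0) (T.getD i.val 0) = true) ↔
        (relN i.val j.val = true ∨ relN j.val i.val = true) := by
      simp only [adjN] at h1
      rw [← Bool.or_eq_true, ← Bool.or_eq_true, h1]
    exact and_congr_right (fun _ => h2)

theorem tblAut_apply (T Ti : List ℕ) (h : tblOK T Ti = true) (i : Fin 100) :
    (tblAut T Ti h i).val = T.getD i.val 0 := rfl

set_option maxRecDepth 100000 in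
theorem T1_ok : tblOK T1 T1i = true := by decide +kernel

set_option maxRecDepth 100000 in
theorem T2_ok : tblOK T2 T2i = true := by decide +kernel

/-- One step of a word: the square of the first or of the second automorphism. -/
def stepN (c x : ℕ) : ℕ :=
  if c = 0 then T1.getD (T1.getD x 0) 0 else T2.getD (T2.getD x 0) 0

/-- The image of vertex `0` under a word. -/
def evalW (w : List ℕ) : ℕ := w.foldr stepN 0

set_option maxRecDepth 100000 in
theorem words_ok : ∀ i : Fin 100, evalW (words.getD i.val []) = i.val := by decide +kernel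

theorem exists_aut_word (w : List ℕ) :
    ∃ φ : Γc ≃g Γc, Equiv.Perm.sign (autToPerm Γc φ) = 1 ∧ (φ 0).val = evalW w := by
  induction w with
  | nil => exact ⟨1, by rw [map_one, map_one], rfl⟩
  | cons c w ih =>
    obtain ⟨φ, hs, h0⟩ := ih
    by_cases hc : c = 0
    · refine ⟨tblAut T1 T1i T1_ok * tblAut T1 T1i T1_ok * φ, ?_, ?_⟩
      · rw [map_mul, map_mul, map_mul, map_mul, hs, Int.units_mul_self, one_mul]
      · show T1.getD (T1.getD (φ 0).val 0) 0 = stepN c (evalW w)
        rw [h0, stepN, if_pos hc]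
    · refine ⟨tblAut T2 T2i T2_ok * tblAut T2 T2i T2_ok * φ, ?_, ?_⟩
      · rw [map_mul, map_mul, map_mul, map_mul, hs, Int.units_mul_self, one_mul]
      · show T2.getD (T2.getD (φ 0).val 0) 0 = stepN c (evalW w)
        rw [h0, stepN, if_neg hc]

/-- The even automorphisms of the concrete graph are transitive on the vertices. -/
theorem conc_trans (i : Fin 100) :
    ∃ φ : Γc ≃g Γc, Equiv.Perm.sign (autToPerm Γc φ) = 1 ∧ φ 0 = i := by
  obtain ⟨φ, hs, h⟩ := exists_aut_word (words.getD i.val [])
  exact ⟨φ, hs, Fin.ext (by rw [h, words_ok])⟩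

end Cfsg.Agent.Lib.Helper9.HS
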