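import Mathlib
import Cfsg.Prelude.Def_Sporadic_a
import Cfsg.Agent.Lib.Helper9.Steiner5824
import Cfsg.Agent.Lib.Helper9.SteinerGen

set_option autoImplicit false

namespace Cfsg.Agent.Lib.Helper9.S12

open Cfsg Finset
open scoped Pointwise

variable {β : Type*} [Fintype β] [DecidableEq β]

/-- The extension of a set system on `β` to `Option β`: the blocks with the new point added, and
the complements of the blocks. -/
def extSys (E : Set (Finset β)) : Set (Finset (Option β)) :=
  {b | (none ∈ b ∧ eraseNone b ∈ E) ∨ (none ∉ b ∧ (eraseNone b)ᶜ ∈ E)}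

omit [Fintype β] in
theorem insertNone_eraseNone_of_mem {b : Finset (Option β)} (h : none ∈ b) :
    insertNone (eraseNone b) = b := by
  rw [insertNone_eraseNone, insert_eq_of_mem h]

omit [Fintype β] in
theorem map_some_eraseNone_of_not_mem {b : Finset (Option β)} (h : none ∉ b) :
    (eraseNone b).map Function.Embedding.some = b := by
  rw [map_some_eraseNone, erase_eq_of_notMem h]

omit [DecidableEq β] [Fintype β] in
theorem eraseNone_mono {s b : Finset (Option β)} (h : s ⊆ b) : eraseNone s ⊆ eraseNone b := by
  intro a ha
  rw [mem_eraseNone] at ha ⊢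
  exact h ha

theorem insertNone_mem_extSys {E : Set (Finset β)} {X : Finset β} (hX : X ∈ E) :
    insertNone X ∈ extSys E :=
  Or.inl ⟨none_mem_insertNone, by rw [eraseNone_insertNone]; exact hX⟩

theorem eraseNone_mem_of_mem_extSys {E : Set (Finset β)} {b : Finset (Option β)}
    (hb : b ∈ extSys E) (h : none ∈ b) : eraseNone b ∈ E := by
  rcases hb with hb | hb
  · exact hb.2
  · exact absurd h hb.1

/-- Intersection numbers of a 5-set with an `S(4,5,11)`: exactly one block is equal to or
disjoint from it. -/
theorem interNum_zero_add_five (hβ : Fintype.card β = 11) {E : Set (Finset β)}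
    (hE : IsSteinerSystem 4 5 E) (T : Finset β) (hT : T.card = 5) :
    interNum E T 0 + interNum E T 5 = 1 := by
  have e := fun j (hj : j ≤ 4) =>
    sum_choose_mul_card_inter hE ∅ T (disjoint_empty_left T) j (by simpa using hj)
  have e0 := e 0 (by norm_num)
  have e1 := e 1 (by norm_num)
  have e2 := e 2 (by norm_num)
  have e3 := e 3 (by norm_num)
  have e4 := e 4 (by norm_num)
  simp only [interNum_eq, hT, hβ, card_empty, zero_add, sum_range_succ, sum_range_zero]
    at e0 e1 e2 e3 e4
  norm_num [Nat.choose] at e0 e1 e2 e3 e4
  omega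

/-- The extension of an `S(4,5,11)` is an `S(5,6,12)`. -/
theorem ext_steiner (hβ : Fintype.card β = 11) {E : Set (Finset β)}
    (hE : IsSteinerSystem 4 5 E) : IsSteinerSystem 5 6 (extSys E) := by
  refine ⟨?_, ?_⟩
  · rintro b (⟨h1, h2⟩ | ⟨h1, h2⟩)
    · have h3 := card_eraseNone_of_mem h1
      have h4 := hE.1 _ h2
      have h5 : 0 < b.card := card_pos.mpr ⟨none, h1⟩
      omega
    · have h3 := card_eraseNone_of_not_mem h1
      have h4 := hE.1 _ h2
      rw [card_compl, hβ] at h4
      have h5 := card_le_univ (eraseNone b)
      rw [hβ] at h5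
      omega
  · intro s hs
    by_cases hn : none ∈ s
    · have hT : (eraseNone s).card = 4 := by
        rw [card_eraseNone_of_mem hn, hs]
      obtain ⟨X, ⟨hX, hTX⟩, huniq⟩ := hE.2 _ hT
      refine ⟨insertNone X, ⟨insertNone_mem_extSys hX, ?_⟩, ?_⟩
      · rw [← insertNone_eraseNone_of_mem hn]
        exact insertNone.monotone hTX
      · rintro b' ⟨hb', hsb'⟩
        have hn' : none ∈ b' := hsb' hn
        have h1 := eraseNone_mem_of_mem_extSys hb' hn'
        have h2 := huniq _ ⟨h1, eraseNone_mono hsb'⟩
        rw [← insertNone_eraseNone_of_mem hn', h2]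
    · have hT : (eraseNone s).card = 5 := by
        rw [card_eraseNone_of_not_mem hn, hs]
      have hsT := map_some_eraseNone_of_not_mem hn
      have hnum := interNum_zero_add_five hβ hE _ hT
      -- characterisation of the blocks through `s`
      have hchar : ∀ b' : Finset (Option β), b' ∈ extSys E → s ⊆ b' →
          (none ∈ b' ∧ eraseNone b' ∈ (blocksFin E).filter
            (fun c => (eraseNone s ∩ c).card = 5)) ∨
          (none ∉ b' ∧ (eraseNone b')ᶜ ∈ (blocksFin E).filter
            (fun c => (eraseNone s ∩ c).card = 0)) := by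
        intro b' hb' hsb'
        rcases hb' with ⟨h1, h2⟩ | ⟨h1, h2⟩
        · left
          refine ⟨h1, ?_⟩
          rw [mem_filter, mem_blocksFin]
          refine ⟨h2, ?_⟩
          rw [inter_eq_left.mpr (eraseNone_mono hsb'), hT]
        · right
          refine ⟨h1, ?_⟩
          rw [mem_filter, mem_blocksFin]
          refine ⟨h2, ?_⟩
          rw [card_eq_zero, ← disjoint_iff_inter_eq_empty]
          exact disjoint_compl_right.mono_left (eraseNone_mono hsb')
      have h05 : interNum E (eraseNone s) 0 = 1 ∧ interNum E (eraseNone s) 5 = 0 ∨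
          interNum E (eraseNone s) 0 = 0 ∧ interNum E (eraseNone s) 5 = 1 := by omega
      rcases h05 with ⟨h0, h5⟩ | ⟨h0, h5⟩
      · -- a unique block disjoint from `T`
        rw [interNum, card_eq_one] at h0
        obtain ⟨X, hX⟩ := h0
        rw [interNum, card_eq_zero] at h5
        have hXm : X ∈ (blocksFin E).filter (fun c => (eraseNone s ∩ c).card = 0) := by
          rw [hX]; exact mem_singleton_self X
        rw [mem_filter, mem_blocksFin, card_eq_zero, ← disjoint_iff_inter_eq_empty] at hXm
        refine ⟨Xᶜ.map Function.Embedding.some, ⟨Or.inr ⟨?_, ?_⟩, ?_⟩, ?_⟩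
        · simp
        · rw [eraseNone_map_some, compl_compl]
          exact hXm.1
        · rw [← hsT]
          apply map_subset_map.mpr
          intro a ha
          rw [mem_compl]
          exact fun haX => (disjoint_left.mp hXm.2) ha haX
        · rintro b' ⟨hb', hsb'⟩
          rcases hchar b' hb' hsb' with ⟨-, h2⟩ | ⟨h1, h2⟩
          · rw [h5] at h2
            exact absurd h2 (notMem_empty _)
          · rw [hX, mem_singleton] at h2
            rw [← map_some_eraseNone_of_not_mem h1, ← h2, compl_compl]
      · -- `T` is a block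
        rw [interNum, card_eq_one] at h5
        obtain ⟨X, hX⟩ := h5
        rw [interNum, card_eq_zero] at h0
        have hXm : X ∈ (blocksFin E).filter (fun c => (eraseNone s ∩ c).card = 5) := by
          rw [hX]; exact mem_singleton_self X
        rw [mem_filter, mem_blocksFin] at hXm
        have hTX : eraseNone s ⊆ X := by
          have : eraseNone s ∩ X = eraseNone s :=
            eq_of_subset_of_card_le inter_subset_left (by rw [hXm.2, hT])
          rw [← this]
          exact inter_subset_right
        refine ⟨insertNone X, ⟨insertNone_mem_extSys hXm.1, ?_⟩, ?_⟩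
        · rw [← hsT]
          intro o ho
          rw [mem_map] at ho
          obtain ⟨a, ha, rfl⟩ := ho
          exact some_mem_insertNone.mpr (hTX ha)
        · rintro b' ⟨hb', hsb'⟩
          rcases hchar b' hb' hsb' with ⟨h1, h2⟩ | ⟨-, h2⟩
          · rw [hX, mem_singleton] at h2
            rw [← insertNone_eraseNone_of_mem h1, h2]
          · rw [h0] at h2
            exact absurd h2 (notMem_empty _)

end Cfsg.Agent.Lib.Helper9.S12
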