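import Mathlib
import Cfsg.Prelude.Def_Sporadic_a
import Cfsg.Agent.Lib.Helper9.S12Data

set_option autoImplicit false

namespace Cfsg.Agent.Lib.Helper9.S12

open Cfsg

set_option maxRecDepth 100000 in
theorem L0_card : ∀ m ∈ L0, m < 4096 ∧ popc m = 6 := by
  decide +kernel

set_option maxRecDepth 100000 in
theorem L0_cover : ∀ s : ℕ, s < 4096 → popc s = 5 →
    ∃ m ∈ L0, s &&& m = s ∧ ∀ m' ∈ L0, s &&& m' = s → m' = m := by
  decide +kernel

/-- The list `L0` is a Steiner system `S(5,6,12)`. -/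
theorem L0_steiner : IsSteinerSystem 5 6 (sysOf L0) := by
  refine ⟨?_, ?_⟩
  · rintro b ⟨m, hm, rfl⟩
    obtain ⟨h1, h2⟩ := L0_card m hm
    rw [card_ofMask h1, h2]
  · intro S hS
    have hlt := toMask_lt S
    have hS' : ofMask (toMask S) = S := ofMask_toMask S
    have hp : popc (toMask S) = 5 := by rw [← card_ofMask hlt, hS', hS]
    obtain ⟨m, hm, hsm, huniq⟩ := L0_cover (toMask S) hlt hp
    refine ⟨ofMask m, ⟨⟨m, hm, rfl⟩, ?_⟩, ?_⟩
    · rw [← hS']
      exact (ofMask_subset hlt).mpr hsm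
    · rintro _ ⟨⟨m', hm', rfl⟩, hsub⟩
      rw [← hS'] at hsub
      rw [huniq m' hm' ((ofMask_subset hlt).mp hsub)]

set_option maxRecDepth 100000 in
theorem cert_ok : chk L0 cert false [] 0 [] = true := by
  decide +kernel

/-- Every Steiner system `S(5,6,12)` on `Fin 12` is isomorphic to `sysOf L0`. -/
theorem uniq_fin12 (D : Set (Finset (Fin 12))) (hD : IsSteinerSystem 5 6 D) :
    SetSystemIso D (sysOf L0) :=
  chk_sound L0 L0_steiner cert false [] 0 [] cert_ok D hD (by simp) (by simp)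

/-- Every Steiner system `S(5,6,12)` is isomorphic to `sysOf L0`. -/
theorem uniq_std {α : Type*} [Fintype α] [DecidableEq α] (hα : Fintype.card α = 12)
    {B : Set (Finset α)} (hB : IsSteinerSystem 5 6 B) : SetSystemIso B (sysOf L0) := by
  have e : α ≃ Fin 12 := Fintype.equivFinOfCardEq hα
  have h1 : SetSystemIso B ((fun b => b.image e) '' B) := ⟨e, rfl⟩
  exact Cfsg.Agent.Lib.Helper9.setSystemIso_trans h1
    (uniq_fin12 _ (Cfsg.Agent.Lib.Helper9.steiner_image hB e))

/-- Uniqueness of the Steiner system `S(5,6,12)`. -/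
theorem steiner_5_6_12_unique {α β : Type*} [Fintype α] [DecidableEq α] [Fintype β]
    [DecidableEq β] (hα : Fintype.card α = 12) (hβ : Fintype.card β = 12) {B : Set (Finset α)}
    {B' : Set (Finset β)} (hB : IsSteinerSystem 5 6 B) (hB' : IsSteinerSystem 5 6 B') :
    SetSystemIso B B' :=
  Cfsg.Agent.Lib.Helper9.setSystemIso_trans (uniq_std hα hB)
    (Cfsg.Agent.Lib.Helper9.setSystemIso_symm (uniq_std hβ hB'))

end Cfsg.Agent.Lib.Helper9.S12
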