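import Mathlib
import Cfsg.Prelude.Def_Sporadic_a
import Cfsg.Agent.Lib.Helper9.S12Uniq

set_option autoImplicit false

namespace Cfsg.Agent.Lib.Helper9.S12

open Cfsg
open scoped Pointwise

/-- Knowledge about a map `g`: a list of pairs `(i, j)` with `g i = j`. -/
def Knows (g : Fin 12 → Fin 12) (K : List (ℕ × ℕ)) : Prop :=
  ∀ p ∈ K, ∀ i : Fin 12, i.val = p.1 → (g i).val = p.2

/-- The mask of the known images of the points of `t`. -/
def imgK : List (ℕ × ℕ) → ℕ → ℕ
  | [], _ => 0
  | p :: K, t => if t.testBit p.1 then 2 ^ p.2 ||| imgK K t else imgK K t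

theorem imgK_spec (K : List (ℕ × ℕ)) (t j : ℕ) (h : (imgK K t).testBit j = true) :
    ∃ p ∈ K, t.testBit p.1 = true ∧ p.2 = j := by
  induction K with
  | nil => simp [imgK] at h
  | cons p K ih =>
    simp only [imgK] at h
    by_cases hp : t.testBit p.1 = true
    · rw [if_pos hp, Nat.testBit_or, Bool.or_eq_true, Nat.testBit_two_pow] at h
      rcases h with h | h
      · exact ⟨p, List.mem_cons_self, hp, by simpa using h⟩
      · obtain ⟨q, hq, h1, h2⟩ := ih h
        exact ⟨q, List.mem_cons_of_mem _ hq, h1, h2⟩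
    · rw [if_neg hp] at h
      obtain ⟨q, hq, h1, h2⟩ := ih h
      exact ⟨q, List.mem_cons_of_mem _ hq, h1, h2⟩

/-- One transport step: the block `t ∪ {x}` goes to the block `g t ∪ {y}`. -/
def tstep (L : List ℕ) (K : List (ℕ × ℕ)) (t x y : ℕ) : Bool :=
  five t && !t.testBit x && decide (x < 12) && decide (y < 12) && L.contains (t ||| 2 ^ x) &&
    five (imgK K t) && L.contains (imgK K t ||| 2 ^ y)

theorem testBit_lt_of_lt {t i : ℕ} (ht : t < 4096) (h : t.testBit i = true) : i < 12 := by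
  by_contra hi
  have : t.testBit i = false := by
    apply Nat.testBit_lt_two_pow
    calc t < 2 ^ 12 := ht
      _ ≤ 2 ^ i := Nat.pow_le_pow_right (by norm_num) (by omega)
  rw [this] at h
  exact absurd h (by simp)

theorem tstep_sound {L : List ℕ} (hL : IsSteinerSystem 5 6 (sysOf L)) {g : Fin 12 → Fin 12}
    (hinj : Function.Injective g)
    (hAut : ∀ m ∈ L, (ofMask m).image g ∈ sysOf L) {K : List (ℕ × ℕ)} (hK : Knows g K)
    {t x y : ℕ} (h : tstep L K t x y = true) : Knows g ((x, y) :: K) := by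
  simp only [tstep, Bool.and_eq_true, Bool.not_eq_true', decide_eq_true_eq,
    List.contains_iff_mem] at h
  obtain ⟨⟨⟨⟨⟨⟨ht, htx⟩, hx⟩, hy⟩, hm⟩, ht'⟩, hm'⟩ := h
  obtain ⟨ht1, ht2⟩ := five_spec ht
  obtain ⟨ht'1, ht'2⟩ := five_spec ht'
  have hsub : ofMask (imgK K t) ⊆ (ofMask t).image g := by
    intro j hj
    rw [mem_ofMask] at hj
    obtain ⟨p, hp, hp1, hp2⟩ := imgK_spec K t j.val hj
    have hlt : p.1 < 12 := testBit_lt_of_lt ht1 hp1
    rw [Finset.mem_image]
    refine ⟨⟨p.1, hlt⟩, mem_ofMask.mpr hp1, ?_⟩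
    apply Fin.ext
    rw [hK p hp ⟨p.1, hlt⟩ rfl, hp2]
  have heq : ofMask (imgK K t) = (ofMask t).image g := by
    apply Finset.eq_of_subset_of_card_le hsub
    rw [Finset.card_image_of_injective _ hinj, ht2, ht'2]
  have h1 := hAut _ hm
  rw [show t ||| 2 ^ x = t ||| 2 ^ (⟨x, hx⟩ : Fin 12).val from rfl, ofMask_or_pow,
    Finset.image_insert, ← heq] at h1
  have h2 : ofMask (imgK K t ||| 2 ^ y) ∈ sysOf L := ⟨_, hm', rfl⟩
  rw [show imgK K t ||| 2 ^ y = imgK K t ||| 2 ^ (⟨y, hy⟩ : Fin 12).val from rfl,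
    ofMask_or_pow] at h2
  obtain ⟨b, -, hb⟩ := hL.2 _ ht'2
  have e1 := hb _ ⟨h1, Finset.subset_insert _ _⟩
  have e2 := hb _ ⟨h2, Finset.subset_insert _ _⟩
  have hgx : g ⟨x, hx⟩ ∈ insert (⟨y, hy⟩ : Fin 12) (ofMask (imgK K t)) := by
    rw [e2, ← e1]
    exact Finset.mem_insert_self _ _
  have hnot : g ⟨x, hx⟩ ∉ ofMask (imgK K t) := by
    rw [heq, Finset.mem_image]
    rintro ⟨a, ha, hag⟩
    have := hinj hag
    rw [this, mem_ofMask] at ha
    rw [htx] at ha
    exact absurd ha (by simp)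
  have hgxy : g ⟨x, hx⟩ = ⟨y, hy⟩ := by
    rcases Finset.mem_insert.mp hgx with h3 | h3
    · exact h3
    · exact absurd h3 hnot
  intro p hp i hi
  rcases List.mem_cons.mp hp with rfl | hp
  · have : i = ⟨x, hx⟩ := Fin.ext hi
    rw [this, hgxy]
  · exact hK p hp i hi

/-- Run a list of transport steps. -/
def trun (L : List ℕ) : List (ℕ × ℕ) → List (ℕ × ℕ × ℕ) → Option (List (ℕ × ℕ))
  | K, [] => some K
  | K, st :: sts => if tstep L K st.1 st.2.1 st.2.2 then trun L ((st.2.1, st.2.2) :: K) sts else none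

theorem trun_sound {L : List ℕ} (hL : IsSteinerSystem 5 6 (sysOf L)) {g : Fin 12 → Fin 12}
    (hinj : Function.Injective g) (hAut : ∀ m ∈ L, (ofMask m).image g ∈ sysOf L) :
    ∀ (sts : List (ℕ × ℕ × ℕ)) (K K' : List (ℕ × ℕ)), Knows g K → trun L K sts = some K' →
      Knows g K' := by
  intro sts
  induction sts with
  | nil =>
    intro K K' hK h
    simp only [trun, Option.some.injEq] at h
    rw [← h]
    exact hK
  | cons st sts ih =>
    intro K K' hK h
    simp only [trun] at h
    by_cases hs : tstep L K st.1 st.2.1 st.2.2 = true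
    · rw [if_pos hs] at h
      exact ih _ _ (tstep_sound hL hinj hAut hK hs) h
    · rw [if_neg hs] at h
      exact absurd h (by simp)

/-- The knowledge is contradictory. -/
def conflict (K : List (ℕ × ℕ)) : Bool :=
  K.any (fun p => K.any (fun q => decide (p.1 < 12) && decide (q.1 < 12) &&
    ((p.1 == q.1 && p.2 != q.2) || (p.2 == q.2 && p.1 != q.1))))

theorem conflict_false {g : Fin 12 → Fin 12} (hinj : Function.Injective g) {K : List (ℕ × ℕ)}
    (hK : Knows g K) (h : conflict K = true) : False := by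
  simp only [conflict, List.any_eq_true, Bool.and_eq_true, decide_eq_true_eq, Bool.or_eq_true,
    beq_iff_eq, bne_iff_ne] at h
  obtain ⟨p, hp, q, hq, ⟨hp1, hq1⟩, h2⟩ := h
  have e1 := hK p hp ⟨p.1, hp1⟩ rfl
  have e2 := hK q hq ⟨q.1, hq1⟩ rfl
  rcases h2 with ⟨h3, h4⟩ | ⟨h3, h4⟩
  · apply h4
    rw [← e1, ← e2]
    congr 2
    exact Fin.ext h3
  · apply h4
    have : g ⟨p.1, hp1⟩ = g ⟨q.1, hq1⟩ := Fin.ext (by rw [e1, e2, h3])
    exact congrArg Fin.val (hinj this)

/-- The knowledge says that `g` is the identity. -/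
def isId (K : List (ℕ × ℕ)) : Bool := (List.range 12).all (fun i => K.contains (i, i))

theorem isId_spec {g : Fin 12 → Fin 12} {K : List (ℕ × ℕ)} (hK : Knows g K)
    (h : isId K = true) (i : Fin 12) : g i = i := by
  simp only [isId, List.all_eq_true, List.mem_range, List.contains_iff_mem] at h
  exact Fin.ext (hK _ (h i.val i.isLt) i rfl)

/-- Certificates for the sharpness: for each value `q` of `g 6`. -/
def sharpCerts : List (List (ℕ × ℕ × ℕ)) :=
  [[], [], [], [], [], [], [(79, 7, 7), (87, 8, 8), (91, 9, 9), (107, 10, 10), (103, 11, 11)], [(87, 8, 10), (109, 8, 11)], [(79, 7, 9), (115, 7, 11)], [(79, 7, 8), (115, 7, 10)], [(79, 7, 11), (115, 7, 9)], [(79, 7, 10), (115, 7, 8)]]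

/-- The initial knowledge. -/
def K5 : List (ℕ × ℕ) := [(0, 0), (1, 1), (2, 2), (3, 3), (4, 4)]

/-- The knowledge after the first step. -/
def K6 : List (ℕ × ℕ) := [(5, 5), (0, 0), (1, 1), (2, 2), (3, 3), (4, 4)]

set_option maxRecDepth 100000 in
theorem sharp_cert0 : trun L0 K5 [(31, 5, 5)] = some K6 := by
  decide +kernel

set_option maxRecDepth 100000 in
theorem sharp_cert : (List.range 12).all (fun q =>
    match trun L0 ((6, q) :: K6) (sharpCerts.getD q []) with
    | some K => if q == 6 then isId K else conflict K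
    | none => false) = true := by
  decide +kernel

theorem L0_image_mem {g : Equiv.Perm (Fin 12)} (hg : g ∈ setSystemAut (sysOf L0)) :
    ∀ m ∈ L0, (ofMask m).image g ∈ sysOf L0 := by
  intro m hm
  have h1 : g • sysOf L0 = sysOf L0 := hg
  have h2 : g • ofMask m ∈ g • sysOf L0 := Set.smul_mem_smul_set ⟨m, hm, rfl⟩
  rw [h1] at h2
  have h3 : g • ofMask m = (ofMask m).image g := by
    ext x
    simp only [Finset.mem_smul_finset, Finset.mem_image, Equiv.Perm.smul_def]
  rw [← h3]
  exact h2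

/-- An automorphism of `sysOf L0` fixing the points `0, 1, 2, 3, 4` is trivial. -/
theorem sharp_std {g : Equiv.Perm (Fin 12)} (hg : g ∈ setSystemAut (sysOf L0))
    (h : ∀ i : Fin 12, i.val < 5 → g i = i) : g = 1 := by
  have hinj : Function.Injective g := g.injective
  have hAut := L0_image_mem hg
  have hK5 : Knows g K5 := by
    intro p hp i hi
    simp only [K5, List.mem_cons, List.not_mem_nil, or_false] at hp
    have hi5 : i.val < 5 := by
      rcases hp with rfl | rfl | rfl | rfl | rfl <;> simp [hi]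
    rw [h i hi5, hi]
    rcases hp with rfl | rfl | rfl | rfl | rfl <;> rfl
  have hK6 : Knows g K6 := trun_sound L0_steiner hinj hAut _ _ _ hK5 sharp_cert0
  have hq : (g 6).val < 12 := (g 6).isLt
  have hc := List.all_eq_true.mp sharp_cert (g 6).val (List.mem_range.mpr hq)
  have hK7 : Knows g ((6, (g 6).val) :: K6) := by
    intro p hp i hi
    rcases List.mem_cons.mp hp with rfl | hp
    · have : i = 6 := Fin.ext hi
      rw [this]
    · exact hK6 p hp i hi
  match hr : trun L0 ((6, (g 6).val) :: K6) (sharpCerts.getD (g 6).val []), hc with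
  | some K, hc =>
    have hK := trun_sound L0_steiner hinj hAut _ _ _ hK7 hr
    by_cases h6 : ((g 6).val == 6) = true
    · simp only [h6, if_true] at hc
      ext i
      rw [isId_spec hK hc i]
      rfl
    · simp only [h6, Bool.false_eq_true, if_false] at hc
      exact (conflict_false hinj hK hc).elim

end Cfsg.Agent.Lib.Helper9.S12
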