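import Mathlib
import Cfsg.Prelude.Def_Sporadic_a
import Cfsg.Agent.Lib.Helper9.S11Ext
import Cfsg.Agent.Lib.Helper9.S12Sharp
import Cfsg.Agent.Lib.Helper9.AutTransfer
import Cfsg.Agent.Lib.Helper9.M24Chain
import Cfsg.Agent.S0384
import Cfsg.Agent.S0368

/-!
Copies of two generic lemmas of `Lib/Helper9/S11Uniq.lean` (namespace `S12` there), for the
copies `HSB*.lean` of the Higman-Sims graph library that avoid importing `S11Uniq` (see the
header of `HSBGraph.lean`).  Used by row S1666 only.
-/

set_option autoImplicit false

namespace Cfsg.Agent.Lib.Helper9.HSB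

open Cfsg Finset
open scoped Pointwise

section General

variable {α : Type*} [DecidableEq α]

theorem perm_smul_eq_image (g : Equiv.Perm α) (b : Finset α) : g • b = b.image g := by
  ext x
  simp [Finset.mem_smul_finset]

theorem mem_aut_iff_image {B : Set (Finset α)} (g : Equiv.Perm α) :
    g ∈ setSystemAut B ↔ (fun b => b.image g) '' B = B := by
  show g ∈ MulAction.stabilizer _ B ↔ _
  rw [MulAction.mem_stabilizer_iff]
  have h1 : g • B = (fun b => b.image g) '' B := by
    ext b
    simp only [Set.mem_smul_set, Set.mem_image, perm_smul_eq_image]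
  rw [h1]

end General

end Cfsg.Agent.Lib.Helper9.HSB
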