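import Mathlib
import Cfsg.Prelude.Def_Sporadic_a
import Cfsg.Agent.Lib.Helper9.HSBConc
import Cfsg.Agent.Lib.Helper9.Steiner22
import Cfsg.Agent.S0414

/- Copy of `Lib/Helper9/HSAut.lean` in the namespace `Cfsg.Agent.Lib.Helper9.HSB`, with the
import of `S11Uniq` (whose closure contains `Lib/Helper10/Hexads.lean`, which cannot be imported
together with `Lib/Helper10/Lambda2.lean`: both declare `Helper10.card_golayPt`) replaced by
`HSBPre`.  Used by row S1666 only. -/
set_option autoImplicit false

namespace Cfsg.Agent.Lib.Helper9.HSB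

open Cfsg Cfsg.Agent.Lib.Helper9.HS

variable {α : Type*} [Fintype α] [DecidableEq α]

/-- The point-block graph of any Steiner system `S(3,6,22)` is the concrete graph. -/
theorem exists_iso_conc (hα : Fintype.card α = 22) {B : Set (Finset α)}
    (hB : IsSteinerSystem 3 6 B) : ∃ ι : pointBlockGraph B ≃g Γc, ι none = 0 := by
  obtain ⟨e, he⟩ := Cfsg.Agent.Lib.Helper9.setSystemIso_trans
    (Cfsg.Agent.Lib.Helper9.exists_iso_der22 hα hB)
    (Cfsg.Agent.Lib.Helper9.setSystemIso_symm
      (Cfsg.Agent.Lib.Helper9.exists_iso_der22 (by simp) B0_steiner))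
  exact ⟨(pbgIso e he).trans isoConc, rfl⟩

/-- The automorphism group of the point-block graph of a Steiner system `S(3,6,22)` is
transitive on the vertices. -/
theorem aut_transitive (hα : Fintype.card α = 22) {B : Set (Finset α)}
    (hB : IsSteinerSystem 3 6 B) (v : Option (α ⊕ ↥B)) :
    ∃ φ : pointBlockGraph B ≃g pointBlockGraph B, φ none = v := by
  obtain ⟨ι, hι⟩ := exists_iso_conc hα hB
  obtain ⟨ψ, -, hψ⟩ := conc_trans (ι v)
  refine ⟨(ι.trans ψ).trans ι.symm, ?_⟩
  show ι.symm (ψ (ι none)) = v
  rw [hι, hψ, RelIso.symm_apply_apply]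

theorem card_vertices (hα : Fintype.card α = 22) {B : Set (Finset α)}
    (hB : IsSteinerSystem 3 6 B) : Nat.card (Option (α ⊕ ↥B)) = 100 := by
  obtain ⟨ι, -⟩ := exists_iso_conc hα hB
  rw [Nat.card_congr ι.toEquiv, Nat.card_eq_fintype_card, Fintype.card_fin]

/-- The order of the automorphism group of the point-block graph of a Steiner system
`S(3,6,22)`. -/
theorem card_aut (hα : Fintype.card α = 22) {B : Set (Finset α)}
    (hB : IsSteinerSystem 3 6 B) :
    Nat.card (pointBlockGraph B ≃g pointBlockGraph B) = 88704000 := by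
  have h1 := Subgroup.card_mul_index
    (MulAction.stabilizer (pointBlockGraph B ≃g pointBlockGraph B) (none : Option (α ⊕ ↥B)))
  have horb : MulAction.orbit (pointBlockGraph B ≃g pointBlockGraph B)
      (none : Option (α ⊕ ↥B)) = Set.univ := by
    ext v
    simp only [Set.mem_univ, iff_true]
    obtain ⟨φ, hφ⟩ := aut_transitive hα hB v
    exact ⟨φ, hφ⟩
  rw [MulAction.index_stabilizer, card_stabilizer_none, (Cfsg.Agent.S0414.result hα hB).1,
    horb, Set.ncard_univ, card_vertices hα hB] at h1
  omega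

end Cfsg.Agent.Lib.Helper9.HSB
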