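import Mathlib

set_option autoImplicit false

namespace Cfsg.Agent.Lib.Helper9.HS

def T0 : List ℕ :=
  [
   0, 12, 8, 21, 9, 5, 17, 7, 2, 4, 10, 18, 1, 13, 14, 22, 16, 6, 11, 19,
   20, 3, 15, 41, 67, 69, 79, 97, 28, 83, 87, 31, 65, 38, 34, 96, 36, 64, 33, 84,
   66, 23, 42, 98, 89, 45, 72, 49, 48, 47, 88, 59, 52, 91, 77, 55, 93, 99, 58, 51,
   78, 61, 62, 63, 37, 32, 40, 24, 80, 25, 82, 71, 46, 90, 74, 75, 92, 54, 60, 26,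
   68, 81, 70, 29, 39, 85, 86, 30, 50, 44, 73, 53, 76, 56, 94, 95, 35, 27, 43, 57]

def T0i : List ℕ :=
  [
   0, 12, 8, 21, 9, 5, 17, 7, 2, 4, 10, 18, 1, 13, 14, 22, 16, 6, 11, 19,
   20, 3, 15, 41, 67, 69, 79, 97, 28, 83, 87, 31, 65, 38, 34, 96, 36, 64, 33, 84,
   66, 23, 42, 98, 89, 45, 72, 49, 48, 47, 88, 59, 52, 91, 77, 55, 93, 99, 58, 51,
   78, 61, 62, 63, 37, 32, 40, 24, 80, 25, 82, 71, 46, 90, 74, 75, 92, 54, 60, 26,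
   68, 81, 70, 29, 39, 85, 86, 30, 50, 44, 73, 53, 76, 56, 94, 95, 35, 27, 43, 57]

def U1 : List ℕ :=
  [
   0, 19, 15, 6, 21, 3, 12, 14, 13, 20, 22, 1, 18, 11, 5, 16, 10, 9, 17, 2,
   7, 4, 8, 95, 88, 93, 74, 30, 81, 58, 45, 78, 43, 64, 25, 96, 50, 71, 56, 87,
   62, 92, 99, 54, 70, 90, 38, 53, 32, 67, 47, 52, 48, 94, 39, 75, 40, 34, 84, 68,
   72, 27, 79, 76, 60, 37, 69, 86, 55, 98, 35, 31, 44, 83, 23, 80, 66, 42, 59, 57,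
   65, 82, 24, 73, 89, 29, 77, 41, 36, 61, 85, 97, 51, 46, 28, 49, 91, 33, 63, 26]

def U1i : List ℕ :=
  [
   0, 11, 19, 5, 21, 14, 3, 20, 22, 17, 16, 13, 6, 8, 7, 2, 15, 18, 12, 1,
   9, 4, 10, 74, 82, 34, 99, 61, 94, 85, 27, 71, 48, 97, 57, 70, 88, 65, 46, 54,
   56, 87, 77, 32, 72, 30, 93, 50, 52, 95, 36, 92, 51, 47, 43, 68, 38, 79, 29, 78,
   64, 89, 40, 98, 33, 80, 76, 49, 59, 66, 44, 37, 60, 83, 26, 55, 63, 86, 31, 62,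
   75, 28, 81, 73, 58, 90, 67, 39, 24, 84, 45, 96, 41, 25, 53, 23, 35, 91, 69, 42]

def U2 : List ℕ :=
  [
   0, 13, 10, 6, 21, 8, 11, 18, 22, 9, 19, 15, 5, 12, 3, 7, 2, 1, 14, 20,
   4, 16, 17, 73, 88, 43, 97, 39, 90, 79, 27, 64, 24, 95, 36, 72, 81, 65, 25, 48,
   38, 89, 78, 51, 75, 61, 93, 53, 57, 99, 52, 86, 37, 42, 23, 63, 26, 80, 44, 69,
   76, 91, 60, 96, 29, 82, 70, 45, 40, 74, 28, 30, 58, 94, 54, 49, 66, 83, 55, 41,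
   71, 46, 85, 67, 50, 84, 68, 32, 56, 92, 62, 98, 31, 33, 59, 34, 47, 87, 77, 35]

def U2i : List ℕ :=
  [
   0, 17, 16, 14, 20, 12, 3, 15, 5, 9, 2, 6, 13, 1, 18, 11, 21, 22, 7, 10,
   19, 4, 8, 54, 32, 38, 56, 30, 70, 64, 71, 92, 87, 93, 95, 99, 34, 52, 40, 27,
   68, 79, 53, 25, 58, 67, 81, 96, 39, 75, 84, 43, 50, 47, 74, 78, 88, 48, 72, 94,
   62, 45, 90, 55, 31, 37, 76, 83, 86, 59, 66, 80, 35, 23, 69, 44, 60, 98, 42, 29,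
   57, 36, 65, 77, 85, 82, 51, 97, 24, 41, 28, 61, 89, 46, 73, 33, 63, 26, 91, 49]

/-- A decomposition of the permutation with table `T0` into transpositions. -/
def sw0 : List (Fin 100 × Fin 100) :=
  [(1, 12), (2, 8), (3, 21), (4, 9), (6, 17), (11, 18), (15, 22), (23, 41), (24, 67), (25, 69), (26, 79), (27, 97), (29, 83), (30, 87), (32, 65), (33, 38), (35, 96), (37, 64), (39, 84), (40, 66), (43, 98), (44, 89), (46, 72), (47, 49), (50, 88), (51, 59), (53, 91), (54, 77), (56, 93), (57, 99), (60, 78), (68, 80), (70, 82), (73, 90), (76, 92)]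

/-- Words in the squares of `U1`, `U2` carrying vertex `1` to each point and vertex `23` to each block. -/
def words2 : List (List ℕ) :=
  [[],
   [],
   [0],
   [1, 1, 0, 1, 0],
   [1, 1, 0],
   [1, 1, 0, 1],
   [1, 0, 0, 0, 1],
   [1, 0, 1, 1],
   [1, 1],
   [0, 1, 0, 1, 0],
   [1, 0, 0],
   [0, 1, 1],
   [1],
   [1, 0, 1],
   [0, 0, 0, 1],
   [0, 1, 0],
   [0, 0],
   [0, 1],
   [1, 0, 1, 0],
   [1, 0],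
   [0, 0, 1],
   [1, 0, 0, 1],
   [0, 0, 0],
   [],
   [0, 0, 1],
   [1, 1, 0, 0],
   [0, 0, 0, 0],
   [0, 0, 1, 1, 0],
   [1, 0, 0, 1, 1],
   [1, 1, 0, 1, 1, 0],
   [1, 0, 1, 0, 0, 0],
   [1, 0, 1, 1, 0],
   [1, 1, 1, 0, 0, 1],
   [0, 0, 1, 0],
   [0, 0, 1, 0, 0],
   [1, 0],
   [0, 0, 0, 1],
   [0, 0, 1, 0, 0, 0],
   [0, 1, 0, 1],
   [0, 1, 0, 1, 0, 1],
   [1, 0, 0],
   [1, 1, 1, 0, 1, 1, 0],
   [0, 0, 0],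
   [1, 0, 1, 0, 1],
   [0, 0, 0, 0, 1, 0],
   [0, 0, 0, 1, 1, 0],
   [0, 1, 1, 0, 0],
   [1, 0, 1, 1],
   [0, 1, 1, 1, 0, 0],
   [0],
   [1, 1, 0, 1, 1, 1, 0],
   [1, 1, 1, 0, 0],
   [0, 0, 0, 1, 1, 1],
   [1, 1, 1, 0, 0, 0],
   [1, 1, 1],
   [1, 0, 0, 0],
   [1, 0, 0, 1],
   [0, 0, 1, 0, 0, 1],
   [1, 1, 0],
   [1, 1, 1, 1, 1],
   [0, 0, 0, 1, 0],
   [1, 1, 1, 0, 1, 0],
   [0, 1, 0, 0, 1],
   [0, 1, 1],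
   [0, 1, 1, 0, 0, 1],
   [0, 1, 1, 1, 0],
   [0, 0, 1, 1],
   [1, 1, 0, 1, 0],
   [1, 1, 1, 1, 0, 0],
   [1, 1],
   [0, 1, 0, 1, 0, 1, 0],
   [0, 0, 1, 1, 1, 0],
   [1, 0, 1, 0, 1, 0],
   [1, 1, 1, 1],
   [0, 0, 1, 0, 1, 0],
   [1, 1, 1, 0],
   [1, 0, 1, 0, 0, 1],
   [1, 0, 1, 0],
   [1, 1, 1, 1, 0, 0, 0],
   [0, 1, 0, 0],
   [0, 1, 0, 0, 0],
   [0, 1],
   [0, 1, 0, 0, 1, 1],
   [1, 0, 0, 0, 1, 1],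
   [0, 1, 1, 0, 1, 1, 0],
   [1, 0, 1, 1, 1, 0],
   [0, 0],
   [0, 1, 1, 1],
   [1, 1, 1, 1, 0, 0, 1],
   [0, 1, 1, 0],
   [0, 1, 0, 1, 0, 0, 0],
   [0, 1, 0],
   [0, 0, 1, 1, 1],
   [1, 0, 1],
   [1],
   [1, 1, 0, 1],
   [1, 1, 0, 0, 0],
   [1, 1, 0, 0, 1],
   [0, 0, 0, 1, 1],
   [0, 1, 0, 1, 0]]

end Cfsg.Agent.Lib.Helper9.HS
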