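import Mathlib
import Cfsg.Prelude.Def_Sporadic_a
import Cfsg.Agent.Lib.Helper9.HSConc
import Cfsg.Agent.Lib.Helper9.HSData2

set_option autoImplicit false

namespace Cfsg.Agent.Lib.Helper9.HS

open Cfsg

/-! ### An odd automorphism fixing the extra vertex, and the orbits of the even stabiliser -/

set_option maxRecDepth 100000 in
theorem T0_ok : tblOK T0 T0i = true := by decide +kernel

set_option maxRecDepth 100000 in
theorem U1_ok : tblOK U1 U1i = true := by decide +kernel

set_option maxRecDepth 100000 in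
theorem U2_ok : tblOK U2 U2i = true := by decide +kernel

/-- The product of a list of transpositions. -/
def swProd (l : List (Fin 100 × Fin 100)) : Equiv.Perm (Fin 100) :=
  (l.map (fun p => Equiv.swap p.1 p.2)).prod

theorem sign_swProd (l : List (Fin 100 × Fin 100)) (h : ∀ p ∈ l, p.1 ≠ p.2) :
    Equiv.Perm.sign (swProd l) = (-1) ^ l.length := by
  induction l with
  | nil => simp [swProd]
  | cons p l ih =>
    have h1 : swProd (p :: l) = Equiv.swap p.1 p.2 * swProd l := by simp [swProd]
    rw [h1, map_mul, Equiv.Perm.sign_swap (h p List.mem_cons_self),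
      ih (fun q hq => h q (List.mem_cons_of_mem _ hq)), List.length_cons, pow_succ, mul_comm]

set_option maxRecDepth 100000 in
theorem swProd_apply : ∀ i : Fin 100, (swProd sw0 i).val = T0.getD i.val 0 := by
  decide +kernel

set_option maxRecDepth 100000 in
theorem sw0_ne : ∀ p ∈ sw0, p.1 ≠ p.2 := by decide +kernel

theorem T0_fix : T0.getD 0 0 = 0 := by decide +kernel

/-- There is an odd automorphism of the concrete graph fixing the extra vertex. -/
theorem conc_odd_fix :
    ∃ φ : Γc ≃g Γc, Equiv.Perm.sign (autToPerm Γc φ) = -1 ∧ φ 0 = 0 := by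
  refine ⟨tblAut T0 T0i T0_ok, ?_, Fin.ext T0_fix⟩
  have h1 : autToPerm Γc (tblAut T0 T0i T0_ok) = swProd sw0 := by
    apply Equiv.ext
    intro i
    exact Fin.ext (swProd_apply i).symm
  rw [h1, sign_swProd sw0 sw0_ne]
  decide

/-- One step of a word: the square of `U1` or of `U2`. -/
def stepU (c x : ℕ) : ℕ :=
  if c = 0 then U1.getD (U1.getD x 0) 0 else U2.getD (U2.getD x 0) 0

/-- The image of a vertex under a word. -/
def evalU (w : List ℕ) (s : ℕ) : ℕ := w.foldr stepU s

/-- The base vertex of the orbit of a vertex: `0`, the point `1` or the block `23`. -/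
def baseOf (i : ℕ) : ℕ := if i = 0 then 0 else if i ≤ 22 then 1 else 23

set_option maxRecDepth 100000 in
theorem words2_ok : ∀ i : Fin 100, evalU (words2.getD i.val []) (baseOf i.val) = i.val := by
  decide +kernel

theorem U1_fix : U1.getD 0 0 = 0 := by decide +kernel

theorem U2_fix : U2.getD 0 0 = 0 := by decide +kernel

theorem exists_aut_wordU (w : List ℕ) (s : Fin 100) :
    ∃ φ : Γc ≃g Γc, Equiv.Perm.sign (autToPerm Γc φ) = 1 ∧ φ 0 = 0 ∧
      (φ s).val = evalU w s.val := by
  induction w with
  | nil => exact ⟨1, by rw [map_one, map_one], rfl, rfl⟩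
  | cons c w ih =>
    obtain ⟨φ, hs, h0, h1⟩ := ih
    by_cases hc : c = 0
    · refine ⟨tblAut U1 U1i U1_ok * tblAut U1 U1i U1_ok * φ, ?_, ?_, ?_⟩
      · rw [map_mul, map_mul, map_mul, map_mul, hs, Int.units_mul_self, one_mul]
      · apply Fin.ext
        show U1.getD (U1.getD (φ 0).val 0) 0 = 0
        rw [h0]
        show U1.getD (U1.getD 0 0) 0 = 0
        rw [U1_fix, U1_fix]
      · show U1.getD (U1.getD (φ s).val 0) 0 = stepU c (evalU w s.val)
        rw [h1, stepU, if_pos hc]
    · refine ⟨tblAut U2 U2i U2_ok * tblAut U2 U2i U2_ok * φ, ?_, ?_, ?_⟩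
      · rw [map_mul, map_mul, map_mul, map_mul, hs, Int.units_mul_self, one_mul]
      · apply Fin.ext
        show U2.getD (U2.getD (φ 0).val 0) 0 = 0
        rw [h0]
        show U2.getD (U2.getD 0 0) 0 = 0
        rw [U2_fix, U2_fix]
      · show U2.getD (U2.getD (φ s).val 0) 0 = stepU c (evalU w s.val)
        rw [h1, stepU, if_neg hc]

theorem baseOf_lt (i : ℕ) : baseOf i < 100 := by
  unfold baseOf
  split_ifs <;> omega

/-- The even automorphisms fixing the extra vertex carry the base vertex of each orbit to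
every vertex of the orbit. -/
theorem conc_stab_trans (i : Fin 100) :
    ∃ φ : Γc ≃g Γc, Equiv.Perm.sign (autToPerm Γc φ) = 1 ∧ φ 0 = 0 ∧
      φ ⟨baseOf i.val, baseOf_lt i.val⟩ = i := by
  obtain ⟨φ, hs, h0, h1⟩ := exists_aut_wordU (words2.getD i.val []) ⟨baseOf i.val, baseOf_lt i.val⟩
  exact ⟨φ, hs, h0, Fin.ext (by rw [h1, words2_ok])⟩

end Cfsg.Agent.Lib.Helper9.HS
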