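import Mathlib

/-! A subgroup of order `443520` without subgroups of order `7920` fixes a point (row S2072). -/

set_option autoImplicit false

namespace Cfsg.Agent.Lib.Helper9.HSO

/-- The arithmetic behind `exists_fixed_point`. -/
theorem HSOCI_arith : ∀ N : ℕ, N < 101 → N ∣ 443520 → N % 11 = 1 → N % 7 ≤ 2 →
    N = 1 ∨ N = 56 := by
  decide +kernel

/-- `G` acts on 100 points; every element of order 11 has exactly one fixed point and every
element of order 7 exactly two.  A subgroup `M` of order `443520 = 2^7·3^2·5·7·11` with no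
subgroup of order `7920` fixes a point. -/
theorem exists_fixed_point {G Ω : Type*} [Group G] [Finite G] [MulAction G Ω] [Finite Ω]
    (hΩ : Nat.card Ω = 100) (M : Subgroup G) (hM : Nat.card M = 443520)
    (h11 : ∀ a : G, orderOf a = 11 → (MulAction.fixedBy Ω a).ncard = 1)
    (h7 : ∀ b : G, orderOf b = 7 → (MulAction.fixedBy Ω b).ncard = 2)
    (hno : ∀ H : Subgroup G, H ≤ M → Nat.card H ≠ 7920) :
    ∃ y : Ω, ∀ g ∈ M, g • y = y := by
  classical
  have hp11 : Fact (Nat.Prime 11) := ⟨by norm_num⟩
  have hp7 : Fact (Nat.Prime 7) := ⟨by norm_num⟩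
  obtain ⟨a, ha⟩ := exists_prime_orderOf_dvd_card' (G := M) 11 (by rw [hM]; norm_num)
  obtain ⟨b, hb⟩ := exists_prime_orderOf_dvd_card' (G := M) 7 (by rw [hM]; norm_num)
  have ha' : orderOf (a : G) = 11 := by rw [Subgroup.orderOf_coe]; exact ha
  have hb' : orderOf (b : G) = 7 := by rw [Subgroup.orderOf_coe]; exact hb
  obtain ⟨z, hz⟩ := Set.ncard_eq_one.1 (h11 _ ha')
  have haz : a • z = z := by
    have h3 : z ∈ MulAction.fixedBy Ω (a : G) := by rw [hz]; rfl
    exact h3
  -- the orbit of `z`
  have hidx : (MulAction.stabilizer M z).index = (MulAction.orbit M z).ncard :=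
    MulAction.index_stabilizer M z
  have hmul : Nat.card (MulAction.stabilizer M z) * (MulAction.orbit M z).ncard = 443520 := by
    rw [← hidx, Subgroup.card_mul_index, hM]
  have hle : (MulAction.orbit M z).ncard ≤ 100 := by
    rw [← hΩ]
    exact Set.ncard_le_card _
  -- modulo 11
  have hP : IsPGroup 11 (Subgroup.zpowers a) := by
    apply IsPGroup.of_card (n := 1)
    rw [Nat.card_zpowers, ha, pow_one]
  have h1 := hP.card_modEq_card_fixedPoints (MulAction.orbit M z)
  have hfix1 : Nat.card (MulAction.fixedPoints (Subgroup.zpowers a) (MulAction.orbit M z)) = 1 := by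
    rw [Nat.card_eq_one_iff_unique]
    refine ⟨⟨?_⟩, ⟨⟨⟨z, MulAction.mem_orbit_self z⟩, ?_⟩⟩⟩
    · rintro ⟨x, hx⟩ ⟨y, hy⟩
      have key : ∀ w : MulAction.orbit M z,
          w ∈ MulAction.fixedPoints (Subgroup.zpowers a) (MulAction.orbit M z) → (w : Ω) = z := by
        intro w hw
        have h3 := hw ⟨a, Subgroup.mem_zpowers a⟩
        have h4 : (a : G) • (w : Ω) = w := congrArg Subtype.val h3
        have h5 : (w : Ω) ∈ MulAction.fixedBy Ω (a : G) := h4
        rw [hz] at h5
        exact h5
      exact Subtype.ext (Subtype.ext ((key x hx).trans (key y hy).symm))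
    · rintro ⟨g, hg⟩
      apply Subtype.ext
      show g • z = z
      have hle' : Subgroup.zpowers a ≤ MulAction.stabilizer M z := by
        rw [Subgroup.zpowers_le]
        exact haz
      exact hle' hg
  rw [hfix1, Nat.card_coe_set_eq] at h1
  -- modulo 7
  have hP' : IsPGroup 7 (Subgroup.zpowers b) := by
    apply IsPGroup.of_card (n := 1)
    rw [Nat.card_zpowers, hb, pow_one]
  have h2 := hP'.card_modEq_card_fixedPoints (MulAction.orbit M z)
  have hfix2 : Nat.card (MulAction.fixedPoints (Subgroup.zpowers b) (MulAction.orbit M z)) ≤ 2 := by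
    rw [← h7 _ hb', ← Nat.card_coe_set_eq]
    refine Nat.card_le_card_of_injective
      (fun w => (⟨(w.1 : Ω), ?_⟩ : MulAction.fixedBy Ω (b : G))) ?_
    · have h3 := w.2 ⟨b, Subgroup.mem_zpowers b⟩
      exact congrArg Subtype.val h3
    · intro w w' hww
      have h3 : (w.1 : Ω) = (w'.1 : Ω) :=
        congrArg (fun t : MulAction.fixedBy Ω (b : G) => (t : Ω)) hww
      exact Subtype.ext (Subtype.ext h3)
  rw [Nat.card_coe_set_eq] at h2
  -- arithmetic
  have hN := HSOCI_arith (MulAction.orbit M z).ncard (by omega)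
    (Dvd.intro_left _ hmul) (by
      have h3 : (MulAction.orbit M z).ncard % 11 = 1 % 11 := h1
      omega) (by
      have h3 : (MulAction.orbit M z).ncard % 7 =
          Nat.card (MulAction.fixedPoints (Subgroup.zpowers b) (MulAction.orbit M z)) % 7 := h2
      omega)
  rcases hN with hN | hN
  · -- the orbit is a point
    obtain ⟨w, hw⟩ := Set.ncard_eq_one.1 hN
    refine ⟨z, fun g hg => ?_⟩
    have h3 : g • z ∈ MulAction.orbit M z := ⟨⟨g, hg⟩, rfl⟩
    have h4 : z ∈ MulAction.orbit M z := MulAction.mem_orbit_self z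
    rw [hw] at h3 h4
    exact h3.trans h4.symm
  · -- the stabilizer has order 7920
    exfalso
    rw [hN] at hmul
    have h3 : Nat.card (MulAction.stabilizer M z) = 7920 := by omega
    apply hno ((MulAction.stabilizer M z).map M.subtype) (Subgroup.map_subtype_le _)
    rw [Subgroup.card_map_of_injective M.subtype_injective]
    exact h3

end Cfsg.Agent.Lib.Helper9.HSO
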