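import Mathlib
import Cfsg.Agent.Lib.Helper95.Rank3Core

/-! A group of order `443520` acting 3-transitively on a 22-point invariant set has no subgroup
of order `7920` (row S2072). -/

set_option autoImplicit false

namespace Cfsg.Agent.Lib.Helper9.HSO

open MulAction

theorem no_subgroup_7920 {K Ω : Type*} [Group K] [Finite K] [MulAction K Ω] (N : Set Ω)
    (hN : N.ncard = 22) (hinv : ∀ (k : K), ∀ y ∈ N, k • y ∈ N) (hK : Nat.card K = 443520)
    (h3 : ∀ a ∈ N, ∀ b ∈ N, ∀ c ∈ N, ∀ a' ∈ N, ∀ b' ∈ N, ∀ c' ∈ N, a ≠ b → a ≠ c → b ≠ c →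
      a' ≠ b' → a' ≠ c' → b' ≠ c' → ∃ k : K, k • a = a' ∧ k • b = b' ∧ k • c = c')
    (H : Subgroup K) : Nat.card H ≠ 7920 := by
  intro hH
  classical
  let S : SubMulAction K Ω := { carrier := N, smul_mem' := fun k y hy => hinv k y hy }
  have hNfin : N.Finite := Set.finite_of_ncard_ne_zero (by rw [hN]; norm_num)
  have : Finite ↥S := hNfin.to_subtype
  have : Fintype ↥S := Fintype.ofFinite _
  have hcard : Nat.card ↥S = 22 := by
    show Nat.card ↥N = 22
    rw [Nat.card_coe_set_eq, hN]
  have h3t : IsMultiplyPretransitive K ↥S 3 := by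
    refine ⟨fun x y => ?_⟩
    have hx : ∀ i j : Fin 3, i ≠ j → ((x i : ↥S) : Ω) ≠ x j :=
      fun i j hij h => hij (x.injective (Subtype.ext h))
    have hy : ∀ i j : Fin 3, i ≠ j → ((y i : ↥S) : Ω) ≠ y j :=
      fun i j hij h => hij (y.injective (Subtype.ext h))
    obtain ⟨k, h0, h1, h2⟩ := h3 (x 0) (x 0).2 (x 1) (x 1).2 (x 2) (x 2).2
      (y 0) (y 0).2 (y 1) (y 1).2 (y 2) (y 2).2
      (hx 0 1 (by decide)) (hx 0 2 (by decide)) (hx 1 2 (by decide))
      (hy 0 1 (by decide)) (hy 0 2 (by decide)) (hy 1 2 (by decide))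
    refine ⟨k, ?_⟩
    ext i
    fin_cases i
    · exact h0
    · exact h1
    · exact h2
  have key : ∀ s : Set ↥S, s.ncard ≤ 3 →
      Nat.card ↥(fixingSubgroup K s) * (Nat.choose 22 s.ncard * s.ncard.factorial) = 443520 := by
    intro s hs
    have h1 : IsMultiplyPretransitive K ↥S s.ncard :=
      isMultiplyPretransitive_of_le (n := 3) hs (by rw [hcard]; norm_num)
    have h2 := IsMultiplyPretransitive.index_of_fixingSubgroup_eq (G := K) s h1
    have h4 := Subgroup.card_mul_index (fixingSubgroup K s)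
    rw [h2, hcard, hK] at h4
    exact h4
  have hy : Cfsg.Agent.Lib.Helper95.R3.Hyp ↥S H := by
    refine ⟨?_, ?_, ?_, ?_, hH⟩
    · rw [← Nat.card_eq_fintype_card, hcard]
    · intro a
      have e : stabilizer K a = fixingSubgroup K ({a} : Set ↥S) := by
        ext g
        simp [mem_fixingSubgroup_iff]
      have hn : ({a} : Set ↥S).ncard = 1 := Set.ncard_singleton a
      have h := key {a} (by rw [hn]; norm_num)
      rw [hn] at h
      rw [e]
      have e2 : Nat.choose 22 1 * Nat.factorial 1 = 22 := by decide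
      rw [e2] at h
      omega
    · intro a c hac
      have e : stabilizer K a ⊓ stabilizer K c = fixingSubgroup K ({a, c} : Set ↥S) := by
        ext g
        simp [mem_fixingSubgroup_iff]
      have hn : ({a, c} : Set ↥S).ncard = 2 := Set.ncard_pair hac
      have h := key {a, c} (by rw [hn]; norm_num)
      rw [hn] at h
      rw [e]
      have e2 : Nat.choose 22 2 * Nat.factorial 2 = 462 := by decide
      rw [e2] at h
      omega
    · intro a c d hac had hcd
      have e : stabilizer K a ⊓ stabilizer K c ⊓ stabilizer K d =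
          fixingSubgroup K ({a, c, d} : Set ↥S) := by
        ext g
        simp [mem_fixingSubgroup_iff, and_assoc]
      have hn : ({a, c, d} : Set ↥S).ncard = 3 := by
        rw [Set.ncard_eq_three]
        exact ⟨a, c, d, hac, had, hcd, rfl⟩
      have h := key {a, c, d} (by rw [hn])
      rw [hn] at h
      rw [e]
      have e2 : Nat.choose 22 3 * Nat.factorial 3 = 9240 := by decide
      rw [e2] at h
      omega
  exact hy.false

end Cfsg.Agent.Lib.Helper9.HSO
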