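import Mathlib
import Cfsg.Agent.Lib.Helper9.HSBSimple
import Cfsg.Agent.Lib.Helper9.HSONo

/-! Concrete facts on the even automorphism group `Hc` of the concrete Higman–Sims graph used
for `Out(HS)` (row S2072): elements of order 11 and 7 with their fixed points, the point
stabiliser is 3-transitive on the neighbours and has no subgroup of order 7920. -/

set_option autoImplicit false

namespace Cfsg.Agent.Lib.Helper9.HSO

open Cfsg Cfsg.Agent.Lib.Helper9.HS Cfsg.Agent.Lib.Helper9.HSB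

/-- The iterate of a table. -/
def iterN (T : List ℕ) (n x : ℕ) : ℕ := Nat.iterate (fun y => T.getD y 0) n x

theorem tblAut_pow (T Ti : List ℕ) (h : tblOK T Ti = true) (n : ℕ) (i : Fin 100) :
    ((tblAut T Ti h ^ n) i).val = iterN T n i.val := by
  induction n generalizing i with
  | zero => rfl
  | succ n ih =>
    rw [pow_succ]
    show ((tblAut T Ti h ^ n) (tblAut T Ti h i)).val = _
    rw [ih]
    rfl

set_option maxRecDepth 100000 in
theorem T2_iter : ∀ i : Fin 100, iterN T2 11 i.val = i.val := by decide +kernel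

set_option maxRecDepth 100000 in
theorem U2_iter : ∀ i : Fin 100, iterN U2 7 i.val = i.val := by decide +kernel

set_option maxRecDepth 100000 in
theorem T2_fixcount :
    (Finset.univ.filter (fun i : Fin 100 => T2.getD i.val 0 = i.val)).card = 1 := by
  decide +kernel

set_option maxRecDepth 100000 in
theorem U2_fixcount :
    (Finset.univ.filter (fun i : Fin 100 => U2.getD i.val 0 = i.val)).card = 2 := by
  decide +kernel

/-- An automorphism of order 11. -/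
def t2 : Γc ≃g Γc := tblAut T2 T2i T2_ok

/-- An automorphism of order 7 fixing the vertex `0`. -/
def u2 : Γc ≃g Γc := tblAut U2 U2i U2_ok

/-- An odd automorphism fixing the vertex `0`. -/
def t0 : Γc ≃g Γc := tblAut T0 T0i T0_ok

theorem t2_pow : t2 ^ 11 = 1 := by
  apply RelIso.ext
  intro i
  exact Fin.ext ((tblAut_pow _ _ _ 11 i).trans (T2_iter i))

theorem u2_pow : u2 ^ 7 = 1 := by
  apply RelIso.ext
  intro i
  exact Fin.ext ((tblAut_pow _ _ _ 7 i).trans (U2_iter i))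

theorem mem_Hc_of_pow_odd (φ : Γc ≃g Γc) (n : ℕ) (hn : Odd n) (h : φ ^ n = 1) : φ ∈ Hc := by
  have h1 : sgn φ ^ n = 1 := by rw [← map_pow, h, map_one]
  rcases Int.units_eq_one_or (sgn φ) with h2 | h2
  · exact MonoidHom.mem_ker.mpr h2
  · rw [h2, Odd.neg_one_pow hn] at h1
    exact absurd h1 (by decide)

/-- The element of order 11 in `Hc`. -/
def t2H : Hc := ⟨t2, mem_Hc_of_pow_odd t2 11 (by decide) t2_pow⟩

/-- The element of order 7 in `Hc`. -/
def u2H : Hc := ⟨u2, mem_Hc_of_pow_odd u2 7 (by decide) u2_pow⟩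

theorem orderOf_t2H : orderOf t2H = 11 := by
  have : Fact (Nat.Prime 11) := ⟨by norm_num⟩
  apply orderOf_eq_prime
  · exact Subtype.ext t2_pow
  · intro h
    have h0 : (t2 (0 : Fin 100)).val = 0 :=
      congrArg (fun g : Hc => ((g : Γc ≃g Γc) (0 : Fin 100)).val) h
    have h1 : T2.getD 0 0 = 0 := h0
    revert h1
    decide

theorem orderOf_u2H : orderOf u2H = 7 := by
  have : Fact (Nat.Prime 7) := ⟨by norm_num⟩
  apply orderOf_eq_prime
  · exact Subtype.ext u2_pow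
  · intro h
    have h0 : (u2 (1 : Fin 100)).val = 1 :=
      congrArg (fun g : Hc => ((g : Γc ≃g Γc) (1 : Fin 100)).val) h
    have h1 : U2.getD 1 0 = 1 := h0
    revert h1
    decide

theorem fixedBy_t2H : (MulAction.fixedBy (Fin 100) t2H).ncard = 1 := by
  have h : MulAction.fixedBy (Fin 100) t2H = {i : Fin 100 | T2.getD i.val 0 = i.val} := by
    ext i
    rw [MulAction.mem_fixedBy]
    show t2 i = i ↔ _
    exact Fin.ext_iff
  rw [h, ncard_setOf, T2_fixcount]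

theorem fixedBy_u2H : (MulAction.fixedBy (Fin 100) u2H).ncard = 2 := by
  have h : MulAction.fixedBy (Fin 100) u2H = {i : Fin 100 | U2.getD i.val 0 = i.val} := by
    ext i
    rw [MulAction.mem_fixedBy]
    show u2 i = i ↔ _
    exact Fin.ext_iff
  rw [h, ncard_setOf, U2_fixcount]

theorem u2H_zero : u2H • (0 : Fin 100) = 0 := by
  show u2 0 = 0
  exact Fin.ext (by decide)

instance isPretransitive_Hc : MulAction.IsPretransitive Hc (Fin 100) := by
  refine ⟨fun x y => ?_⟩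
  obtain ⟨g, hg⟩ := Hc_trans x
  obtain ⟨g', hg'⟩ := Hc_trans y
  exact ⟨g' * g⁻¹, by rw [mul_smul, ← hg, inv_smul_smul, hg']⟩

theorem horb0 (S : Set (Fin 100)) (h0 : (0 : Fin 100) ∈ S)
    (hS : ∀ g : Hc, g • (0 : Fin 100) = 0 → ∀ s ∈ S, g • s ∈ S) :
    S.ncard = 1 ∨ S.ncard = 23 ∨ S.ncard = 78 ∨ S.ncard = 100 :=
  inv_sets S h0 (fun k hk s hs => hS k hk s hs)

theorem hfix0 (y : Fin 100) (hy : ∀ g : Hc, g • (0 : Fin 100) = 0 → g • y = y) : y = 0 := by
  set F : Set (Fin 100) := {z | ∀ g : Hc, g • (0 : Fin 100) = 0 → g • z = z} with hF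
  have h0 : (0 : Fin 100) ∈ F := fun g hg => hg
  have hinv : ∀ g : Hc, g • (0 : Fin 100) = 0 → ∀ s ∈ F, g • s ∈ F := by
    intro g hg s hs
    rw [hs g hg]
    exact hs
  have hsub : F ⊆ MulAction.fixedBy (Fin 100) u2H := fun z hz => hz u2H u2H_zero
  have hle : F.ncard ≤ 2 := by
    rw [← fixedBy_u2H]
    exact Set.ncard_le_ncard hsub (Set.toFinite _)
  have h1 : F.ncard = 1 := by
    rcases horb0 F h0 hinv with h | h | h | h <;> omega
  obtain ⟨w, hw⟩ := Set.ncard_eq_one.mp h1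
  have hy' : y ∈ F := hy
  rw [hw, Set.mem_singleton_iff] at hy' h0
  rw [hy', ← h0]

theorem hΓ (g : Hc) (x y : Fin 100) : Γc.Adj (g • x) (g • y) ↔ Γc.Adj x y :=
  g.1.map_rel_iff

set_option maxRecDepth 100000 in
theorem adj_zero_aux : ∀ y : Fin 100,
    (((0 : Fin 100) ≠ y ∧ (relN (0 : Fin 100).val y.val = true ∨
      relN y.val (0 : Fin 100).val = true)) ↔ (1 ≤ y.val ∧ y.val ≤ 22)) := by
  decide +kernel

theorem adj_zero_iff (y : Fin 100) : Γc.Adj 0 y ↔ (1 ≤ y.val ∧ y.val ≤ 22) := by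
  rw [← adj_zero_aux y]
  simp only [Γc, SimpleGraph.fromRel_adj]

theorem hdeg : {y : Fin 100 | Γc.Adj 0 y}.ncard = 22 := by
  have h : {y : Fin 100 | Γc.Adj 0 y} = {y : Fin 100 | 1 ≤ y.val ∧ y.val ≤ 22} := by
    ext y
    exact adj_zero_iff y
  rw [h, ncard_setOf]
  decide +kernel

/-! ### The stabiliser of `0` is 3-transitive on the neighbours of `0` -/

/-- The vertex of a point. -/
def pt (a : Fin 22) : Fin 100 := ⟨1 + a.val, by omega⟩

theorem pt_injective : Function.Injective pt := by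
  intro a b h
  have h1 : 1 + a.val = 1 + b.val := congrArg Fin.val h
  exact Fin.ext (by omega)

theorem exists_pt (y : Fin 100) (hy : Γc.Adj 0 y) : ∃ a : Fin 22, y = pt a := by
  have h := (adj_zero_iff y).mp hy
  exact ⟨⟨y.val - 1, by omega⟩, Fin.ext (by show y.val = 1 + (y.val - 1); omega)⟩

theorem adj_zero_pt (a : Fin 22) : Γc.Adj 0 (pt a) := by
  rw [adj_zero_iff]
  show 1 ≤ 1 + a.val ∧ 1 + a.val ≤ 22
  omega

theorem isoConc_pt (a : Fin 22) : isoConc (some (Sum.inl a)) = pt a :=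
  Fin.ext (vEquivConc_inl a)

theorem Θ_pt (σ : setSystemAut B0) (a : Fin 22) : Θ σ (pt a) = pt (σ.1 a) := by
  show isoConc (autOfPermHom B0 σ (isoConc.symm (pt a))) = pt (σ.1 a)
  have h1 : isoConc.symm (pt a) = some (Sum.inl a) := by
    rw [RelIso.symm_apply_eq]
    exact (isoConc_pt a).symm
  rw [h1]
  exact isoConc_pt (σ.1 a)

theorem sgn_t0 : sgn t0 = -1 := by
  have h1 : autToPerm Γc (tblAut T0 T0i T0_ok) = swProd sw0 := by
    apply Equiv.ext
    intro i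
    exact Fin.ext (swProd_apply i).symm
  show Equiv.Perm.sign (autToPerm Γc (tblAut T0 T0i T0_ok)) = -1
  rw [h1, sign_swProd sw0 sw0_ne]
  decide

theorem t0_zero : t0 0 = 0 := Fin.ext (by decide)

theorem t0_pt4 : t0 (pt 4) = pt 4 := Fin.ext (by decide)

theorem t0_pt6 : t0 (pt 6) = pt 6 := Fin.ext (by decide)

theorem t0_pt9 : t0 (pt 9) = pt 9 := Fin.ext (by decide)

theorem aut_three (a b c a' b' c' : Fin 22) (hab : a ≠ b) (hac : a ≠ c) (hbc : b ≠ c)
    (hab' : a' ≠ b') (hac' : a' ≠ c') (hbc' : b' ≠ c') :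
    ∃ σ : setSystemAut B0, σ.1 a = a' ∧ σ.1 b = b' ∧ σ.1 c = c' := by
  obtain ⟨-, h3, -⟩ := Cfsg.Agent.S0414.result (α := Fin 22) (by simp) B0_steiner
  let x : Fin 3 ↪ Fin 22 := ⟨![a, b, c], by
    intro i j hij
    fin_cases i <;> fin_cases j <;> simp_all⟩
  let y : Fin 3 ↪ Fin 22 := ⟨![a', b', c'], by
    intro i j hij
    fin_cases i <;> fin_cases j <;> simp_all⟩
  obtain ⟨σ, hσ⟩ := MulAction.exists_smul_eq (setSystemAut B0) x y
  refine ⟨σ, ?_, ?_, ?_⟩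
  · exact congrArg (fun f : Fin 3 ↪ Fin 22 => f 0) hσ
  · exact congrArg (fun f : Fin 3 ↪ Fin 22 => f 1) hσ
  · exact congrArg (fun f : Fin 3 ↪ Fin 22 => f 2) hσ

theorem inv_apply_of_apply (τ : setSystemAut B0) {a a' : Fin 22} (h : τ.1 a = a') :
    (τ⁻¹ : setSystemAut B0).1 a' = a := by
  show (τ.1)⁻¹ a' = a
  rw [Equiv.Perm.inv_eq_iff_eq, h]

theorem stab_three (a b c a' b' c' : Fin 22) (hab : a ≠ b) (hac : a ≠ c) (hbc : b ≠ c)
    (hab' : a' ≠ b') (hac' : a' ≠ c') (hbc' : b' ≠ c') :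
    ∃ k : Hc, k • (0 : Fin 100) = 0 ∧ k • pt a = pt a' ∧ k • pt b = pt b' ∧
      k • pt c = pt c' := by
  obtain ⟨σ, h1, h2, h3⟩ := aut_three a b c a' b' c' hab hac hbc hab' hac' hbc'
  by_cases hσ : Θ σ ∈ Hc
  · refine ⟨⟨Θ σ, hσ⟩, Θ_zero σ, ?_, ?_, ?_⟩
    · show Θ σ (pt a) = _
      rw [Θ_pt, h1]
    · show Θ σ (pt b) = _
      rw [Θ_pt, h2]
    · show Θ σ (pt c) = _
      rw [Θ_pt, h3]
  · obtain ⟨τ, k1, k2, k3⟩ := aut_three 4 6 9 a' b' c' (by decide) (by decide) (by decide)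
      hab' hac' hbc'
    have hs : sgn (Θ σ) = -1 :=
      (Int.units_eq_one_or _).resolve_left (fun h => hσ (MonoidHom.mem_ker.mpr h))
    have hsg : Θ τ * t0 * Θ τ⁻¹ * Θ σ ∈ Hc := by
      apply MonoidHom.mem_ker.mpr
      rw [map_mul, map_mul, map_mul, map_inv, map_inv, sgn_t0, hs, mul_comm (sgn (Θ τ)) (-1),
        mul_assoc (-1 : ℤˣ), mul_inv_cancel, mul_one]
      decide
    refine ⟨⟨_, hsg⟩, ?_, ?_, ?_, ?_⟩
    · show Θ τ (t0 (Θ τ⁻¹ (Θ σ 0))) = 0
      rw [Θ_zero, Θ_zero, t0_zero, Θ_zero]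
    · show Θ τ (t0 (Θ τ⁻¹ (Θ σ (pt a)))) = pt a'
      rw [Θ_pt, h1, Θ_pt, inv_apply_of_apply τ k1, t0_pt4, Θ_pt, k1]
    · show Θ τ (t0 (Θ τ⁻¹ (Θ σ (pt b)))) = pt b'
      rw [Θ_pt, h2, Θ_pt, inv_apply_of_apply τ k2, t0_pt6, Θ_pt, k2]
    · show Θ τ (t0 (Θ τ⁻¹ (Θ σ (pt c)))) = pt c'
      rw [Θ_pt, h3, Θ_pt, inv_apply_of_apply τ k3, t0_pt9, Θ_pt, k3]

/-- The stabiliser of `0` in `Hc` has no subgroup of order 7920. -/
theorem stab0_no7920 (H : Subgroup Hc) (hH : H ≤ MulAction.stabilizer Hc (0 : Fin 100)) :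
    Nat.card H ≠ 7920 := by
  have hinv : ∀ (k : MulAction.stabilizer Hc (0 : Fin 100)), ∀ y ∈ {y : Fin 100 | Γc.Adj 0 y},
      k • y ∈ {y : Fin 100 | Γc.Adj 0 y} := by
    intro k y hy
    have hk : k.1 • (0 : Fin 100) = 0 := k.2
    have h1 : Γc.Adj (k.1 • (0 : Fin 100)) (k.1 • y) := (hΓ k.1 0 y).mpr hy
    rw [hk] at h1
    exact h1
  have h3 : ∀ a ∈ {y : Fin 100 | Γc.Adj 0 y}, ∀ b ∈ {y : Fin 100 | Γc.Adj 0 y},
      ∀ c ∈ {y : Fin 100 | Γc.Adj 0 y}, ∀ a' ∈ {y : Fin 100 | Γc.Adj 0 y},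
      ∀ b' ∈ {y : Fin 100 | Γc.Adj 0 y}, ∀ c' ∈ {y : Fin 100 | Γc.Adj 0 y},
      a ≠ b → a ≠ c → b ≠ c → a' ≠ b' → a' ≠ c' → b' ≠ c' →
      ∃ k : MulAction.stabilizer Hc (0 : Fin 100), k • a = a' ∧ k • b = b' ∧ k • c = c' := by
    intro a ha b hb c hc a' ha' b' hb' c' hc' hab hac hbc hab' hac' hbc'
    obtain ⟨a, rfl⟩ := exists_pt a ha
    obtain ⟨b, rfl⟩ := exists_pt b hb
    obtain ⟨c, rfl⟩ := exists_pt c hc
    obtain ⟨a', rfl⟩ := exists_pt a' ha'
    obtain ⟨b', rfl⟩ := exists_pt b' hb'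
    obtain ⟨c', rfl⟩ := exists_pt c' hc'
    obtain ⟨k, hk0, hk1, hk2, hk3⟩ := stab_three a b c a' b' c'
      (fun h => hab (congrArg pt h)) (fun h => hac (congrArg pt h))
      (fun h => hbc (congrArg pt h)) (fun h => hab' (congrArg pt h))
      (fun h => hac' (congrArg pt h)) (fun h => hbc' (congrArg pt h))
    exact ⟨⟨k, hk0⟩, hk1, hk2, hk3⟩
  have key := no_subgroup_7920 (K := MulAction.stabilizer Hc (0 : Fin 100)) (Ω := Fin 100)
    {y : Fin 100 | Γc.Adj 0 y} hdeg hinv card_stab_Hc h3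
    (H.subgroupOf (MulAction.stabilizer Hc (0 : Fin 100)))
  rwa [Nat.card_congr (Subgroup.subgroupOfEquivOfLe hH).toEquiv] at key

end Cfsg.Agent.Lib.Helper9.HSO
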