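import Mathlib

/-! Generic fixed-point counting lemmas used for `Out(HS)` (row S2072). -/

set_option autoImplicit false

namespace Cfsg.Agent.Lib.Helper9.HSO

open scoped Pointwise

/-- If `p² ∤ |G|`, any two elements of order `p` have the same number of fixed points
(their cyclic groups are Sylow `p`-subgroups, hence conjugate). -/
theorem ncard_fixedBy_eq_of_sylow {G Ω : Type*} [Group G] [Finite G] [MulAction G Ω] [Finite Ω]
    (p : ℕ) (hp : p.Prime) (hp2 : ¬ p ^ 2 ∣ Nat.card G) (a a' : G)
    (ha : orderOf a = p) (ha' : orderOf a' = p) :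
    (MulAction.fixedBy Ω a).ncard = (MulAction.fixedBy Ω a').ncard := by
  have hpf : Fact p.Prime := ⟨hp⟩
  have hN0 : Nat.card G ≠ 0 := Nat.card_pos.ne'
  have hfac : (Nat.card G).factorization p = 1 := by
    have h1 : 1 ≤ (Nat.card G).factorization p := by
      rw [← hp.pow_dvd_iff_le_factorization hN0, pow_one, ← ha]
      exact orderOf_dvd_natCard a
    have h2 : ¬ 2 ≤ (Nat.card G).factorization p := by
      rw [← hp.pow_dvd_iff_le_factorization hN0]
      exact hp2
    omega
  have hc : Nat.card (Subgroup.zpowers a) = p ^ (Nat.card G).factorization p := by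
    rw [hfac, pow_one, Nat.card_zpowers, ha]
  have hc' : Nat.card (Subgroup.zpowers a') = p ^ (Nat.card G).factorization p := by
    rw [hfac, pow_one, Nat.card_zpowers, ha']
  obtain ⟨g, hg⟩ := MulAction.exists_smul_eq G (Sylow.ofCard (Subgroup.zpowers a) hc)
    (Sylow.ofCard (Subgroup.zpowers a') hc')
  have h2 : MulAut.conj g • Subgroup.zpowers a = Subgroup.zpowers a' := by
    have h3 : ((g • Sylow.ofCard (Subgroup.zpowers a) hc : Sylow p G) : Subgroup G) =
        MulAut.conj g • Subgroup.zpowers a := by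
      rw [Sylow.coe_subgroup_smul, Sylow.coe_ofCard]
    rw [← h3, hg, Sylow.coe_ofCard]
  have hb : g * a * g⁻¹ ∈ Subgroup.zpowers a' := by
    rw [← h2]
    have h4 : MulAut.conj g • a ∈ MulAut.conj g • Subgroup.zpowers a :=
      Subgroup.smul_mem_pointwise_smul _ _ _ (Subgroup.mem_zpowers a)
    rw [MulAut.smul_def, MulAut.conj_apply] at h4
    exact h4
  have ha'b : a' ∈ Subgroup.zpowers (g * a * g⁻¹) := by
    have h5 : a' ∈ MulAut.conj g • Subgroup.zpowers a := by
      rw [h2]
      exact Subgroup.mem_zpowers a'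
    obtain ⟨y, hy, hya⟩ := h5
    obtain ⟨k, rfl⟩ := Subgroup.mem_zpowers_iff.1 hy
    rw [Subgroup.mem_zpowers_iff]
    refine ⟨k, ?_⟩
    rw [← hya]
    show (g * a * g⁻¹) ^ k = MulAut.conj g (a ^ k)
    rw [MulAut.conj_apply, conj_zpow]
  obtain ⟨m, hm⟩ := Subgroup.mem_zpowers_iff.1 hb
  obtain ⟨k, hk⟩ := Subgroup.mem_zpowers_iff.1 ha'b
  have heq : MulAction.fixedBy Ω (g * a * g⁻¹) = MulAction.fixedBy Ω a' := by
    apply Set.Subset.antisymm
    · have h6 := MulAction.fixedBy_subset_fixedBy_zpow (α := Ω) (g * a * g⁻¹) k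
      rwa [hk] at h6
    · have h6 := MulAction.fixedBy_subset_fixedBy_zpow (α := Ω) a' m
      rwa [hm] at h6
  rw [← heq, ← MulAction.smul_fixedBy, ← Set.image_smul,
    Set.ncard_image_of_injective _ (MulAction.injective g)]

/-- Transport of "no subgroup of order `n`" from one point stabiliser to the image of any point
stabiliser under any automorphism. -/
theorem no_subgroup_map {G Ω : Type*} [Group G] [MulAction G Ω] [MulAction.IsPretransitive G Ω]
    (n : ℕ) (x0 : Ω)
    (h0 : ∀ H : Subgroup G, H ≤ MulAction.stabilizer G x0 → Nat.card H ≠ n)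
    (β : MulAut G) (x : Ω) (H : Subgroup G)
    (hH : H ≤ (MulAction.stabilizer G x).map β.toMonoidHom) : Nat.card H ≠ n := by
  obtain ⟨g, hg⟩ := MulAction.exists_smul_eq G x x0
  have hK : H.map β.symm.toMonoidHom ≤ MulAction.stabilizer G x := by
    rintro _ ⟨h, hh, rfl⟩
    obtain ⟨s, hs, rfl⟩ := hH hh
    have e : β.symm.toMonoidHom (β.toMonoidHom s) = s := β.symm_apply_apply s
    rw [e]
    exact hs
  have hK' : (H.map β.symm.toMonoidHom).map (MulAut.conj g).toMonoidHom ≤
      MulAction.stabilizer G x0 := by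
    rw [← hg, MulAction.stabilizer_smul_eq_stabilizer_map_conj]
    exact Subgroup.map_mono hK
  have hcard : Nat.card ((H.map β.symm.toMonoidHom).map (MulAut.conj g).toMonoidHom) =
      Nat.card H := by
    rw [Subgroup.card_map_of_injective (MulAut.conj g).injective,
      Subgroup.card_map_of_injective β.symm.injective]
  rw [← hcard]
  exact h0 _ hK'

end Cfsg.Agent.Lib.Helper9.HSO
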