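import Mathlib

/-! An equivariant permutation preserves a rank 3 graph of valency 22 on 100 points
(row S2072). -/

set_option autoImplicit false

namespace Cfsg.Agent.Lib.Helper9.HSO

theorem adj_iff_of_equivariant {G Ω : Type*} [Group G] [MulAction G Ω] [Finite Ω]
    [MulAction.IsPretransitive G Ω] (Γ : SimpleGraph Ω)
    (hΓ : ∀ (g : G) (x y : Ω), Γ.Adj (g • x) (g • y) ↔ Γ.Adj x y)
    (x0 : Ω) (hdeg : {y : Ω | Γ.Adj x0 y}.ncard = 22)
    (horb : ∀ S : Set Ω, x0 ∈ S → (∀ g : G, g • x0 = x0 → ∀ s ∈ S, g • s ∈ S) →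
      S.ncard = 1 ∨ S.ncard = 23 ∨ S.ncard = 78 ∨ S.ncard = 100)
    (α : MulAut G) (σ : Equiv.Perm Ω) (hσ : ∀ (g : G) (x : Ω), α g • σ x = σ (g • x)) :
    ∀ x y : Ω, Γ.Adj (σ x) (σ y) ↔ Γ.Adj x y := by
  classical
  -- transport of the valency
  have hdeg' : ∀ z : Ω, {y : Ω | Γ.Adj z y}.ncard = 22 := by
    intro z
    obtain ⟨g, rfl⟩ := MulAction.exists_smul_eq G x0 z
    have h1 : {y : Ω | Γ.Adj (g • x0) y} = (fun w => g • w) '' {y : Ω | Γ.Adj x0 y} := by
      ext y
      constructor
      · intro hy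
        refine ⟨g⁻¹ • y, ?_, smul_inv_smul g y⟩
        have h2 : Γ.Adj (g • x0) (g • g⁻¹ • y) := by
          rw [smul_inv_smul]
          exact hy
        exact (hΓ g x0 (g⁻¹ • y)).mp h2
      · rintro ⟨w, hw, rfl⟩
        exact (hΓ g x0 w).mpr hw
    rw [h1, Set.ncard_image_of_injective _ (MulAction.injective g)]
    exact hdeg
  -- transport of the orbit condition
  have horb' : ∀ z : Ω, ∀ S : Set Ω, z ∈ S → (∀ g : G, g • z = z → ∀ s ∈ S, g • s ∈ S) →
      S.ncard = 1 ∨ S.ncard = 23 ∨ S.ncard = 78 ∨ S.ncard = 100 := by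
    intro z S hz hS
    obtain ⟨g, rfl⟩ := MulAction.exists_smul_eq G x0 z
    have h1 := horb ((fun w => g • w) ⁻¹' S) hz (by
      intro k hk t ht
      show g • k • t ∈ S
      have h2 : g • k • t = (g * k * g⁻¹) • (g • t) := by
        rw [mul_smul, mul_smul, inv_smul_smul]
      rw [h2]
      apply hS _ _ _ ht
      rw [mul_smul, mul_smul, inv_smul_smul, hk])
    have h3 : ((fun w => g • w) ⁻¹' S).ncard = S.ncard := by
      rw [← Set.ncard_image_of_injective _ (MulAction.injective g),
        Set.image_preimage_eq S (MulAction.surjective g)]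
    rw [h3] at h1
    exact h1
  -- the key inclusion
  have hkey : ∀ x y : Ω, Γ.Adj x y → Γ.Adj (σ x) (σ y) := by
    intro x y hxy
    obtain ⟨S, hSdef⟩ : ∃ S : Set Ω, S = insert (σ x) (σ '' {y : Ω | Γ.Adj x y}) := ⟨_, rfl⟩
    obtain ⟨S', hS'def⟩ : ∃ S' : Set Ω, S' = insert (σ x) {y : Ω | Γ.Adj (σ x) y} := ⟨_, rfl⟩
    have hzS : σ x ∈ S := by
      rw [hSdef]
      exact Set.mem_insert _ _
    have hzS' : σ x ∈ S' := by
      rw [hS'def]
      exact Set.mem_insert _ _
    have hSinv : ∀ h : G, h • σ x = σ x → ∀ s ∈ S, h • s ∈ S := by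
      intro h hh s hs
      have hg : α (α.symm h) = h := α.apply_symm_apply h
      have hgx : α.symm h • x = x := by
        apply σ.injective
        rw [← hσ, hg, hh]
      rw [hSdef] at hs ⊢
      rcases hs with rfl | ⟨w, hw, rfl⟩
      · rw [hh]
        exact Set.mem_insert _ _
      · right
        refine ⟨α.symm h • w, ?_, ?_⟩
        · show Γ.Adj x (α.symm h • w)
          have h2 := (hΓ (α.symm h) x w).mpr hw
          rw [hgx] at h2
          exact h2
        · rw [← hσ, hg]
    have hS'inv : ∀ h : G, h • σ x = σ x → ∀ s ∈ S', h • s ∈ S' := by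
      intro h hh s hs
      rw [hS'def] at hs ⊢
      rcases hs with rfl | hw
      · rw [hh]
        exact Set.mem_insert _ _
      · right
        show Γ.Adj (σ x) (h • s)
        have h2 := (hΓ h (σ x) s).mpr hw
        rw [hh] at h2
        exact h2
    have hcS : S.ncard = 23 := by
      rw [hSdef, Set.ncard_insert_of_notMem, Set.ncard_image_of_injective _ σ.injective, hdeg' x]
      rintro ⟨w, hw, hwx⟩
      have hwx' : w = x := σ.injective hwx
      rw [hwx'] at hw
      exact Γ.irrefl hw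
    have hcS' : S'.ncard = 23 := by
      rw [hS'def, Set.ncard_insert_of_notMem, hdeg' (σ x)]
      intro hw
      exact Γ.irrefl hw
    have hsub : S ⊆ S' := by
      have hI := horb' (σ x) (S ∩ S') ⟨hzS, hzS'⟩
        (fun h hh s hs => ⟨hSinv h hh s hs.1, hS'inv h hh s hs.2⟩)
      have hle : (S ∩ S').ncard ≤ S.ncard :=
        Set.ncard_le_ncard Set.inter_subset_left (Set.toFinite S)
      rcases hI with h1 | h1 | h1 | h1
      · exfalso
        have hU := horb' (σ x) (S ∪ S') (Or.inl hzS) (fun h hh s hs =>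
          hs.elim (fun hs => Or.inl (hSinv h hh s hs)) (fun hs => Or.inr (hS'inv h hh s hs)))
        have hadd := Set.ncard_union_add_ncard_inter S S' (Set.toFinite S) (Set.toFinite S')
        rw [h1, hcS, hcS'] at hadd
        omega
      · have heq : S ∩ S' = S :=
          Set.eq_of_subset_of_ncard_le Set.inter_subset_left (by rw [h1, hcS]) (Set.toFinite S)
        rw [← heq]
        exact Set.inter_subset_right
      · omega
      · omega
    have hmem : σ y ∈ S' := hsub (by
      rw [hSdef]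
      exact Set.mem_insert_of_mem _ ⟨y, hxy, rfl⟩)
    rw [hS'def] at hmem
    rcases hmem with h1 | h1
    · exfalso
      have hyx : y = x := σ.injective h1
      rw [hyx] at hxy
      exact Γ.irrefl hxy
    · exact h1
  intro x y
  constructor
  · intro h
    have hsub : σ '' {y : Ω | Γ.Adj x y} ⊆ {y : Ω | Γ.Adj (σ x) y} := by
      rintro _ ⟨w, hw, rfl⟩
      exact hkey x w hw
    have heq : σ '' {y : Ω | Γ.Adj x y} = {y : Ω | Γ.Adj (σ x) y} :=
      Set.eq_of_subset_of_ncard_le hsub
        (by rw [Set.ncard_image_of_injective _ σ.injective, hdeg' x, hdeg' (σ x)])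
        (Set.toFinite _)
    have h2 : σ y ∈ σ '' {y : Ω | Γ.Adj x y} := by
      rw [heq]
      exact h
    obtain ⟨w, hw, hwy⟩ := h2
    rw [σ.injective hwy] at hw
    exact hw
  · exact hkey x y

end Cfsg.Agent.Lib.Helper9.HSO
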