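import Mathlib
import Cfsg.Prelude.Def_KGroupFacts

/-! The outer automorphism group of an index 2 subgroup inducing all automorphisms
(row S2072). -/

set_option autoImplicit false

namespace Cfsg.Agent.Lib.Helper9.HSO

theorem card_out_eq_two_of_index_two {A : Type*} [Group A] [Finite A] (N : Subgroup A)
    (hN : N.index = 2)
    (hcent : ∀ t : A, (∀ n ∈ N, t * n = n * t) → t = 1)
    (hsurj : ∀ φ : MulAut N, ∃ t : A, ∀ n : N, ((φ n : N) : A) = t * (n : A) * t⁻¹) :
    Nat.card (Cfsg.Out ↥N) = 2 := by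
  haveI hnorm : N.Normal := Subgroup.normal_of_index_eq_two hN
  have hΦinj : Function.Injective (MulAut.conjNormal : A →* MulAut N) := by
    rw [injective_iff_map_eq_one]
    intro t ht
    apply hcent
    intro n hn
    have h1 := congrArg (fun f : MulAut N => ((f ⟨n, hn⟩ : N) : A)) ht
    simp only [MulAut.conjNormal_apply, MulAut.one_apply] at h1
    calc t * n = (t * n * t⁻¹) * t := by group
      _ = n * t := by rw [h1]
  have hΦsurj : Function.Surjective (MulAut.conjNormal : A →* MulAut N) := by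
    intro φ
    obtain ⟨t, ht⟩ := hsurj φ
    refine ⟨t, ?_⟩
    ext n
    rw [MulAut.conjNormal_apply, ht]
  have hA : Nat.card (MulAut N) = Nat.card A :=
    (Nat.card_congr (Equiv.ofBijective _ ⟨hΦinj, hΦsurj⟩)).symm
  have hconj : Function.Injective (MulAut.conj : N →* MulAut N) := by
    rw [injective_iff_map_eq_one]
    intro n hn
    have h0 : (n : A) = 1 := by
      apply hcent
      intro m hm
      have h1 := congrArg (fun f : MulAut N => ((f ⟨m, hm⟩ : N) : A)) hn
      simp only [MulAut.conj_apply, MulAut.one_apply, Subgroup.coe_mul, Subgroup.coe_inv] at h1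
      calc (n : A) * m = ((n : A) * m * (n : A)⁻¹) * n := by group
        _ = m * n := by rw [h1]
    exact Subtype.ext h0
  have hInn : Nat.card (Cfsg.Inn ↥N) = Nat.card N :=
    (Nat.card_congr (MonoidHom.ofInjective hconj).toEquiv).symm
  have h1 := Subgroup.card_eq_card_quotient_mul_card_subgroup (Cfsg.Inn ↥N)
  have h2 := Subgroup.index_mul_card N
  rw [hA, hInn] at h1
  rw [hN] at h2
  have hNpos : 0 < Nat.card N := Nat.card_pos
  have h3 : Nat.card (Cfsg.Out ↥N) * Nat.card N = 2 * Nat.card N := by rw [← h1, h2]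
  exact Nat.eq_of_mul_eq_mul_right hNpos h3

theorem card_out_congr {G G' : Type*} [Group G] [Group G'] (e : G ≃* G') :
    Nat.card (Cfsg.Out G) = Nat.card (Cfsg.Out G') := by
  have hmap : Subgroup.map (MulAut.congr e).toMonoidHom (Cfsg.Inn G) = Cfsg.Inn G' := by
    ext f
    constructor
    · rintro ⟨_, ⟨g, rfl⟩, rfl⟩
      refine ⟨e g, ?_⟩
      ext x
      simp [MulAut.congr]
    · rintro ⟨g', rfl⟩
      refine ⟨_, ⟨e.symm g', rfl⟩, ?_⟩
      ext x
      simp [MulAut.congr]
  exact Nat.card_congr (QuotientGroup.congr _ _ (MulAut.congr e) hmap).toEquiv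

end Cfsg.Agent.Lib.Helper9.HSO
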