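import Mathlib

/-! An automorphism permuting the point stabilisers induces a permutation of the points
(row S2072). -/

set_option autoImplicit false

namespace Cfsg.Agent.Lib.Helper9.HSO

/-- all point stabilisers of a transitive action have the same order -/
theorem hsosigma_card_stab {G Ω : Type*} [Group G] [MulAction G Ω]
    [MulAction.IsPretransitive G Ω] (x y : Ω) :
    Nat.card ↥(MulAction.stabilizer G x) = Nat.card ↥(MulAction.stabilizer G y) := by
  obtain ⟨g, hg⟩ := MulAction.exists_smul_eq G x y
  exact Nat.card_congr (MulAction.stabilizerEquivStabilizer hg.symm).toEquiv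

/-- an automorphism mapping a stabiliser into a stabiliser maps it onto it -/
theorem hsosigma_iff {G Ω : Type*} [Group G] [Finite G] [MulAction G Ω]
    [MulAction.IsPretransitive G Ω] (β : MulAut G) (x y : Ω)
    (h : ∀ g : G, g • x = x → β g • y = y) (g : G) : g • x = x ↔ β g • y = y := by
  refine ⟨h g, fun hg => ?_⟩
  have hle : (MulAction.stabilizer G x).map β.toMonoidHom ≤ MulAction.stabilizer G y := by
    rintro _ ⟨s, hs, rfl⟩
    exact MulAction.mem_stabilizer_iff.mpr (h s (MulAction.mem_stabilizer_iff.mp hs))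
  have hcard : Nat.card ↥(MulAction.stabilizer G y) ≤
      Nat.card ↥((MulAction.stabilizer G x).map β.toMonoidHom) := by
    rw [Subgroup.card_map_of_injective β.injective, hsosigma_card_stab x y]
  have heq := Subgroup.eq_of_le_of_card_ge hle hcard
  have hmem : β g ∈ (MulAction.stabilizer G x).map β.toMonoidHom := by
    rw [heq]
    exact MulAction.mem_stabilizer_iff.mpr hg
  obtain ⟨s, hs, hsg⟩ := hmem
  have : s = g := β.injective hsg
  rw [← this]
  exact MulAction.mem_stabilizer_iff.mp hs

/-- the fixed-point hypothesis at every point -/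
theorem hsosigma_fix {G Ω : Type*} [Group G] [MulAction G Ω]
    [MulAction.IsPretransitive G Ω] (x0 : Ω)
    (hfix : ∀ y : Ω, (∀ g : G, g • x0 = x0 → g • y = y) → y = x0) (x y : Ω)
    (h : ∀ g : G, g • x = x → g • y = y) : y = x := by
  obtain ⟨k, hk⟩ := MulAction.exists_smul_eq G x0 x
  have h1 : k⁻¹ • y = x0 := by
    apply hfix
    intro g hg
    have h2 : (k * g * k⁻¹) • x = x := by
      rw [← hk, mul_smul, mul_smul, inv_smul_smul, hg]
    have h3 := h _ h2
    rw [mul_smul, mul_smul] at h3
    have h4 := congrArg (fun z => k⁻¹ • z) h3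
    simp only [inv_smul_smul] at h4
    exact h4
  rw [← hk, ← h1, smul_inv_smul]

theorem exists_perm_of_aut {G Ω : Type*} [Group G] [Finite G] [MulAction G Ω]
    [MulAction.IsPretransitive G Ω] (x0 : Ω)
    (hfix : ∀ y : Ω, (∀ g : G, g • x0 = x0 → g • y = y) → y = x0)
    (hCI : ∀ (β : MulAut G) (x : Ω), ∃ y : Ω, ∀ g : G, g • x = x → β g • y = y)
    (α : MulAut G) :
    ∃ σ : Equiv.Perm Ω, ∀ (g : G) (x : Ω), α g • σ x = σ (g • x) := by
  classical
  let f : MulAut G → Ω → Ω := fun β x => Classical.choose (hCI β x)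
  have hf : ∀ (β : MulAut G) (x : Ω) (g : G), g • x = x ↔ β g • f β x = f β x := fun β x g =>
    hsosigma_iff β x (f β x) (Classical.choose_spec (hCI β x)) g
  have hinv : ∀ (β : MulAut G) (x : Ω), f β⁻¹ (f β x) = x := by
    intro β x
    apply hsosigma_fix x0 hfix
    intro g hg
    have h1 := (hf β x g).mp hg
    have h2 := (hf β⁻¹ (f β x) (β g)).mp h1
    rwa [MulAut.inv_apply_self] at h2
  let σ : Equiv.Perm Ω :=
    { toFun := f α
      invFun := f α⁻¹
      left_inv := hinv α
      right_inv := fun x => by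
        have h := hinv α⁻¹ x
        rwa [inv_inv] at h }
  refine ⟨σ, fun g x => ?_⟩
  show α g • f α x = f α (g • x)
  apply hsosigma_fix x0 hfix
  intro k hk
  -- `k` fixes `f α (g • x)`; write `k = α s`
  have hk' : α (α⁻¹ k) • f α (g • x) = f α (g • x) := by
    rw [MulAut.apply_inv_self]; exact hk
  have h1 : (α⁻¹ k) • (g • x) = g • x := (hf α (g • x) (α⁻¹ k)).mpr hk'
  have h2 : (g⁻¹ * α⁻¹ k * g) • x = x := by
    rw [mul_smul, mul_smul, h1, inv_smul_smul]
  have h3 := (hf α x _).mp h2
  rw [map_mul, map_mul, MulAut.apply_inv_self, map_inv, mul_smul, mul_smul] at h3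
  have h4 := congrArg (fun z => α g • z) h3
  simp only [smul_inv_smul] at h4
  exact h4

end Cfsg.Agent.Lib.Helper9.HSO
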