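import Cfsg.Agent.Lib.Helper9.HSRDefs

/-!
# HSR piece AUT (row S1666, helper9's job board)

The joint stabiliser of `v`, `w` in `Co0` acts on the graph `hsGraph v w` (vertices: the set
`hsSet v w = {x | sqNorm x = 32 ∧ dotInt v x = 24 ∧ dotInt w x = -24}`, adjacency:
`x ≠ y ∧ dotInt x y = 8`) by graph automorphisms.

Proof.  For `g : ↥Co0` with `g • v = v`, `g • w = w` (the action is the subgroup action,
`g • x = (g : Equiv.Perm leechLattice) x`): `g.2.2` says `sqNorm (g x) = sqNorm x`, and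
`Cfsg.Agent.Lib.Helper10.co0_dot g.2 u x : dotInt (g u) (g x) = dotInt u x` gives
`dotInt v (g x) = dotInt (g v) (g x) = dotInt v x`, same for `w`.  So `g` and `g⁻¹` map `hsSet v w`
into itself: `g` restricts to a permutation of the subtype (`Equiv.subtypeEquiv` /
`Equiv.Perm.subtypePerm`), which preserves `≠` and `dotInt` (again `co0_dot`), i.e. is a graph
automorphism.  `map_one'`, `map_mul'` by `RelIso.ext` + `Subtype.ext` + `rfl`.
-/

set_option autoImplicit false

namespace Cfsg.Agent.Lib.Helper9.HSR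

open Cfsg Cfsg.Agent.Lib.Helper10

theorem exists_hsAut (v w : leechLattice) :
    ∃ φ : ↥(MulAction.stabilizer ↥Co0 v ⊓ MulAction.stabilizer ↥Co0 w) →*
        (hsGraph v w ≃g hsGraph v w),
      ∀ (g : ↥(MulAction.stabilizer ↥Co0 v ⊓ MulAction.stabilizer ↥Co0 w)) (x : ↥(hsSet v w)),
        ((φ g x : ↥(hsSet v w)) : leechLattice) = (g : ↥Co0) • (x : leechLattice) := by
  have hmem : ∀ (g : ↥Co0), g • v = v → g • w = w → ∀ z : leechLattice,
      z ∈ hsSet v w ↔ g.1 z ∈ hsSet v w := by
    intro g gv gw z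
    have e1 : sqNorm ((g.1 z : leechLattice) : GolayPt → ℤ) = sqNorm (z : GolayPt → ℤ) := g.2.2 z
    have e2 : dotInt (v : GolayPt → ℤ) ((g.1 z : leechLattice) : GolayPt → ℤ) =
        dotInt (v : GolayPt → ℤ) (z : GolayPt → ℤ) := by
      have h1 := co0_dot g.2 v z
      rw [show g.1 v = v from gv] at h1
      exact h1
    have e3 : dotInt (w : GolayPt → ℤ) ((g.1 z : leechLattice) : GolayPt → ℤ) =
        dotInt (w : GolayPt → ℤ) (z : GolayPt → ℤ) := by
      have h1 := co0_dot g.2 w z
      rw [show g.1 w = w from gw] at h1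
      exact h1
    show (sqNorm (z : GolayPt → ℤ) = 32 ∧ dotInt (v : GolayPt → ℤ) (z : GolayPt → ℤ) = 24 ∧
      dotInt (w : GolayPt → ℤ) (z : GolayPt → ℤ) = -24) ↔
      (sqNorm ((g.1 z : leechLattice) : GolayPt → ℤ) = 32 ∧
        dotInt (v : GolayPt → ℤ) ((g.1 z : leechLattice) : GolayPt → ℤ) = 24 ∧
        dotInt (w : GolayPt → ℤ) ((g.1 z : leechLattice) : GolayPt → ℤ) = -24)
    rw [e1, e2, e3]
  let toAut : ↥(MulAction.stabilizer ↥Co0 v ⊓ MulAction.stabilizer ↥Co0 w) →
      (hsGraph v w ≃g hsGraph v w) := fun g =>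
    { toEquiv := (g.1.1 : Equiv.Perm leechLattice).subtypeEquiv
        (fun z => hmem g.1 g.2.1 g.2.2 z)
      map_rel_iff' := by
        intro a b
        have h1 := co0_dot g.1.2 a.1 b.1
        constructor
        · rintro ⟨hne, hd⟩
          refine ⟨fun e => hne (by rw [e]), ?_⟩
          exact h1.symm.trans hd
        · rintro ⟨hne, hd⟩
          refine ⟨fun e => hne (Equiv.injective _ e), ?_⟩
          exact h1.trans hd }
  refine ⟨{ toFun := toAut, map_one' := ?_, map_mul' := ?_ }, fun g x => rfl⟩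
  · apply RelIso.ext
    intro x
    apply Subtype.ext
    rfl
  · intro g h
    apply RelIso.ext
    intro x
    apply Subtype.ext
    rfl

end Cfsg.Agent.Lib.Helper9.HSR
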