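import Cfsg.Agent.Lib.Helper9.HSRDefs

/-!
# HSR piece EMB (row S1666, helper9's job board)

A group of order 44352000 that embeds into the automorphism group of a strongly regular graph
with parameters `(100, 22, 0, 6)` is isomorphic to `HSB.Hc`.

Available (namespace `Cfsg.Agent.Lib.Helper9.HSB`, files `HSBSimple.lean`, `HSBSrgIso.lean`,
`HSBSimpleGen.lean`):
* `srg_iso_conc : G.IsSRGWith 100 22 0 6 → Nonempty (G ≃g Γc)`;
* `autCongr (ι : G ≃g G') : (G ≃g G) ≃* (G' ≃g G')`;
* `card_aut_conc : Nat.card (Γc ≃g Γc) = 88704000`;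
* `Hc : Subgroup (Γc ≃g Γc)`, `index_Hc : Hc.index = 2`, `card_Hc : Nat.card Hc = 44352000`,
  `simple_Hc : IsSimpleGroup Hc`.

Proof.  Take `ι : Γ ≃g Γc` and `ψ := (autCongr ι).toMonoidHom.comp φ : K →* (Γc ≃g Γc)`,
injective.  `R := ψ.range` has `Nat.card R = Nat.card K = 44352000` (`K ≃* R` by
`MonoidHom.ofInjective`), so `R.index = 2` (`Subgroup.card_mul_index`, `card_aut_conc`) and `R` is
normal (`Subgroup.normal_of_index_eq_two`).  `N := R.subgroupOf Hc` is a normal subgroup of the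
simple group `Hc`, so `N = ⊥` or `N = ⊤` (`Subgroup.Normal.eq_bot_or_eq_top`).
If `N = ⊤` then `Hc ≤ R` (`Subgroup.subgroupOf_eq_top`), and equal cardinalities give `Hc = R`
(`Subgroup.eq_of_le_of_card_ge`); then `K ≃* R = Hc`.
If `N = ⊥` then `R ⊓ Hc = ⊥` (`Subgroup.subgroupOf_eq_bot`: `Disjoint`), but
`(R ⊓ Hc).index ≤ R.index * Hc.index = 4` (`Subgroup.index_inf_le`) while
`(⊥ : Subgroup _).index = Nat.card (Γc ≃g Γc) = 88704000` (`Subgroup.index_bot`): contradiction.
-/

set_option autoImplicit false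

namespace Cfsg.Agent.Lib.Helper9.HSR

open Cfsg Cfsg.Agent.Lib.Helper9.HSB

theorem iso_Hc_of_embedding {V : Type*} [Fintype V] {Γ : SimpleGraph V} [DecidableRel Γ.Adj]
    (h : Γ.IsSRGWith 100 22 0 6) {K : Type*} [Group K] (hK : Nat.card K = 44352000)
    (φ : K →* (Γ ≃g Γ)) (hφ : Function.Injective φ) : Nonempty (K ≃* ↥Hc) := by
  obtain ⟨ι⟩ := srg_iso_conc h
  let ψ : K →* (Γc ≃g Γc) := (autCongr ι).toMonoidHom.comp φ
  have hψ : Function.Injective ψ := (autCongr ι).injective.comp hφ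
  have hfin : Finite (Γc ≃g Γc) :=
    Nat.finite_of_card_ne_zero (by rw [card_aut_conc]; norm_num)
  let e0 : K ≃* ψ.range := MonoidHom.ofInjective hψ
  have hR : Nat.card ψ.range = 44352000 := by rw [← Nat.card_congr e0.toEquiv, hK]
  have hidx : ψ.range.index = 2 := by
    have h1 := ψ.range.card_mul_index
    rw [hR, card_aut_conc] at h1
    omega
  have hnorm : ψ.range.Normal := Subgroup.normal_of_index_eq_two hidx
  have hsimple := simple_Hc
  have hN : (ψ.range.subgroupOf Hc).Normal := inferInstance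
  have hRH : ψ.range = Hc := by
    rcases hN.eq_bot_or_eq_top with hbot | htop
    · exfalso
      have h1 : ψ.range ⊓ Hc = ⊥ := by
        rw [Subgroup.subgroupOf_eq_bot] at hbot
        exact disjoint_iff.mp hbot
      have h2 := Subgroup.index_inf_le (H := ψ.range) (K := Hc)
      rw [h1, Subgroup.index_bot, card_aut_conc, hidx, index_Hc] at h2
      omega
    · have hle : Hc ≤ ψ.range := Subgroup.subgroupOf_eq_top.mp htop
      exact (Subgroup.eq_of_le_of_card_ge hle (by rw [hR, card_Hc])).symm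
  exact ⟨e0.trans (MulEquiv.subgroupCongr hRH)⟩

end Cfsg.Agent.Lib.Helper9.HSR
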