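import Cfsg.Agent.Lib.Helper9.HSRSymm

/-!
# HSR piece GRAPH (row S1666)

The orbital graph of the suborbit of size 22: `Γ.Adj x y := orbRel G a b x y`, symmetric by
`orbRel_symm`.  It is `G`-invariant, regular of degree 22, and `G` is transitive on its ordered
adjacent pairs (one orbital) and on its ordered non-adjacent pairs of distinct points (the
orbital of `(a, c)`, by the partition of the points into `{a}` and the two suborbits).
-/

set_option autoImplicit false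

namespace Cfsg.Agent.Lib.Helper9.HSR

theorem exists_graph {Ω : Type*} [Fintype Ω] [DecidableEq Ω] (hΩ : Fintype.card Ω = 100)
    (G : Subgroup (Equiv.Perm Ω)) [MulAction.IsPretransitive G Ω] (a b c : Ω)
    (hb : (MulAction.orbit (MulAction.stabilizer G a) b).ncard = 22)
    (hc : (MulAction.orbit (MulAction.stabilizer G a) c).ncard = 77) :
    ∃ Γ : SimpleGraph Ω, (∀ g ∈ G, ∀ x y : Ω, Γ.Adj (g x) (g y) ↔ Γ.Adj x y) ∧
      (∀ x : Ω, (Γ.neighborSet x).ncard = 22) ∧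
      (∀ x y x' y' : Ω, Γ.Adj x y → Γ.Adj x' y' → ∃ g ∈ G, g x = x' ∧ g y = y') ∧
      (∀ x y x' y' : Ω, x ≠ y → ¬ Γ.Adj x y → x' ≠ y' → ¬ Γ.Adj x' y' →
        ∃ g ∈ G, g x = x' ∧ g y = y') := by
  obtain ⟨ha_b, ha_c, hdisj, hcover⟩ := suborbit_partition hΩ G a b c hb hc
  have hab : a ≠ b := by
    intro h
    apply ha_b
    rw [h]
    exact MulAction.mem_orbit_self b
  have hA : ∀ y, orbRel G a b a y ↔ y ∈ MulAction.orbit (MulAction.stabilizer G a) b := by
    intro y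
    constructor
    · rintro ⟨g, hg, hga, hgb⟩
      exact ⟨⟨⟨g, hg⟩, hga⟩, hgb⟩
    · rintro ⟨s, rfl⟩
      exact ⟨s.1.1, s.1.2, s.2, rfl⟩
  have hC : ∀ y, y ∈ MulAction.orbit (MulAction.stabilizer G a) c →
      ∃ g ∈ G, g a = a ∧ g c = y := by
    rintro y ⟨s, rfl⟩
    exact ⟨s.1.1, s.1.2, s.2, rfl⟩
  have hinv : ∀ g ∈ G, ∀ x y, orbRel G a b x y → orbRel G a b (g x) (g y) := by
    rintro g hg x y ⟨k, hk, rfl, rfl⟩
    exact ⟨g * k, G.mul_mem hg hk, rfl, rfl⟩
  have hinv' : ∀ g ∈ G, ∀ x y, orbRel G a b (g x) (g y) → orbRel G a b x y := by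
    intro g hg x y h
    have h1 := hinv g⁻¹ (G.inv_mem hg) _ _ h
    simpa using h1
  have htr : ∀ x : Ω, ∃ g ∈ G, g a = x := by
    intro x
    obtain ⟨g0, hg0⟩ := MulAction.exists_smul_eq G a x
    exact ⟨g0.1, g0.2, hg0⟩
  let Γ : SimpleGraph Ω :=
    { Adj := orbRel G a b
      symm := ⟨fun x y h => orbRel_symm hΩ G a b c hb hc x y h⟩
      loopless := ⟨fun x h => by
        obtain ⟨g, hg, h1, h2⟩ := h
        exact hab (g.injective (h1.trans h2.symm))⟩ }
  have hpair : ∀ {p q x y x' y' : Ω}, (∃ g ∈ G, g p = x ∧ g q = y) →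
      (∃ g ∈ G, g p = x' ∧ g q = y') → ∃ g ∈ G, g x = x' ∧ g y = y' := by
    rintro p q x y x' y' ⟨g, hg, rfl, rfl⟩ ⟨g', hg', rfl, rfl⟩
    exact ⟨g' * g⁻¹, G.mul_mem hg' (G.inv_mem hg), by simp, by simp⟩
  refine ⟨Γ, ?_, ?_, ?_, ?_⟩
  · intro g hg x y
    exact ⟨hinv' g hg x y, hinv g hg x y⟩
  · intro x
    obtain ⟨g0, hg0, rfl⟩ := htr x
    have h1 : Γ.neighborSet (g0 a) =
        (fun z => g0 z) '' (MulAction.orbit (MulAction.stabilizer G a) b) := by
      ext y
      constructor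
      · intro hy
        refine ⟨g0⁻¹ y, (hA _).mp ?_, by simp⟩
        have hy' : orbRel G a b (g0 a) (g0 (g0⁻¹ y)) := by
          have e : g0 (g0⁻¹ y) = y := by simp
          rw [e]
          exact hy
        exact hinv' g0 hg0 a (g0⁻¹ y) hy'
      · rintro ⟨z, hz, rfl⟩
        exact hinv g0 hg0 a z ((hA z).mpr hz)
    rw [h1, Set.ncard_image_of_injective _ g0.injective, hb]
  · intro x y x' y' h h'
    exact hpair h h'
  · have key : ∀ x y : Ω, x ≠ y → ¬ orbRel G a b x y → ∃ g ∈ G, g a = x ∧ g c = y := by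
      intro x y hxy hna
      obtain ⟨g0, hg0, rfl⟩ := htr x
      have e : g0 (g0⁻¹ y) = y := by simp
      rcases hcover (g0⁻¹ y) with h1 | h1 | h1
      · exfalso
        apply hxy
        rw [← h1, e]
      · exfalso
        apply hna
        have h2 := hinv g0 hg0 a (g0⁻¹ y) ((hA _).mpr h1)
        rw [e] at h2
        exact h2
      · obtain ⟨s, hs, hsa, hsc⟩ := hC _ h1
        refine ⟨g0 * s, G.mul_mem hg0 hs, ?_, ?_⟩
        · rw [Equiv.Perm.mul_apply, hsa]
        · rw [Equiv.Perm.mul_apply, hsc, e]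
    intro x y x' y' hxy hna hxy' hna'
    exact hpair (key x y hxy hna) (key x' y' hxy' hna')

end Cfsg.Agent.Lib.Helper9.HSR
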