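import Mathlib

/-!
# HSR piece RANK3 (row S1666)

A graph on 100 vertices, regular of degree 22, whose automorphism group is transitive on ordered
adjacent pairs and on ordered non-adjacent pairs of distinct vertices is strongly regular with
parameters `(100, 22, l, m)` for some `l`, `m`: automorphisms preserve the number of common
neighbours.
-/

set_option autoImplicit false

namespace Cfsg.Agent.Lib.Helper9.HSR

theorem srg_of_rank3 {V : Type*} [Fintype V] [DecidableEq V] (Γ : SimpleGraph V)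
    [DecidableRel Γ.Adj] (hV : Fintype.card V = 100) (hreg : Γ.IsRegularOfDegree 22)
    (hadj : ∀ x y x' y', Γ.Adj x y → Γ.Adj x' y' → ∃ f : Γ ≃g Γ, f x = x' ∧ f y = y')
    (hnadj : ∀ x y x' y', x ≠ y → ¬ Γ.Adj x y → x' ≠ y' → ¬ Γ.Adj x' y' →
      ∃ f : Γ ≃g Γ, f x = x' ∧ f y = y') :
    ∃ l m : ℕ, Γ.IsSRGWith 100 22 l m := by
  have key : ∀ (f : Γ ≃g Γ) (x y : V), Fintype.card (Γ.commonNeighbors (f x) (f y)) =
      Fintype.card (Γ.commonNeighbors x y) := by
    intro f x y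
    apply Fintype.card_congr
    refine (Equiv.subtypeEquiv f.toEquiv (fun z => ?_)).symm
    simp only [SimpleGraph.mem_commonNeighbors]
    exact ⟨fun h => ⟨f.map_rel_iff.mpr h.1, f.map_rel_iff.mpr h.2⟩,
      fun h => ⟨f.map_rel_iff.mp h.1, f.map_rel_iff.mp h.2⟩⟩
  obtain ⟨x0⟩ : Nonempty V := Fintype.card_pos_iff.mp (by rw [hV]; norm_num)
  obtain ⟨y0, h0⟩ : ∃ y, Γ.Adj x0 y :=
    (Γ.degree_pos_iff_exists_adj x0).mp (by rw [hreg x0]; norm_num)
  obtain ⟨y1, hne1, hna1⟩ : ∃ y, x0 ≠ y ∧ ¬ Γ.Adj x0 y := by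
    by_contra hcon
    push_neg at hcon
    have h1 : Γ.neighborFinset x0 = Finset.univ.erase x0 := by
      ext y
      simp only [SimpleGraph.mem_neighborFinset, Finset.mem_erase, Finset.mem_univ, and_true]
      exact ⟨fun h => (Γ.ne_of_adj h).symm, fun h => hcon y (Ne.symm h)⟩
    have h2 := hreg x0
    rw [SimpleGraph.degree, h1, Finset.card_erase_of_mem (Finset.mem_univ _), Finset.card_univ,
      hV] at h2
    norm_num at h2
  refine ⟨Fintype.card (Γ.commonNeighbors x0 y0), Fintype.card (Γ.commonNeighbors x0 y1),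
    ⟨hV, hreg, ?_, ?_⟩⟩
  · intro v w hvw
    obtain ⟨f, rfl, rfl⟩ := hadj x0 y0 v w h0 hvw
    exact key f x0 y0
  · intro v w hne hvw
    obtain ⟨f, rfl, rfl⟩ := hnadj x0 y1 v w hne1 hna1 hne hvw
    exact key f x0 y1

end Cfsg.Agent.Lib.Helper9.HSR
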