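import Cfsg.Agent.Lib.Helper9.HSRDefs

/-!
# HSR piece REG (row S1666, helper9's job board)

The graph `hsGraph v w` on helper10's 100 vectors is regular of degree 22.

Proof.  `hs_rank3 v w x hv hw hvw hx` (helper10, `Lib/Helper10/HS2.lean`) gives
`{y : leechLattice | y ∈ hsSet v w ∧ dotInt x y = 8}.ncard = 22`.  The neighbour set of
`x : ↥(hsSet v w)` is `{y | x ≠ y ∧ dotInt x y = 8}`; its image under `Subtype.val` (injective,
`Set.ncard_image_of_injective`) is exactly that set: the condition `x ≠ y` is automatic because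
`dotInt x x = sqNorm x = 32 ≠ 8` (`x.2.1 : sqNorm x = 32`; `sqNorm`/`dotInt` unfold to
`∑ i, x i ^ 2` resp. `∑ i, x i * y i`, see `Cfsg/Prelude/Def_Sporadic_a.lean`).
-/

set_option autoImplicit false

namespace Cfsg.Agent.Lib.Helper9.HSR

open Cfsg Cfsg.Agent.Lib.Helper10

theorem hsGraph_degree (v w : leechLattice) (hv : sqNorm (v : GolayPt → ℤ) = 48)
    (hw : sqNorm (w : GolayPt → ℤ) = 48)
    (hvw : dotInt (v : GolayPt → ℤ) (w : GolayPt → ℤ) = -32) (x : ↥(hsSet v w)) :
    ((hsGraph v w).neighborSet x).ncard = 22 := by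
  obtain ⟨c22, -, -⟩ := hs_rank3 v w x.1 hv hw hvw x.2
  have h1 : Subtype.val '' ((hsGraph v w).neighborSet x) =
      {y : leechLattice | y ∈ hsSet v w ∧
        dotInt ((x : leechLattice) : GolayPt → ℤ) (y : GolayPt → ℤ) = 8} := by
    ext y
    constructor
    · rintro ⟨z, hz, rfl⟩
      exact ⟨z.2, hz.2⟩
    · rintro ⟨hy, hd⟩
      refine ⟨⟨y, hy⟩, ⟨?_, hd⟩, rfl⟩
      intro h
      have hxy : (x : leechLattice) = y := congrArg Subtype.val h
      rw [← hxy] at hd
      have h32 : sqNorm ((x : leechLattice) : GolayPt → ℤ) = 32 := x.2.1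
      have h3 : dotInt ((x : leechLattice) : GolayPt → ℤ) ((x : leechLattice) : GolayPt → ℤ) =
          sqNorm ((x : leechLattice) : GolayPt → ℤ) := by
        unfold dotInt sqNorm
        apply Finset.sum_congr rfl
        intro i _
        ring
      omega
  rw [← Set.ncard_image_of_injective _ Subtype.val_injective, h1, c22]

end Cfsg.Agent.Lib.Helper9.HSR
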