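import Cfsg.Agent.Lib.Helper9.HSRDefs

/-!
# HSR piece TRANS (row S1666, helper9's job board)

The joint stabiliser of `v`, `w` in `Co0` is transitive on the ordered adjacent pairs and on the
ordered non-adjacent pairs of distinct vertices of `hsGraph v w`.

Proof.  Both parts the same way.  `hs_trans v w x x' hv hw hvw hx hx'` (helper10,
`Lib/Helper10/HS.lean`) gives `g₁ : ↥Co0` fixing `v`, `w` with `g₁ • x = x'`.  Then `g₁ • y` is in
`hsSet v w` (`g₁` preserves `sqNorm` by `g₁.2.2` and `dotInt` by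
`Cfsg.Agent.Lib.Helper10.co0_dot g₁.2`), `g₁ • y ≠ x'` (injectivity), and
`dotInt x' (g₁ • y) = dotInt x y`.  The third part of `hs_rank3 v w x' hv hw hvw hx'` (helper10,
`Lib/Helper10/HS2.lean`): for `y₁, y₂ ∈ hsSet v w`, both `≠ x'`, with
`(dotInt x' y₁ = 8 ↔ dotInt x' y₂ = 8)` there is `g₂ : ↥Co0` fixing `v`, `w`, `x'` with
`g₂ • y₁ = y₂`.  Apply it to `y₁ := g₁ • y`, `y₂ := y'` and take `g := g₂ * g₁`.
Here `Adj x y` unfolds to `x ≠ y ∧ dotInt x y = 8`, so "not adjacent and `x ≠ y`" means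
`dotInt x y ≠ 8`.
-/

set_option autoImplicit false

namespace Cfsg.Agent.Lib.Helper9.HSR

open Cfsg Cfsg.Agent.Lib.Helper10

theorem hsGraph_pair_trans (v w : leechLattice) (hv : sqNorm (v : GolayPt → ℤ) = 48)
    (hw : sqNorm (w : GolayPt → ℤ) = 48)
    (hvw : dotInt (v : GolayPt → ℤ) (w : GolayPt → ℤ) = -32) (x y x' y' : ↥(hsSet v w))
    (hxy : x ≠ y) (hxy' : x' ≠ y')
    (hiff : dotInt ((x : leechLattice) : GolayPt → ℤ) ((y : leechLattice) : GolayPt → ℤ) = 8 ↔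
      dotInt ((x' : leechLattice) : GolayPt → ℤ) ((y' : leechLattice) : GolayPt → ℤ) = 8) :
    ∃ g : ↥(MulAction.stabilizer ↥Co0 v ⊓ MulAction.stabilizer ↥Co0 w),
      (g : ↥Co0) • (x : leechLattice) = x' ∧ (g : ↥Co0) • (y : leechLattice) = y' := by
  obtain ⟨g1, g1v, g1w, g1x⟩ := hs_trans v w x.1 x'.1 hv hw hvw x.2 x'.2
  obtain ⟨-, -, tr⟩ := hs_rank3 v w x'.1 hv hw hvw x'.2
  have hmem : ∀ z ∈ hsSet v w, g1 • z ∈ hsSet v w := by
    intro z hz
    refine ⟨?_, ?_, ?_⟩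
    · exact (g1.2.2 z).trans hz.1
    · have h1 := co0_dot g1.2 v z
      rw [show g1.1 v = v from g1v] at h1
      exact h1.trans hz.2.1
    · have h1 := co0_dot g1.2 w z
      rw [show g1.1 w = w from g1w] at h1
      exact h1.trans hz.2.2
  have hdot : ∀ z : leechLattice, dotInt ((x' : leechLattice) : GolayPt → ℤ)
      ((g1 • z : leechLattice) : GolayPt → ℤ) =
      dotInt ((x : leechLattice) : GolayPt → ℤ) (z : GolayPt → ℤ) := by
    intro z
    have h1 := co0_dot g1.2 x.1 z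
    rw [show g1.1 x.1 = x'.1 from g1x] at h1
    exact h1
  have hne : g1 • (y : leechLattice) ≠ x' := by
    intro e
    rw [← g1x] at e
    exact hxy (Subtype.ext (MulAction.injective g1 e).symm)
  obtain ⟨g2, g2v, g2w, g2x, g2y⟩ := tr (g1 • y.1) (hmem _ y.2) y'.1 y'.2 hne
    (fun e => hxy' (Subtype.ext e.symm)) (by rw [hdot]; exact hiff)
  refine ⟨⟨g2 * g1, ?_, ?_⟩, ?_, ?_⟩
  · show (g2 * g1) • v = v
    rw [mul_smul, g1v, g2v]
  · show (g2 * g1) • w = w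
    rw [mul_smul, g1w, g2w]
  · show (g2 * g1) • (x : leechLattice) = x'
    rw [mul_smul, g1x, g2x]
  · show (g2 * g1) • (y : leechLattice) = y'
    rw [mul_smul, g2y]

theorem hsGraph_adj_trans (v w : leechLattice) (hv : sqNorm (v : GolayPt → ℤ) = 48)
    (hw : sqNorm (w : GolayPt → ℤ) = 48)
    (hvw : dotInt (v : GolayPt → ℤ) (w : GolayPt → ℤ) = -32) (x y x' y' : ↥(hsSet v w))
    (h : (hsGraph v w).Adj x y) (h' : (hsGraph v w).Adj x' y') :
    ∃ g : ↥(MulAction.stabilizer ↥Co0 v ⊓ MulAction.stabilizer ↥Co0 w),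
      (g : ↥Co0) • (x : leechLattice) = x' ∧ (g : ↥Co0) • (y : leechLattice) = y' :=
  hsGraph_pair_trans v w hv hw hvw x y x' y' h.1 h'.1 ⟨fun _ => h'.2, fun _ => h.2⟩

theorem hsGraph_nadj_trans (v w : leechLattice) (hv : sqNorm (v : GolayPt → ℤ) = 48)
    (hw : sqNorm (w : GolayPt → ℤ) = 48)
    (hvw : dotInt (v : GolayPt → ℤ) (w : GolayPt → ℤ) = -32) (x y x' y' : ↥(hsSet v w))
    (hxy : x ≠ y) (h : ¬ (hsGraph v w).Adj x y) (hxy' : x' ≠ y')
    (h' : ¬ (hsGraph v w).Adj x' y') :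
    ∃ g : ↥(MulAction.stabilizer ↥Co0 v ⊓ MulAction.stabilizer ↥Co0 w),
      (g : ↥Co0) • (x : leechLattice) = x' ∧ (g : ↥Co0) • (y : leechLattice) = y' :=
  hsGraph_pair_trans v w hv hw hvw x y x' y' hxy hxy'
    ⟨fun e => absurd ⟨hxy, e⟩ h, fun e => absurd ⟨hxy', e⟩ h'⟩

end Cfsg.Agent.Lib.Helper9.HSR
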