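import Cfsg.Agent.Lib.Helper9.HSRDefs

/-!
# HSR piece VEC (row S1666, helper9's job board)

The Leech lattice group `Spor.HS` (stabiliser in `Co0` of `leechV = (-5, -1²³)` and
`leechU' = (4, -4, 0²²)`) is the joint stabiliser of the two vectors `leechV` and
`w0 = -(leechV + leechU') = (1, 5, 1²²)` of `sqNorm` 48 with `dotInt = -32`, i.e. the group of
helper10's `hs_main` (S0405).

Proof.  (1)-(3): the coordinates are `Spor.vecV` and `-(Spor.vecV + Spor.vecU')` (the coercion of
`leechLattice` is `Subtype.val`, and `-`, `+` are coordinatewise); `sqNorm`/`dotInt` are sums over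
`GolayPt = Option (ZMod 23)`: `decide`/`simp [Fintype.sum_option]`-style evaluation, or split the
sum at `none` and `some 0`.
(4) `Spor.HS = (Co0 ⊓ stabilizer _ leechV) ⊓ stabilizer _ leechU'` inside
`Equiv.Perm leechLattice`; elements `g` of `Co0` are additive (`hg.1`), hence `g 0 = 0`,
`g (-x) = -g x`; so for `g ∈ Co0` with `g leechV = leechV`: `g leechU' = leechU' ↔ g w0 = w0`.
The map `g ↦ ⟨⟨g, _⟩, _⟩` is then a `MulEquiv` (e.g. `Spor.HS ≃* (Spor.HS).subgroupOf Co0` via
`Subgroup.subgroupOfEquivOfLe`, and `(Spor.HS).subgroupOf Co0 = stabilizer ↥Co0 leechV ⊓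
stabilizer ↥Co0 w0` by `ext`, then `MulEquiv.subgroupCongr`).  The action of `↥Co0` on
`leechLattice` is the subgroup action: `(g : ↥Co0) • x = (g : Equiv.Perm leechLattice) x`.
-/

set_option autoImplicit false

namespace Cfsg.Agent.Lib.Helper9.HSR

open Cfsg

theorem sqNorm_leechV : sqNorm ((Spor.leechV : leechLattice) : GolayPt → ℤ) = 48 := by
  decide +kernel

theorem sqNorm_w0 : sqNorm ((w0 : leechLattice) : GolayPt → ℤ) = 48 := by
  decide +kernel

theorem dot_leechV_w0 :
    dotInt ((Spor.leechV : leechLattice) : GolayPt → ℤ) ((w0 : leechLattice) : GolayPt → ℤ) =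
      -32 := by
  decide +kernel

theorem sporHS_equiv :
    Nonempty (↥Spor.HS ≃*
      ↥(MulAction.stabilizer ↥Co0 Spor.leechV ⊓ MulAction.stabilizer ↥Co0 w0)) := by
  have hle : Spor.HS ≤ Co0 := fun g hg => hg.1.1
  have heq : (Spor.HS).subgroupOf Co0 =
      MulAction.stabilizer ↥Co0 Spor.leechV ⊓ MulAction.stabilizer ↥Co0 w0 := by
    ext g
    have hadd : ∀ v w : leechLattice, (g : Equiv.Perm leechLattice) (v + w) =
        (g : Equiv.Perm leechLattice) v + (g : Equiv.Perm leechLattice) w := g.2.1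
    have h0 : (g : Equiv.Perm leechLattice) 0 = 0 := by
      have h := hadd 0 0
      rw [add_zero] at h
      exact left_eq_add.mp h
    have hneg : ∀ x : leechLattice, (g : Equiv.Perm leechLattice) (-x) =
        -(g : Equiv.Perm leechLattice) x := by
      intro x
      have h := hadd x (-x)
      rw [add_neg_cancel, h0] at h
      exact (neg_eq_of_add_eq_zero_right h.symm).symm
    have hL : g ∈ (Spor.HS).subgroupOf Co0 ↔
        (((g : Equiv.Perm leechLattice) ∈ Co0 ∧
          (g : Equiv.Perm leechLattice) Spor.leechV = Spor.leechV) ∧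
          (g : Equiv.Perm leechLattice) Spor.leechU' = Spor.leechU') := Iff.rfl
    have hR : g ∈ MulAction.stabilizer ↥Co0 Spor.leechV ⊓ MulAction.stabilizer ↥Co0 w0 ↔
        ((g : Equiv.Perm leechLattice) Spor.leechV = Spor.leechV ∧
          (g : Equiv.Perm leechLattice) w0 = w0) := Iff.rfl
    rw [hL, hR]
    constructor
    · rintro ⟨⟨-, hv⟩, hu⟩
      refine ⟨hv, ?_⟩
      unfold w0
      rw [hneg, hadd, hv, hu]
    · rintro ⟨hv, hw⟩
      refine ⟨⟨g.2, hv⟩, ?_⟩
      unfold w0 at hw
      rw [hneg, hadd, hv] at hw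
      exact add_left_cancel (neg_injective hw)
  exact ⟨(Subgroup.subgroupOfEquivOfLe hle).symm.trans (MulEquiv.subgroupCongr heq)⟩

end Cfsg.Agent.Lib.Helper9.HSR
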