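import Cfsg.Agent.Lib.Helper9.HSRFeas
import Cfsg.Agent.Lib.Helper9.HSRRank3
import Cfsg.Agent.Lib.Helper9.HSREmb
import Cfsg.Agent.Lib.Helper9.HSRGraph
import Cfsg.Agent.Lib.Helper9.HSRVec
import Cfsg.Agent.Lib.Helper9.HSRAut
import Cfsg.Agent.Lib.Helper9.HSRReg
import Cfsg.Agent.Lib.Helper9.HSRTrans

/-!
# Project HSR (row S1666): assembly

`iso_Hc_of_rank3`: a group of order 44352000 acting faithfully on a graph with 100 vertices,
regular of degree 22, transitively on ordered adjacent pairs and on ordered non-adjacent pairs of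
distinct vertices, is isomorphic to `HSB.Hc`.  `sporHS_iso_Hc`: so is the Leech lattice group
`Spor.HS`.
-/

set_option autoImplicit false

namespace Cfsg.Agent.Lib.Helper9.HSR

open Cfsg Cfsg.Agent.Lib.Helper9.HSB Cfsg.Agent.Lib.Helper10

theorem iso_Hc_of_rank3 {V : Type*} [Finite V] (Γ : SimpleGraph V) (hV : Nat.card V = 100)
    (hreg : ∀ x : V, (Γ.neighborSet x).ncard = 22)
    {K : Type*} [Group K] (hK : Nat.card K = 44352000) (φ : K →* (Γ ≃g Γ))
    (hφ : Function.Injective φ)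
    (hadj : ∀ x y x' y' : V, Γ.Adj x y → Γ.Adj x' y' → ∃ k : K, φ k x = x' ∧ φ k y = y')
    (hnadj : ∀ x y x' y' : V, x ≠ y → ¬ Γ.Adj x y → x' ≠ y' → ¬ Γ.Adj x' y' →
      ∃ k : K, φ k x = x' ∧ φ k y = y') :
    Nonempty (K ≃* ↥Hc) := by
  classical
  haveI := Fintype.ofFinite V
  have hV' : Fintype.card V = 100 := by rw [← Nat.card_eq_fintype_card]; exact hV
  have hreg' : Γ.IsRegularOfDegree 22 := by
    intro x
    exact (Set.ncard_eq_toFinset_card' _).symm.trans (hreg x)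
  obtain ⟨l, m, h⟩ := srg_of_rank3 Γ hV' hreg'
    (fun x y x' y' h1 h2 => by
      obtain ⟨k, hk⟩ := hadj x y x' y' h1 h2
      exact ⟨φ k, hk⟩)
    (fun x y x' y' h1 h2 h3 h4 => by
      obtain ⟨k, hk⟩ := hnadj x y x' y' h1 h2 h3 h4
      exact ⟨φ k, hk⟩)
  obtain ⟨rfl, rfl⟩ := srg_params h
  exact iso_Hc_of_embedding h hK φ hφ

theorem sporHS_iso_Hc : Nonempty (↥Spor.HS ≃* ↥Hc) := by
  have hv := sqNorm_leechV
  have hw := sqNorm_w0
  have hvw := dot_leechV_w0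
  obtain ⟨e0⟩ := sporHS_equiv
  obtain ⟨φ, hφ⟩ := exists_hsAut Spor.leechV w0
  have hcard := hs_card Spor.leechV w0 hv hw hvw
  haveI : Finite ↥(hsSet Spor.leechV w0) :=
    Set.finite_coe_iff.mpr (Set.finite_of_ncard_ne_zero (by rw [hcard]; norm_num))
  obtain ⟨x0, hx0⟩ : (hsSet Spor.leechV w0).Nonempty :=
    Set.nonempty_of_ncard_ne_zero (by rw [hcard]; norm_num)
  have hinj : Function.Injective φ := by
    rw [injective_iff_map_eq_one]
    intro g hg
    apply Subtype.ext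
    apply Subtype.ext
    show (g.1.1 : Equiv.Perm leechLattice) = 1
    apply hs_faithful hv hw hvw hx0 g.1.2 g.2.1 g.2.2
    intro y hy
    have h1 := hφ g ⟨y, hy⟩
    rw [hg] at h1
    exact h1.symm
  obtain ⟨e1⟩ := iso_Hc_of_rank3 (hsGraph Spor.leechV w0)
    (by rw [Nat.card_coe_set_eq, hcard]) (hsGraph_degree _ _ hv hw hvw)
    (hs_main _ _ hv hw hvw).2 φ hinj
    (fun x y x' y' h h' => by
      obtain ⟨g, h1, h2⟩ := hsGraph_adj_trans _ _ hv hw hvw x y x' y' h h'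
      exact ⟨g, Subtype.ext ((hφ g x).trans h1), Subtype.ext ((hφ g y).trans h2)⟩)
    (fun x y x' y' hxy h hxy' h' => by
      obtain ⟨g, h1, h2⟩ := hsGraph_nadj_trans _ _ hv hw hvw x y x' y' hxy h hxy' h'
      exact ⟨g, Subtype.ext ((hφ g x).trans h1), Subtype.ext ((hφ g y).trans h2)⟩)
  exact ⟨e0.trans e1⟩

end Cfsg.Agent.Lib.Helper9.HSR
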