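import Mathlib
import Cfsg.Agent.Lib.Helper9.HSOConc
import Cfsg.Agent.Lib.Helper9.HSOFix
import Cfsg.Agent.Lib.Helper9.HSOCI
import Cfsg.Agent.Lib.Helper9.HSOSigma
import Cfsg.Agent.Lib.Helper9.HSOGraph
import Cfsg.Agent.Lib.Helper9.HSOOut
import Cfsg.Agent.Lib.Helper9.HSRMain

/-!
# `Out(HS)` has order 2 (row S2072): assembly

Every automorphism `α` of the even automorphism group `Hc` of the Higman–Sims graph `Γc` permutes
the point stabilisers (a subgroup of order `443520` without subgroups of order `7920` fixes a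
vertex, by counting fixed points of elements of order 11 and 7), hence induces a permutation of
the 100 vertices, which preserves the graph.  So `Aut(Hc) = Aut(Γc)`, of order `2 |Hc|`.
-/

set_option autoImplicit false

namespace Cfsg.Agent.Lib.Helper9.HSO

open Cfsg Cfsg.Agent.Lib.Helper9.HS Cfsg.Agent.Lib.Helper9.HSB

theorem fix11 (a : Hc) (ha : orderOf a = 11) : (MulAction.fixedBy (Fin 100) a).ncard = 1 :=
  (ncard_fixedBy_eq_of_sylow 11 (by norm_num) (by rw [card_Hc]; decide) a t2H ha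
    orderOf_t2H).trans fixedBy_t2H

theorem fix7 (b : Hc) (hb : orderOf b = 7) : (MulAction.fixedBy (Fin 100) b).ncard = 2 :=
  (ncard_fixedBy_eq_of_sylow 7 (by norm_num) (by rw [card_Hc]; decide) b u2H hb
    orderOf_u2H).trans fixedBy_u2H

theorem card_stab (x : Fin 100) : Nat.card (MulAction.stabilizer Hc x) = 443520 := by
  have h1 := Subgroup.card_mul_index (MulAction.stabilizer Hc x)
  have h100 : Nat.card (Fin 100) = 100 := by
    rw [Nat.card_eq_fintype_card, Fintype.card_fin]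
  rw [MulAction.index_stabilizer, MulAction.orbit_eq_univ, Set.ncard_univ, card_Hc, h100] at h1
  omega

theorem hCI (β : MulAut Hc) (x : Fin 100) :
    ∃ y : Fin 100, ∀ g : Hc, g • x = x → β g • y = y := by
  have hcard : Nat.card ((MulAction.stabilizer Hc x).map β.toMonoidHom) = 443520 := by
    rw [Subgroup.card_map_of_injective β.injective]
    exact card_stab x
  obtain ⟨y, hy⟩ := exists_fixed_point (G := Hc) (Ω := Fin 100)
    (by rw [Nat.card_eq_fintype_card, Fintype.card_fin]) _ hcard fix11 fix7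
    (fun H hH => no_subgroup_map 7920 (0 : Fin 100) stab0_no7920 β x H hH)
  exact ⟨y, fun g hg => hy _ (Subgroup.mem_map_of_mem _ hg)⟩

theorem hsurj (φ : MulAut Hc) :
    ∃ t : Γc ≃g Γc, ∀ n : Hc, ((φ n : Hc) : Γc ≃g Γc) = t * (n : Γc ≃g Γc) * t⁻¹ := by
  obtain ⟨σ, hσ⟩ := exists_perm_of_aut (G := Hc) (Ω := Fin 100) 0 hfix0 hCI φ
  have hadj := adj_iff_of_equivariant (G := Hc) Γc hΓ 0 hdeg horb0 φ σ hσ
  refine ⟨⟨σ, fun {x y} => hadj x y⟩, fun n => ?_⟩
  apply RelIso.ext
  intro v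
  have h1 := hσ n (σ.symm v)
  rw [Equiv.apply_symm_apply] at h1
  exact h1

theorem hcent (t : Γc ≃g Γc) (ht : ∀ n ∈ Hc, t * n = n * t) : t = 1 := by
  have h0 : t 0 = 0 := by
    apply hfix0
    intro g hg
    have h1 := congrArg (fun φ : Γc ≃g Γc => φ (0 : Fin 100)) (ht g.1 g.2)
    have h2 : t (g.1 0) = g.1 (t 0) := h1
    have h3 : g.1 (0 : Fin 100) = 0 := hg
    rw [h3] at h2
    exact h2.symm
  apply RelIso.ext
  intro v
  obtain ⟨h, rfl⟩ := Hc_trans v
  have h1 := congrArg (fun φ : Γc ≃g Γc => φ (0 : Fin 100)) (ht h.1 h.2)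
  have h2 : t (h.1 0) = h.1 (t 0) := h1
  rw [h0] at h2
  exact h2

theorem card_out_Hc : Nat.card (Cfsg.Out ↥Hc) = 2 :=
  card_out_eq_two_of_index_two Hc index_Hc hcent hsurj

theorem card_out_HS : Nat.card (Cfsg.Out ↥Cfsg.Spor.HS) = 2 := by
  obtain ⟨e⟩ := Cfsg.Agent.Lib.Helper9.HSR.sporHS_iso_Hc
  rw [card_out_congr e]
  exact card_out_Hc

end Cfsg.Agent.Lib.Helper9.HSO
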