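import Mathlib
import Cfsg.Prelude.Def_Spor_Mathieu
import Cfsg.Prelude.Def_Spor_Conway
import Cfsg.Agent.Lib.Helper9.HSBSimple
import Cfsg.Agent.Lib.Helper9.HSBSrgIso
import Cfsg.Agent.Lib.Helper10.HSSimple

/-!
# Project HSR (row S1666, helper9): recognition of HS from its rank 3 action on 100 points

Definitions shared by the pieces.

Plan.  A transitive group `G` on 100 points whose point stabiliser has orbits of sizes 1, 22, 77
preserves the orbital graph of the suborbit of size 22, which is regular of degree 22 with
`G` transitive on ordered adjacent pairs and on ordered non-adjacent pairs of distinct points; so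
it is strongly regular with parameters `(100, 22, l, m)`, and the feasibility conditions force
`(l, m) = (0, 6)`.  By the uniqueness of that graph (S0430) it is the concrete graph `HSB.Γc`, whose
automorphism group has order 88704000 (S1586) and contains the simple subgroup `HSB.Hc` of index 2
(S0431).  As `|G| = 100 * |M22| = 44352000`, `G` is an index 2 subgroup of `Aut`, hence equal to
`HSB.Hc`.  The same argument applies to the Leech lattice group `Spor.HS` acting on helper10's
100 vectors `hsSet v w` (S0405, S1583, S1584), so `G ≃* HSB.Hc ≃* Spor.HS`.

(`HSB` is a verbatim copy of the library `HS` of S0430/S0431/S1586, files `HSB*.lean`; the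
original cannot be imported together with helper10's Leech lattice files, see `HSBGraph.lean`.)
-/

set_option autoImplicit false

namespace Cfsg.Agent.Lib.Helper9.HSR

open Cfsg Cfsg.Agent.Lib.Helper10

/-- The orbital of the pair `(a, b)` under the permutation group `G`. -/
def orbRel {Ω : Type*} (G : Subgroup (Equiv.Perm Ω)) (a b x y : Ω) : Prop :=
  ∃ g ∈ G, g a = x ∧ g b = y

/-- The graph on helper10's set `hsSet v w` of 100 lattice vectors: distinct vectors with
coordinate dot product 8 (customary inner product 1). -/
def hsGraph (v w : leechLattice) : SimpleGraph ↥(hsSet v w) where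
  Adj x y := x ≠ y ∧
    dotInt ((x : leechLattice) : GolayPt → ℤ) ((y : leechLattice) : GolayPt → ℤ) = 8
  symm := ⟨fun x y h => ⟨h.1.symm, by
    rw [← h.2]; unfold dotInt; exact Finset.sum_congr rfl fun i _ => mul_comm _ _⟩⟩
  loopless := ⟨fun x h => h.1 rfl⟩

/-- The second vector of customary norm 6: `-(v + u') = (1, 5, 1²²)`. -/
def w0 : leechLattice := -(Spor.leechV + Spor.leechU')

end Cfsg.Agent.Lib.Helper9.HSR
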