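import Mathlib

/-!
# HSR piece FEAS (row S1666): the feasible parameters `(100, 22, l, m)` are `(0, 6)`

`k (k - l - 1) = (n - k - 1) m` leaves `(l, m) = (0, 6), (7, 4), (14, 2), (21, 0)`.  For
`(7, 4)` and `(21, 0)` the eigenvalues are integers and an eigenspace projection would have
trace `275 / 9` resp. `100 / 23`; for `(14, 2)` one has `(A - 6)² = 56 + 2 J`, whose determinant
`56 ^ 99 * 256` is not a rational square.
-/

set_option autoImplicit false

namespace Cfsg.Agent.Lib.Helper9.HSR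

open Matrix

/-- the trace of an idempotent rational matrix is a natural number -/
theorem trace_idem {n : Type*} [Fintype n] [DecidableEq n] (E : Matrix n n ℚ) (hE : E * E = E) :
    ∃ k : ℕ, E.trace = k := by
  have h1 : IsIdempotentElem (Matrix.toLin' E) := by
    show _ * _ = _
    rw [Module.End.mul_eq_comp, ← Matrix.toLin'_mul, hE]
  have h2 := (LinearMap.IsIdempotentElem.isProj_range _ h1).trace
  rw [Matrix.trace_toLin'_eq] at h2
  exact ⟨_, h2⟩

section
variable {V : Type*} [Fintype V] {Γ : SimpleGraph V} [DecidableRel Γ.Adj]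

/-- the all-ones matrix -/
abbrev allOnes (V : Type*) : Matrix V V ℚ := Matrix.of fun _ _ => 1

theorem adj_mul_J (hreg : Γ.IsRegularOfDegree 22) :
    Γ.adjMatrix ℚ * allOnes V = (22 : ℚ) • allOnes V := by
  ext i j
  rw [SimpleGraph.adjMatrix_mul_apply]
  simp only [allOnes, Matrix.of_apply, Finset.sum_const, Matrix.smul_apply, smul_eq_mul, mul_one,
    nsmul_eq_mul]
  have := hreg i
  rw [SimpleGraph.degree] at this
  rw [this]
  norm_num

theorem J_mul_adj (hreg : Γ.IsRegularOfDegree 22) :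
    allOnes V * Γ.adjMatrix ℚ = (22 : ℚ) • allOnes V := by
  ext i j
  rw [SimpleGraph.mul_adjMatrix_apply]
  simp only [allOnes, Matrix.of_apply, Finset.sum_const, Matrix.smul_apply, smul_eq_mul, mul_one,
    nsmul_eq_mul]
  have := hreg j
  rw [SimpleGraph.degree] at this
  rw [this]
  norm_num

theorem J_mul_J (hV : Fintype.card V = 100) :
    allOnes V * allOnes V = (100 : ℚ) • allOnes V := by
  ext i j
  simp only [allOnes, Matrix.mul_apply, Matrix.of_apply, mul_one, Finset.sum_const,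
    Finset.card_univ, hV, Matrix.smul_apply, smul_eq_mul, nsmul_eq_mul]
  norm_num

theorem trace_J (hV : Fintype.card V = 100) : (allOnes V).trace = 100 := by
  simp only [Matrix.trace, Matrix.diag, allOnes, Matrix.of_apply, Finset.sum_const,
    Finset.card_univ, hV, nsmul_eq_mul]
  norm_num

theorem adj_sq [DecidableEq V] {l m : ℕ} (h : Γ.IsSRGWith 100 22 l m) :
    Γ.adjMatrix ℚ * Γ.adjMatrix ℚ = ((22 : ℚ) - m) • (1 : Matrix V V ℚ) +
      ((l : ℚ) - m) • Γ.adjMatrix ℚ + (m : ℚ) • allOnes V := by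
  have h1 := h.matrix_eq (α := ℚ)
  have h2 : (1 : Matrix V V ℚ) + Γ.adjMatrix ℚ + Γᶜ.adjMatrix ℚ = allOnes V := by
    ext i j
    simp only [Matrix.add_apply, Matrix.one_apply, SimpleGraph.adjMatrix_apply,
      SimpleGraph.compl_adj, allOnes, Matrix.of_apply]
    by_cases hij : i = j
    · subst hij; simp
    · by_cases ha : Γ.Adj i j <;> simp [hij, ha]
  have h3 : Γᶜ.adjMatrix ℚ = allOnes V - 1 - Γ.adjMatrix ℚ := by
    rw [← h2]; abel
  rw [h3, sq, ← Nat.cast_smul_eq_nsmul ℚ 22, ← Nat.cast_smul_eq_nsmul ℚ l,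
    ← Nat.cast_smul_eq_nsmul ℚ m] at h1
  rw [h1]
  push_cast
  module


theorem not_case_21_0 [DecidableEq V] (h : Γ.IsSRGWith 100 22 21 0) : False := by
  have hsq := adj_sq h
  set A := Γ.adjMatrix ℚ with hA
  set E : Matrix V V ℚ := (1 / 23 : ℚ) • (A + 1) with hEdef
  have hE : E * E = E := by
    simp only [hEdef, Matrix.smul_mul, Matrix.mul_smul, mul_add, add_mul, Matrix.one_mul,
      Matrix.mul_one, hsq]
    push_cast
    module
  obtain ⟨k, hk⟩ := trace_idem E hE
  have htr : E.trace = 100 / 23 := by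
    rw [hEdef, Matrix.trace_smul, Matrix.trace_add, hA, SimpleGraph.trace_adjMatrix,
      Matrix.trace_one, h.card]
    simp
    norm_num
  rw [htr] at hk
  have h2 : (100 : ℚ) = ((23 * k : ℕ) : ℚ) := by push_cast; linarith
  have h3 : 100 = 23 * k := by exact_mod_cast h2
  omega

theorem not_case_7_4 [DecidableEq V] (h : Γ.IsSRGWith 100 22 7 4) : False := by
  have hsq := adj_sq h
  have hAJ := adj_mul_J h.regular
  have hJA := J_mul_adj h.regular
  have hJJ := J_mul_J h.card
  set A := Γ.adjMatrix ℚ with hA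
  set J := allOnes V with hJ
  set E : Matrix V V ℚ := (1 / 9 : ℚ) • (A + (3 : ℚ) • (1 : Matrix V V ℚ) - (1 / 4 : ℚ) • J)
    with hEdef
  have hE : E * E = E := by
    simp only [hEdef, Matrix.smul_mul, Matrix.mul_smul, mul_add, add_mul, mul_sub, sub_mul,
      Matrix.one_mul, Matrix.mul_one, hsq, hAJ, hJA, hJJ]
    push_cast
    module
  obtain ⟨k, hk⟩ := trace_idem E hE
  have htr : E.trace = 275 / 9 := by
    rw [hEdef, Matrix.trace_smul, Matrix.trace_sub, Matrix.trace_add, Matrix.trace_smul,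
      Matrix.trace_smul, hA, SimpleGraph.trace_adjMatrix, Matrix.trace_one, h.card, hJ,
      trace_J h.card]
    simp
    norm_num
  rw [htr] at hk
  have h2 : (275 : ℚ) = ((9 * k : ℕ) : ℚ) := by push_cast; linarith
  have h3 : 275 = 9 * k := by exact_mod_cast h2
  omega

theorem not_case_14_2 [DecidableEq V] (h : Γ.IsSRGWith 100 22 14 2) : False := by
  have hsq := adj_sq h
  set A := Γ.adjMatrix ℚ with hA
  set J := allOnes V with hJ
  set B : Matrix V V ℚ := A - (6 : ℚ) • (1 : Matrix V V ℚ) with hBdef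
  have hB : B * B = (56 : ℚ) • ((1 : Matrix V V ℚ) +
      Matrix.replicateCol Unit (fun _ : V => (1 / 28 : ℚ)) *
        Matrix.replicateRow Unit (fun _ : V => (1 : ℚ))) := by
    have hJ' : Matrix.replicateCol Unit (fun _ : V => (1 / 28 : ℚ)) *
        Matrix.replicateRow Unit (fun _ : V => (1 : ℚ)) = (1 / 28 : ℚ) • J := by
      ext i j
      simp [Matrix.mul_apply, hJ, allOnes]
    rw [hJ']
    simp only [hBdef, Matrix.smul_mul, Matrix.mul_smul, mul_sub, sub_mul,
      Matrix.one_mul, Matrix.mul_one, hsq]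
    push_cast
    module
  have hdet : B.det * B.det = (56 : ℚ) ^ 100 * (1 + 100 / 28) := by
    rw [← Matrix.det_mul, hB, Matrix.det_smul, Matrix.det_one_add_replicateCol_mul_replicateRow,
      h.card]
    congr 2
    simp [dotProduct, h.card]
    norm_num
  have h14 : IsSquare (14 : ℚ) := by
    refine ⟨7 * B.det / (56 ^ 50 * 4), ?_⟩
    field_simp
    nlinarith [hdet]
  have h14' : IsSquare ((14 : ℕ) : ℚ) := by exact_mod_cast h14
  rw [Rat.isSquare_natCast_iff] at h14'
  obtain ⟨r, hr⟩ := h14'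
  have hr4 : r < 4 := by nlinarith
  interval_cases r <;> omega


theorem srg_params [DecidableEq V] {l m : ℕ} (h : Γ.IsSRGWith 100 22 l m) : l = 0 ∧ m = 6 := by
  have hne : Nonempty V := Fintype.card_pos_iff.mp (by rw [h.card]; norm_num)
  obtain ⟨v0⟩ := hne
  have hdeg : Γ.degree v0 = 22 := h.regular v0
  obtain ⟨w0, hw0⟩ : ∃ w, Γ.Adj v0 w :=
    (Γ.degree_pos_iff_exists_adj v0).mp (by rw [hdeg]; norm_num)
  have hl : l < 22 := by
    have h1 := h.of_adj v0 w0 hw0
    have h2 := hw0.card_commonNeighbors_lt_degree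
    rw [hdeg] at h2
    rw [← h1]
    convert h2
  have hparam := SimpleGraph.IsSRGWith.param_eq Γ h (by norm_num)
  have hcases : (l = 0 ∧ m = 6) ∨ (l = 7 ∧ m = 4) ∨ (l = 14 ∧ m = 2) ∨ (l = 21 ∧ m = 0) := by
    omega
  rcases hcases with h0 | ⟨rfl, rfl⟩ | ⟨rfl, rfl⟩ | ⟨rfl, rfl⟩
  · exact h0
  · exact (not_case_7_4 h).elim
  · exact (not_case_14_2 h).elim
  · exact (not_case_21_0 h).elim

end

end Cfsg.Agent.Lib.Helper9.HSR
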