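import Mathlib

/-!
# HSR piece PART (row S1666)

If the stabiliser `S` of `a` in a permutation group on 100 points has an orbit `O_b` of size 22
and an orbit `O_c` of size 77, then `{a}`, `O_b`, `O_c` partition the points.
-/

set_option autoImplicit false

namespace Cfsg.Agent.Lib.Helper9.HSR

theorem suborbit_partition {Ω : Type*} [Fintype Ω] [DecidableEq Ω] (hΩ : Fintype.card Ω = 100)
    (G : Subgroup (Equiv.Perm Ω)) (a b c : Ω)
    (hb : (MulAction.orbit (MulAction.stabilizer G a) b).ncard = 22)
    (hc : (MulAction.orbit (MulAction.stabilizer G a) c).ncard = 77) :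
    a ∉ MulAction.orbit (MulAction.stabilizer G a) b ∧
    a ∉ MulAction.orbit (MulAction.stabilizer G a) c ∧
    Disjoint (MulAction.orbit (MulAction.stabilizer G a) b)
      (MulAction.orbit (MulAction.stabilizer G a) c) ∧
    ∀ y : Ω, y = a ∨ y ∈ MulAction.orbit (MulAction.stabilizer G a) b ∨
      y ∈ MulAction.orbit (MulAction.stabilizer G a) c := by
  have hSa : MulAction.orbit (MulAction.stabilizer G a) a = {a} := by
    ext y
    constructor
    · rintro ⟨s, rfl⟩
      exact s.2
    · rintro rfl
      exact MulAction.mem_orbit_self _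
  have ha_b : a ∉ MulAction.orbit (MulAction.stabilizer G a) b := by
    intro h
    have h1 := MulAction.orbit_eq_iff.mpr h
    rw [← h1, hSa, Set.ncard_singleton] at hb
    omega
  have ha_c : a ∉ MulAction.orbit (MulAction.stabilizer G a) c := by
    intro h
    have h1 := MulAction.orbit_eq_iff.mpr h
    rw [← h1, hSa, Set.ncard_singleton] at hc
    omega
  have hdisj : Disjoint (MulAction.orbit (MulAction.stabilizer G a) b)
      (MulAction.orbit (MulAction.stabilizer G a) c) := by
    rcases MulAction.orbit.eq_or_disjoint (G := MulAction.stabilizer G a) b c with h | h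
    · rw [h, hc] at hb
      omega
    · exact h
  refine ⟨ha_b, ha_c, hdisj, ?_⟩
  by_contra hcon
  push_neg at hcon
  obtain ⟨y, h1, h2, h3⟩ := hcon
  have hU : (MulAction.orbit (MulAction.stabilizer G a) b ∪
      MulAction.orbit (MulAction.stabilizer G a) c).ncard = 99 := by
    rw [Set.ncard_union_eq hdisj, hb, hc]
  have h4 : (insert a (MulAction.orbit (MulAction.stabilizer G a) b ∪
      MulAction.orbit (MulAction.stabilizer G a) c)).ncard = 100 := by
    rw [Set.ncard_insert_of_notMem (by simp [ha_b, ha_c]), hU]
  have h5 : (insert y (insert a (MulAction.orbit (MulAction.stabilizer G a) b ∪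
      MulAction.orbit (MulAction.stabilizer G a) c))).ncard = 101 := by
    rw [Set.ncard_insert_of_notMem (by simp [h1, h2, h3]), h4]
  have h6 := Set.ncard_le_ncard (Set.subset_univ (insert y (insert a
    (MulAction.orbit (MulAction.stabilizer G a) b ∪
      MulAction.orbit (MulAction.stabilizer G a) c))))
  rw [h5, Set.ncard_univ, Nat.card_eq_fintype_card, hΩ] at h6
  omega

end Cfsg.Agent.Lib.Helper9.HSR
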