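import Cfsg.Agent.Lib.Helper9.HSRDefs
import Cfsg.Agent.Lib.Helper9.HSRPart

/-!
# HSR piece SYMM (row S1666)

The orbital of `(a, b)` is self-paired: `orbRel G a b x y → orbRel G a b y x`, where
`orbRel G a b x y := ∃ g ∈ G, g a = x ∧ g b = y`.

Proof.  All out-degrees of the orbital relation are 22, all in-degrees equal the size of
`P := {x | orbRel G a b x a}`; double counting gives `P.ncard = 22`.  `P` is invariant under the
stabiliser of `a` and does not contain `a`; if it met the suborbit of size 77 it would contain it.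
So `P` is the suborbit of `b`, hence `orbRel G a b b a`.
-/

set_option autoImplicit false

namespace Cfsg.Agent.Lib.Helper9.HSR

theorem orbRel_symm {Ω : Type*} [Fintype Ω] [DecidableEq Ω] (hΩ : Fintype.card Ω = 100)
    (G : Subgroup (Equiv.Perm Ω)) [MulAction.IsPretransitive G Ω] (a b c : Ω)
    (hb : (MulAction.orbit (MulAction.stabilizer G a) b).ncard = 22)
    (hc : (MulAction.orbit (MulAction.stabilizer G a) c).ncard = 77) (x y : Ω)
    (h : orbRel G a b x y) : orbRel G a b y x := by
  classical
  obtain ⟨ha_b, ha_c, hdisj, hcover⟩ := suborbit_partition hΩ G a b c hb hc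
  have hA : ∀ y, orbRel G a b a y ↔ y ∈ MulAction.orbit (MulAction.stabilizer G a) b := by
    intro y
    constructor
    · rintro ⟨g, hg, hga, hgb⟩
      exact ⟨⟨⟨g, hg⟩, hga⟩, hgb⟩
    · rintro ⟨s, rfl⟩
      exact ⟨s.1.1, s.1.2, s.2, rfl⟩
  have hinv : ∀ g ∈ G, ∀ x y, orbRel G a b x y → orbRel G a b (g x) (g y) := by
    rintro g hg x y ⟨k, hk, rfl, rfl⟩
    exact ⟨g * k, G.mul_mem hg hk, rfl, rfl⟩
  have hinv' : ∀ g ∈ G, ∀ x y, orbRel G a b (g x) (g y) → orbRel G a b x y := by
    intro g hg x y h
    have h1 := hinv g⁻¹ (G.inv_mem hg) _ _ h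
    simpa using h1
  have hout : ∀ x, {y | orbRel G a b x y}.ncard = 22 := by
    intro x
    obtain ⟨g0, rfl⟩ := MulAction.exists_smul_eq G a x
    have h1 : {y | orbRel G a b (g0 • a) y} =
        (fun z => g0.1 z) '' (MulAction.orbit (MulAction.stabilizer G a) b) := by
      ext y
      constructor
      · intro hy
        refine ⟨g0.1⁻¹ y, (hA _).mp ?_, by simp⟩
        have hy' : orbRel G a b (g0.1 a) (g0.1 (g0.1⁻¹ y)) := by
          have e : g0.1 (g0.1⁻¹ y) = y := by simp
          rw [e]
          exact hy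
        exact hinv' g0.1 g0.2 a (g0.1⁻¹ y) hy'
      · rintro ⟨z, hz, rfl⟩
        exact hinv g0.1 g0.2 a z ((hA z).mpr hz)
    rw [h1, Set.ncard_image_of_injective _ g0.1.injective, hb]
  have hin : ∀ y, {x | orbRel G a b x y}.ncard = {x | orbRel G a b x a}.ncard := by
    intro y
    obtain ⟨g0, rfl⟩ := MulAction.exists_smul_eq G a y
    have h1 : {x | orbRel G a b x (g0 • a)} = (fun z => g0.1 z) '' {x | orbRel G a b x a} := by
      ext x
      constructor
      · intro hx
        refine ⟨g0.1⁻¹ x, ?_, by simp⟩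
        have hx' : orbRel G a b (g0.1 (g0.1⁻¹ x)) (g0.1 a) := by
          have e : g0.1 (g0.1⁻¹ x) = x := by simp
          rw [e]
          exact hx
        exact hinv' g0.1 g0.2 (g0.1⁻¹ x) a hx'
      · rintro ⟨z, hz, rfl⟩
        exact hinv g0.1 g0.2 z a hz
    rw [h1, Set.ncard_image_of_injective _ g0.1.injective]
  have hcount : 100 * 22 = 100 * {x | orbRel G a b x a}.ncard := by
    have h1 := Finset.sum_card_bipartiteAbove_eq_sum_card_bipartiteBelow
      (s := (Finset.univ : Finset Ω)) (t := (Finset.univ : Finset Ω)) (r := orbRel G a b)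
    have h2 : ∀ x, (Finset.bipartiteAbove (orbRel G a b) Finset.univ x).card = 22 := by
      intro x
      rw [← hout x, Set.ncard_eq_toFinset_card']
      congr 1
      ext y
      simp [Finset.bipartiteAbove]
    have h3 : ∀ y, (Finset.bipartiteBelow (orbRel G a b) Finset.univ y).card =
        {x | orbRel G a b x a}.ncard := by
      intro y
      rw [← hin y, Set.ncard_eq_toFinset_card']
      congr 1
      ext x
      simp [Finset.bipartiteBelow]
    simp only [h2, h3, Finset.sum_const, Finset.card_univ, hΩ, smul_eq_mul] at h1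
    exact h1
  have hPcard : {x | orbRel G a b x a}.ncard = 22 := by omega
  have hPsub : {x | orbRel G a b x a} ⊆ MulAction.orbit (MulAction.stabilizer G a) b := by
    intro x hx
    rcases hcover x with hxa | hxb | hxc
    · subst hxa
      exact absurd ((hA _).mp hx) ha_b
    · exact hxb
    · exfalso
      have hsub : MulAction.orbit (MulAction.stabilizer G a) c ⊆ {x | orbRel G a b x a} := by
        intro z hz
        rw [← MulAction.orbit_eq_iff.mpr hxc] at hz
        obtain ⟨s, rfl⟩ := hz
        have h1 := hinv s.1.1 s.1.2 x a hx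
        rw [show s.1.1 a = a from s.2] at h1
        exact h1
      have h2 := Set.ncard_le_ncard hsub (Set.toFinite _)
      rw [hc, hPcard] at h2
      omega
  have hPeq : {x | orbRel G a b x a} = MulAction.orbit (MulAction.stabilizer G a) b :=
    Set.eq_of_subset_of_ncard_le hPsub (by rw [hb, hPcard]) (Set.toFinite _)
  have hba : orbRel G a b b a := by
    have h1 : b ∈ {x | orbRel G a b x a} := by
      rw [hPeq]
      exact MulAction.mem_orbit_self b
    exact h1
  obtain ⟨g, hg, rfl, rfl⟩ := h
  obtain ⟨k, hk, hka, hkb⟩ := hba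
  exact ⟨g * k, G.mul_mem hg hk, by simp [hka], by simp [hkb]⟩

end Cfsg.Agent.Lib.Helper9.HSR
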