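import Mathlib
import Cfsg.Prelude.Def_Sporadic_a
import Cfsg.Agent.Lib.Helper9.HSGraph

set_option autoImplicit false

namespace Cfsg.Agent.Lib.Helper9.HS

open Cfsg

/-! ### A strongly regular graph with parameters `(100, 22, 0, 6)` is the point-block graph
of a Steiner system `S(3, 6, 22)` -/

section SRG

variable {V : Type*} [Fintype V] [DecidableEq V]

/-- The hypotheses `SRG(100,22,0,6)` in terms of neighbour finsets. -/
structure IsHSG (G : SimpleGraph V) [DecidableRel G.Adj] : Prop where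
  card : Fintype.card V = 100
  deg : ∀ v, (G.neighborFinset v).card = 22
  adj : ∀ v w, G.Adj v w → G.neighborFinset v ∩ G.neighborFinset w = ∅
  nadj : ∀ v w, v ≠ w → ¬ G.Adj v w → (G.neighborFinset v ∩ G.neighborFinset w).card = 6

variable {G : SimpleGraph V} [DecidableRel G.Adj]

theorem card_common (G : SimpleGraph V) [DecidableRel G.Adj] (v w : V)
    [Fintype (G.commonNeighbors v w)] :
    Fintype.card (G.commonNeighbors v w) =
      (G.neighborFinset v ∩ G.neighborFinset w).card := by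
  rw [← Set.toFinset_card]
  congr 1
  ext x
  simp [SimpleGraph.mem_commonNeighbors]

theorem isHSG_of_srg (h : G.IsSRGWith 100 22 0 6) : IsHSG G where
  card := h.card
  deg := fun v => h.regular v
  adj := fun v w hvw => by
    have h1 := h.of_adj v w hvw
    rw [card_common] at h1
    exact Finset.card_eq_zero.mp h1
  nadj := fun v w hne hvw => by
    have h1 := h.of_not_adj hne hvw
    rwa [card_common] at h1

theorem IsHSG.no_tri (h : IsHSG G) {a b c : V} (hab : G.Adj a b) (hac : G.Adj a c) :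
    ¬ G.Adj b c := by
  intro hbc
  have h1 := h.adj b c hbc
  have ha : a ∈ G.neighborFinset b ∩ G.neighborFinset c := by
    rw [Finset.mem_inter, SimpleGraph.mem_neighborFinset, SimpleGraph.mem_neighborFinset]
    exact ⟨hab.symm, hac.symm⟩
  rw [h1] at ha
  exact absurd ha (Finset.notMem_empty a)

theorem IsHSG.card_beta (h : IsHSG G) {v0 c : V} (hc0 : c ≠ v0) (hc : ¬ G.Adj v0 c) :
    (G.neighborFinset c ∩ G.neighborFinset v0).card = 6 :=
  h.nadj c v0 hc0 (fun h' => hc h'.symm)

/-- The key counting lemma: two distinct non-adjacent vertices outside `v0` and its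
neighbourhood have exactly two common neighbours among the neighbours of `v0`. -/
theorem IsHSG.card_inter_three (h : IsHSG G) {v0 c c' : V} (hc0 : c ≠ v0)
    (hc : ¬ G.Adj v0 c) (hc'0 : c' ≠ v0) (hc' : ¬ G.Adj v0 c') (hne : c' ≠ c)
    (hcc : ¬ G.Adj c c') :
    (G.neighborFinset c' ∩ (G.neighborFinset c ∩ G.neighborFinset v0)).card = 2 := by
  set D := G.neighborFinset c ∩ G.neighborFinset v0 with hDdef
  have hD : D.card = 6 := h.card_beta hc0 hc
  have hDc : D ⊆ G.neighborFinset c := Finset.inter_subset_left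
  have hD0 : D ⊆ G.neighborFinset v0 := Finset.inter_subset_right
  set x : V → ℕ := fun u => (G.neighborFinset u ∩ D).card with hxdef
  -- first moment
  have hx : ∀ u, x u = ∑ p ∈ D, if G.Adj u p then 1 else 0 := by
    intro u
    rw [← Finset.card_filter]
    show (G.neighborFinset u ∩ D).card = _
    congr 1
    ext p
    simp only [Finset.mem_inter, SimpleGraph.mem_neighborFinset, Finset.mem_filter]
    tauto
  have hS1 : ∑ u, x u = 132 := by
    simp_rw [hx]
    rw [Finset.sum_comm]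
    have h1 : ∀ p ∈ D, (∑ u : V, if G.Adj u p then 1 else 0) = 22 := by
      intro p _
      rw [← Finset.card_filter, ← h.deg p]
      congr 1
      ext u
      simp [SimpleGraph.adj_comm]
    rw [Finset.sum_congr rfl h1, Finset.sum_const, hD, smul_eq_mul]
  -- second moment
  have hy : ∀ u, x u * x u - x u =
      ∑ pq ∈ D.offDiag, if G.Adj u pq.1 ∧ G.Adj u pq.2 then 1 else 0 := by
    intro u
    rw [← Finset.card_filter]
    show (G.neighborFinset u ∩ D).card * (G.neighborFinset u ∩ D).card -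
      (G.neighborFinset u ∩ D).card = _
    rw [← Finset.offDiag_card]
    congr 1
    ext ⟨p, q⟩
    simp only [Finset.mem_offDiag, Finset.mem_inter, SimpleGraph.mem_neighborFinset,
      Finset.mem_filter]
    tauto
  have hS2 : ∑ u, (x u * x u - x u) = 180 := by
    simp_rw [hy]
    rw [Finset.sum_comm]
    have h1 : ∀ pq ∈ D.offDiag,
        (∑ u : V, if G.Adj u pq.1 ∧ G.Adj u pq.2 then 1 else 0) = 6 := by
      rintro ⟨p, q⟩ hpq
      rw [Finset.mem_offDiag] at hpq
      obtain ⟨hp, hq, hpq⟩ := hpq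
      have hp0 : G.Adj v0 p := (G.mem_neighborFinset _ _).mp (hD0 hp)
      have hq0 : G.Adj v0 q := (G.mem_neighborFinset _ _).mp (hD0 hq)
      rw [← Finset.card_filter, ← h.nadj p q hpq (h.no_tri hp0 hq0)]
      congr 1
      ext u
      simp [SimpleGraph.adj_comm]
    rw [Finset.sum_congr rfl h1, Finset.sum_const, Finset.offDiag_card, hD, smul_eq_mul]
  -- the quadratic form
  set f : V → ℤ := fun u => ((x u : ℤ) - 2) ^ 2 with hfdef
  have hf : ∀ u, f u = ((x u * x u - x u : ℕ) : ℤ) - 3 * (x u : ℤ) + 4 := by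
    intro u
    rw [hfdef, Nat.cast_sub (Nat.le_mul_self _)]
    push_cast
    ring
  have hSf : ∑ u, f u = 184 := by
    simp_rw [hf]
    rw [Finset.sum_add_distrib, Finset.sum_sub_distrib, ← Nat.cast_sum, ← Finset.mul_sum,
      ← Nat.cast_sum, hS1, hS2, Finset.sum_const, Finset.card_univ, h.card]
    norm_num
  -- the known part
  have hv0c : v0 ∉ G.neighborFinset c := by
    rw [SimpleGraph.mem_neighborFinset]; exact fun h' => hc h'.symm
  have hv0 : v0 ∉ insert c (G.neighborFinset v0 ∪ G.neighborFinset c) := by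
    rw [Finset.mem_insert, Finset.mem_union, SimpleGraph.mem_neighborFinset]
    rintro (h1 | h1 | h1)
    · exact hc0 h1.symm
    · exact G.irrefl h1
    · exact hv0c h1
  have hcn : c ∉ G.neighborFinset v0 ∪ G.neighborFinset c := by
    rw [Finset.mem_union, SimpleGraph.mem_neighborFinset, SimpleGraph.mem_neighborFinset]
    rintro (h1 | h1)
    · exact hc h1
    · exact G.irrefl h1
  have hxv0 : x v0 = 6 := by
    rw [hxdef]
    show (G.neighborFinset v0 ∩ D).card = 6
    rw [Finset.inter_eq_right.mpr hD0, hD]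
  have hxc : x c = 6 := by
    rw [hxdef]
    show (G.neighborFinset c ∩ D).card = 6
    rw [Finset.inter_eq_right.mpr hDc, hD]
  have hx0 : ∀ u ∈ G.neighborFinset v0 ∪ G.neighborFinset c, x u = 0 := by
    intro u hu
    rw [hxdef]
    show (G.neighborFinset u ∩ D).card = 0
    rw [Finset.card_eq_zero, ← Finset.subset_empty]
    rw [Finset.mem_union, SimpleGraph.mem_neighborFinset, SimpleGraph.mem_neighborFinset] at hu
    rcases hu with hu | hu
    · rw [← h.adj v0 u hu]
      exact fun y hy => Finset.mem_inter.mpr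
        ⟨hD0 (Finset.mem_inter.mp hy).2, (Finset.mem_inter.mp hy).1⟩
    · rw [← h.adj c u hu]
      exact fun y hy => Finset.mem_inter.mpr
        ⟨hDc (Finset.mem_inter.mp hy).2, (Finset.mem_inter.mp hy).1⟩
  have hcu : (G.neighborFinset v0 ∪ G.neighborFinset c).card = 38 := by
    have h1 := Finset.card_union_add_card_inter (G.neighborFinset v0) (G.neighborFinset c)
    rw [Finset.inter_comm, hD, h.deg, h.deg] at h1
    omega
  set T := insert v0 (insert c (G.neighborFinset v0 ∪ G.neighborFinset c)) with hTdef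
  have hST : ∑ u ∈ T, f u = 184 := by
    rw [hTdef, Finset.sum_insert hv0, Finset.sum_insert hcn]
    have h1 : ∀ u ∈ G.neighborFinset v0 ∪ G.neighborFinset c, f u = 4 := by
      intro u hu
      rw [hfdef]
      show ((x u : ℤ) - 2) ^ 2 = 4
      rw [hx0 u hu]
      norm_num
    rw [Finset.sum_congr rfl h1, Finset.sum_const, hcu, hfdef]
    show ((x v0 : ℤ) - 2) ^ 2 + (((x c : ℤ) - 2) ^ 2 + 38 • (4 : ℤ)) = 184
    rw [hxv0, hxc]
    norm_num
  have hcompl : ∑ u ∈ Tᶜ, f u = 0 := by
    have h1 := Finset.sum_add_sum_compl T f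
    rw [hST, hSf] at h1
    omega
  have hzero := (Finset.sum_eq_zero_iff_of_nonneg (fun u _ => by
    rw [hfdef]; exact sq_nonneg _)).mp hcompl
  have hc'T : c' ∈ Tᶜ := by
    rw [Finset.mem_compl, hTdef, Finset.mem_insert, Finset.mem_insert, Finset.mem_union,
      SimpleGraph.mem_neighborFinset, SimpleGraph.mem_neighborFinset]
    rintro (h1 | h1 | h1 | h1)
    · exact hc'0 h1
    · exact hne h1
    · exact hc' h1
    · exact hcc h1
  have h2 := hzero c' hc'T
  rw [hfdef] at h2
  have h3 : ((x c' : ℤ) - 2) ^ 2 = 0 := h2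
  have h4 : (x c' : ℤ) - 2 = 0 := pow_eq_zero_iff (by norm_num) |>.mp h3
  have h5 : x c' = 2 := by omega
  exact h5

theorem IsHSG.block_unique (h : IsHSG G) {v0 c c' : V} (hc0 : c ≠ v0) (hc : ¬ G.Adj v0 c)
    (hc'0 : c' ≠ v0) (hc' : ¬ G.Adj v0 c') {T : Finset V} (hT : T.card = 3)
    (hTc : T ⊆ G.neighborFinset c ∩ G.neighborFinset v0)
    (hTc' : T ⊆ G.neighborFinset c' ∩ G.neighborFinset v0) : c = c' := by
  by_contra hne
  by_cases hadj : G.Adj c c'
  · have h1 := h.adj c c' hadj
    have h2 : T ⊆ G.neighborFinset c ∩ G.neighborFinset c' := fun y hy =>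
      Finset.mem_inter.mpr ⟨(Finset.mem_inter.mp (hTc hy)).1, (Finset.mem_inter.mp (hTc' hy)).1⟩
    rw [h1, Finset.subset_empty] at h2
    rw [h2] at hT
    simp at hT
  · have h1 := h.card_inter_three hc0 hc hc'0 hc' (Ne.symm hne) hadj
    have h2 : T ⊆ G.neighborFinset c' ∩ (G.neighborFinset c ∩ G.neighborFinset v0) :=
      fun y hy => Finset.mem_inter.mpr ⟨(Finset.mem_inter.mp (hTc' hy)).1, hTc hy⟩
    have h3 := Finset.card_le_card h2
    omega

theorem IsHSG.card_Q (h : IsHSG G) (v0 : V) :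
    ((insert v0 (G.neighborFinset v0))ᶜ : Finset V).card = 77 := by
  rw [Finset.card_compl, h.card, Finset.card_insert_of_notMem (by simp), h.deg]

theorem mem_Q {v0 c : V} :
    c ∈ ((insert v0 (G.neighborFinset v0))ᶜ : Finset V) ↔ c ≠ v0 ∧ ¬ G.Adj v0 c := by
  rw [Finset.mem_compl, Finset.mem_insert, SimpleGraph.mem_neighborFinset]
  tauto

theorem IsHSG.block_exists (h : IsHSG G) {v0 : V} {T : Finset V} (hT : T.card = 3)
    (hTP : T ⊆ G.neighborFinset v0) : ∃ c, c ≠ v0 ∧ ¬ G.Adj v0 c ∧ T ⊆ G.neighborFinset c := by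
  set Q : Finset V := (insert v0 (G.neighborFinset v0))ᶜ with hQ
  have hcard : (Q.biUnion (fun c => Finset.powersetCard 3
      (G.neighborFinset c ∩ G.neighborFinset v0))).card = 1540 := by
    rw [Finset.card_biUnion]
    · have h1 : ∀ c ∈ Q, (Finset.powersetCard 3
          (G.neighborFinset c ∩ G.neighborFinset v0)).card = 20 := by
        intro c hcQ
        obtain ⟨hc0, hc⟩ := mem_Q.mp hcQ
        rw [Finset.card_powersetCard, h.card_beta hc0 hc]
        decide
      rw [Finset.sum_congr rfl h1, Finset.sum_const, h.card_Q v0, smul_eq_mul]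
    · intro c hcQ c' hc'Q hne
      obtain ⟨hc0, hc⟩ := mem_Q.mp hcQ
      obtain ⟨hc'0, hc'⟩ := mem_Q.mp hc'Q
      show Disjoint _ _
      rw [Finset.disjoint_left]
      intro S hS hS'
      rw [Finset.mem_powersetCard] at hS hS'
      exact hne (h.block_unique hc0 hc hc'0 hc' hS.2 hS.1 hS'.1)
  have hsub : Q.biUnion (fun c => Finset.powersetCard 3
      (G.neighborFinset c ∩ G.neighborFinset v0)) ⊆
      Finset.powersetCard 3 (G.neighborFinset v0) := by
    intro S hS
    rw [Finset.mem_biUnion] at hS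
    obtain ⟨c, -, hS⟩ := hS
    rw [Finset.mem_powersetCard] at hS ⊢
    exact ⟨hS.1.trans Finset.inter_subset_right, hS.2⟩
  have heq := Finset.eq_of_subset_of_card_le hsub (by
    rw [hcard, Finset.card_powersetCard, h.deg]
    decide)
  have hTm : T ∈ Finset.powersetCard 3 (G.neighborFinset v0) :=
    Finset.mem_powersetCard.mpr ⟨hTP, hT⟩
  rw [← heq, Finset.mem_biUnion] at hTm
  obtain ⟨c, hcQ, hTc⟩ := hTm
  obtain ⟨hc0, hc⟩ := mem_Q.mp hcQ
  exact ⟨c, hc0, hc, (Finset.mem_powersetCard.mp hTc).1.trans Finset.inter_subset_left⟩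

/-! #### The Steiner system on the neighbours of a vertex -/

/-- The points: the neighbours of `v0`. -/
abbrev Pt (G : SimpleGraph V) [DecidableRel G.Adj] (v0 : V) : Type _ :=
  {v : V // v ∈ G.neighborFinset v0}

/-- The block of a vertex: its neighbours among the points. -/
def beta (G : SimpleGraph V) [DecidableRel G.Adj] (v0 c : V) : Finset (Pt G v0) :=
  (G.neighborFinset c).subtype (· ∈ G.neighborFinset v0)

theorem mem_beta {v0 c : V} {p : Pt G v0} : p ∈ beta G v0 c ↔ G.Adj c p.1 := by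
  simp [beta]

/-- The blocks. -/
def blocks (G : SimpleGraph V) [DecidableRel G.Adj] (v0 : V) : Set (Finset (Pt G v0)) :=
  {b | ∃ c, c ≠ v0 ∧ ¬ G.Adj v0 c ∧ b = beta G v0 c}

theorem IsHSG.card_beta' (h : IsHSG G) {v0 c : V} (hc0 : c ≠ v0) (hc : ¬ G.Adj v0 c) :
    (beta G v0 c).card = 6 := by
  rw [beta, Finset.card_subtype, Finset.filter_mem_eq_inter]
  exact h.card_beta hc0 hc

theorem map_subset_iff {v0 : V} (T : Finset (Pt G v0)) (c : V) :
    T.map (Function.Embedding.subtype _) ⊆ G.neighborFinset c ∩ G.neighborFinset v0 ↔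
      T ⊆ beta G v0 c := by
  constructor
  · intro hsub p hp
    rw [mem_beta]
    have h1 : p.1 ∈ G.neighborFinset c ∩ G.neighborFinset v0 :=
      hsub (Finset.mem_map_of_mem (Function.Embedding.subtype _) hp)
    exact (G.mem_neighborFinset _ _).mp (Finset.mem_inter.mp h1).1
  · intro hsub y hy
    rw [Finset.mem_map] at hy
    obtain ⟨p, hp, rfl⟩ := hy
    rw [Finset.mem_inter]
    exact ⟨(G.mem_neighborFinset _ _).mpr (mem_beta.mp (hsub hp)), p.2⟩

theorem IsHSG.blocks_steiner (h : IsHSG G) (v0 : V) : IsSteinerSystem 3 6 (blocks G v0) := by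
  refine ⟨?_, ?_⟩
  · rintro _ ⟨c, hc0, hc, rfl⟩
    exact h.card_beta' hc0 hc
  · intro T hT
    have hT' : (T.map (Function.Embedding.subtype _)).card = 3 := by rw [Finset.card_map, hT]
    have hTP : T.map (Function.Embedding.subtype _) ⊆ G.neighborFinset v0 := by
      intro y hy
      obtain ⟨p, -, rfl⟩ := Finset.mem_map.mp hy
      exact p.2
    obtain ⟨c, hc0, hc, hTc⟩ := h.block_exists hT' hTP
    refine ⟨beta G v0 c, ⟨⟨c, hc0, hc, rfl⟩,
      (map_subset_iff T c).mp (Finset.subset_inter hTc hTP)⟩, ?_⟩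
    rintro _ ⟨⟨c', hc'0, hc', rfl⟩, hsub⟩
    have h1 := h.block_unique hc'0 hc' hc0 hc hT' ((map_subset_iff T c').mpr hsub)
      (Finset.subset_inter hTc hTP)
    rw [h1]

theorem IsHSG.beta_injective (h : IsHSG G) {v0 c c' : V} (hc0 : c ≠ v0) (hc : ¬ G.Adj v0 c)
    (hc'0 : c' ≠ v0) (hc' : ¬ G.Adj v0 c') (hb : beta G v0 c = beta G v0 c') : c = c' := by
  obtain ⟨T, hTs, hT⟩ := Finset.exists_subset_card_eq
    (show 3 ≤ (beta G v0 c).card by rw [h.card_beta' hc0 hc]; norm_num)
  have hT' : (T.map (Function.Embedding.subtype _)).card = 3 := by rw [Finset.card_map, hT]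
  exact h.block_unique hc0 hc hc'0 hc' hT' ((map_subset_iff T c).mpr hTs)
    ((map_subset_iff T c').mpr (hb ▸ hTs))

/-! #### The isomorphism with the point-block graph -/

/-- The vertex map. -/
def vmap (G : SimpleGraph V) [DecidableRel G.Adj] (v0 : V) (v : V) :
    Option (Pt G v0 ⊕ ↥(blocks G v0)) :=
  if h0 : v = v0 then none
  else if hP : v ∈ G.neighborFinset v0 then some (Sum.inl ⟨v, hP⟩)
  else some (Sum.inr ⟨beta G v0 v,
    ⟨v, h0, fun hadj => hP ((G.mem_neighborFinset _ _).mpr hadj), rfl⟩⟩)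

theorem vmap_v0 (v0 : V) : vmap G v0 v0 = none := dif_pos rfl

theorem vmap_pt {v0 v : V} (hP : v ∈ G.neighborFinset v0) :
    vmap G v0 v = some (Sum.inl ⟨v, hP⟩) := by
  have h0 : v ≠ v0 := by
    rintro rfl
    exact G.irrefl ((G.mem_neighborFinset _ _).mp hP)
  rw [vmap, dif_neg h0, dif_pos hP]

theorem vmap_bl {v0 v : V} (h0 : v ≠ v0) (hP : ¬ G.Adj v0 v) :
    vmap G v0 v = some (Sum.inr ⟨beta G v0 v, ⟨v, h0, hP, rfl⟩⟩) := by
  have hP' : v ∉ G.neighborFinset v0 := fun h' => hP ((G.mem_neighborFinset _ _).mp h')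
  rw [vmap, dif_neg h0, dif_neg hP']

theorem vmap_cases (v0 v : V) : (v = v0 ∧ vmap G v0 v = none) ∨
    (∃ hP : v ∈ G.neighborFinset v0, vmap G v0 v = some (Sum.inl ⟨v, hP⟩)) ∨
    (∃ h0 : v ≠ v0, ∃ hP : ¬ G.Adj v0 v,
      vmap G v0 v = some (Sum.inr ⟨beta G v0 v, ⟨v, h0, hP, rfl⟩⟩)) := by
  by_cases h0 : v = v0
  · subst h0
    exact Or.inl ⟨rfl, vmap_v0 v⟩
  · by_cases hP : G.Adj v0 v
    · exact Or.inr (Or.inl ⟨(G.mem_neighborFinset _ _).mpr hP, vmap_pt _⟩)
    · exact Or.inr (Or.inr ⟨h0, hP, vmap_bl h0 hP⟩)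

theorem IsHSG.vmap_bijective (h : IsHSG G) (v0 : V) : Function.Bijective (vmap G v0) := by
  constructor
  · intro v w hvw
    rcases vmap_cases (G := G) v0 v with ⟨hv, e1⟩ | ⟨hv, e1⟩ | ⟨hv0, hv, e1⟩ <;>
    rcases vmap_cases (G := G) v0 w with ⟨hw, e2⟩ | ⟨hw, e2⟩ | ⟨hw0, hw, e2⟩ <;>
    rw [e1, e2] at hvw
    · rw [hv, hw]
    · exact absurd hvw (by simp)
    · exact absurd hvw (by simp)
    · exact absurd hvw (by simp)
    · simpa using hvw
    · exact absurd hvw (by simp)
    · exact absurd hvw (by simp)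
    · exact absurd hvw (by simp)
    · have h1 : beta G v0 v = beta G v0 w :=
        congrArg Subtype.val (Sum.inr.inj (Option.some.inj hvw))
      exact h.beta_injective hv0 hv hw0 hw h1
  · rintro (_ | p | ⟨_, c, hc0, hc, rfl⟩)
    · exact ⟨v0, vmap_v0 v0⟩
    · exact ⟨p.1, vmap_pt p.2⟩
    · exact ⟨c, vmap_bl hc0 hc⟩

theorem IsHSG.vmap_adj (h : IsHSG G) (v0 v w : V) :
    (pointBlockGraph (blocks G v0)).Adj (vmap G v0 v) (vmap G v0 w) ↔ G.Adj v w := by
  rcases vmap_cases (G := G) v0 v with ⟨hv, e1⟩ | ⟨hv, e1⟩ | ⟨hv0, hv, e1⟩ <;>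
  rcases vmap_cases (G := G) v0 w with ⟨hw, e2⟩ | ⟨hw, e2⟩ | ⟨hw0, hw, e2⟩ <;>
  rw [e1, e2]
  · rw [hv, hw]
    exact iff_of_false (SimpleGraph.irrefl _) (G.irrefl)
  · rw [hv]
    exact iff_of_true (adj_none_inl _) ((G.mem_neighborFinset _ _).mp hw)
  · rw [hv]
    exact iff_of_false (not_adj_none_inr _) hw
  · rw [hw]
    exact iff_of_true (adj_none_inl _).symm ((G.mem_neighborFinset _ _).mp hv).symm
  · exact iff_of_false (not_adj_inl_inl _ _)
      (h.no_tri ((G.mem_neighborFinset _ _).mp hv) ((G.mem_neighborFinset _ _).mp hw))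
  · exact ((adj_inl_inr _ _).trans mem_beta).trans (G.adj_comm _ _)
  · rw [hw]
    exact iff_of_false (fun h' => not_adj_none_inr _ h'.symm) (fun h' => hv h'.symm)
  · exact ((pointBlockGraph (blocks G v0)).adj_comm _ _).trans
      ((adj_inl_inr _ _).trans mem_beta)
  · rw [adj_inr_inr]
    constructor
    · rintro ⟨hne, hdisj⟩
      by_contra hadj
      have hvw : w ≠ v := by
        rintro rfl
        exact hne rfl
      have h1 := h.card_inter_three hv0 hv hw0 hw hvw hadj
      have h2 : (G.neighborFinset w ∩ (G.neighborFinset v ∩ G.neighborFinset v0)).Nonempty := by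
        rw [← Finset.card_pos, h1]; norm_num
      obtain ⟨y, hy⟩ := h2
      rw [Finset.mem_inter, Finset.mem_inter] at hy
      have hyv : (⟨y, hy.2.2⟩ : Pt G v0) ∈ beta G v0 v :=
        mem_beta.mpr ((G.mem_neighborFinset _ _).mp hy.2.1)
      have hyw : (⟨y, hy.2.2⟩ : Pt G v0) ∈ beta G v0 w :=
        mem_beta.mpr ((G.mem_neighborFinset _ _).mp hy.1)
      exact Finset.disjoint_left.mp hdisj hyv hyw
    · intro hadj
      have h1 := h.adj v w hadj
      have hdisj : Disjoint (beta G v0 v) (beta G v0 w) := by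
        rw [Finset.disjoint_left]
        intro p hp hp'
        have h2 : p.1 ∈ G.neighborFinset v ∩ G.neighborFinset w := by
          rw [Finset.mem_inter, SimpleGraph.mem_neighborFinset, SimpleGraph.mem_neighborFinset]
          exact ⟨mem_beta.mp hp, mem_beta.mp hp'⟩
        rw [h1] at h2
        exact absurd h2 (Finset.notMem_empty _)
      refine ⟨?_, hdisj⟩
      intro heq
      have h2 : beta G v0 v = beta G v0 w := congrArg Subtype.val heq
      have h3 : v = w := h.beta_injective hv0 hv hw0 hw h2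
      rw [h3] at hadj
      exact G.irrefl hadj

/-- A strongly regular graph with parameters `(100,22,0,6)` is the point-block graph of the
Steiner system on the neighbours of any of its vertices. -/
theorem IsHSG.exists_iso (h : IsHSG G) (v0 : V) :
    Nonempty (G ≃g pointBlockGraph (blocks G v0)) :=
  ⟨{ toEquiv := Equiv.ofBijective (vmap G v0) (h.vmap_bijective v0)
     map_rel_iff' := fun {v w} => h.vmap_adj v0 v w }⟩

end SRG

end Cfsg.Agent.Lib.Helper9.HS
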