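import Mathlib
import Cfsg.Prelude.Def_Sporadic_a
import Cfsg.Agent.Lib.Helper9.HSSrg
import Cfsg.Agent.Lib.Helper9.HSAut

set_option autoImplicit false

namespace Cfsg.Agent.Lib.Helper9.HS

open Cfsg

/-- Every strongly regular graph with parameters `(100, 22, 0, 6)` is isomorphic to the
concrete graph `Γc`. -/
theorem srg_iso_conc {V : Type*} [Fintype V] {G : SimpleGraph V} [DecidableRel G.Adj]
    (hG : G.IsSRGWith 100 22 0 6) : Nonempty (G ≃g Γc) := by
  classical
  have h := isHSG_of_srg hG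
  have hne : Nonempty V := Fintype.card_pos_iff.mp (by rw [h.card]; norm_num)
  obtain ⟨v0⟩ := hne
  obtain ⟨e1⟩ := h.exists_iso v0
  have hP : Fintype.card (Pt G v0) = 22 := by rw [Fintype.card_coe, h.deg]
  obtain ⟨ι, -⟩ := exists_iso_conc hP (h.blocks_steiner v0)
  exact ⟨e1.trans ι⟩

/-- Uniqueness of the strongly regular graph with parameters `(100, 22, 0, 6)`. -/
theorem srg_unique {V W : Type*} [Fintype V] [Fintype W] {G : SimpleGraph V}
    {H : SimpleGraph W} [DecidableRel G.Adj] [DecidableRel H.Adj]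
    (hG : G.IsSRGWith 100 22 0 6) (hH : H.IsSRGWith 100 22 0 6) : Nonempty (G ≃g H) := by
  obtain ⟨e1⟩ := srg_iso_conc hG
  obtain ⟨e2⟩ := srg_iso_conc hH
  exact ⟨e1.trans e2.symm⟩

end Cfsg.Agent.Lib.Helper9.HS
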