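import Mathlib
import Cfsg.Agent.Lib.Helper9.RuBase

set_option autoImplicit false

namespace Cfsg.Agent.Lib.Helper9.Ru


/-! ### Schreier certificates of the lower levels of the chain G -/

set_option maxRecDepth 1000000 in
theorem lvlG1a_0 : lvlChk 1755 (fun i => g13 orbG1P i) (fun y => g13 posG1P y) ev1 evQ1
    (fun i => g32 wdG1P i) (fun i => g64 cG1aP i) t4 0 878 = true := by
  decide +kernel

set_option maxRecDepth 1000000 in
theorem lvlG1a_1 : lvlChk 1755 (fun i => g13 orbG1P i) (fun y => g13 posG1P y) ev1 evQ1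
    (fun i => g32 wdG1P i) (fun i => g64 cG1aP i) t4 878 877 = true := by
  decide +kernel

theorem lvlG1a (i : ℕ) (hi : i < 1755) : lvlStep 1755 (fun y => g13 posG1P y) ev1 evQ1
    (fun i => g32 wdG1P i) (fun i => g64 cG1aP i) t4 (g13 t4 ((fun i => g13 orbG1P i) i)) i = true := by
  rcases Nat.lt_or_ge i 878 with h1 | h1
  · exact lvlChk_spec _ _ _ _ _ _ _ _ _ _ lvlG1a_0 i (Nat.zero_le _) (by omega)
  · exact lvlChk_spec _ _ _ _ _ _ _ _ _ _ lvlG1a_1 i h1 (by omega)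

set_option maxRecDepth 1000000 in
theorem lvlG1b_0 : lvlChk 1755 (fun i => g13 orbG1P i) (fun y => g13 posG1P y) ev1 evQ1
    (fun i => g32 wdG1P i) (fun i => g64 cG1bP i) t6 0 878 = true := by
  decide +kernel

set_option maxRecDepth 1000000 in
theorem lvlG1b_1 : lvlChk 1755 (fun i => g13 orbG1P i) (fun y => g13 posG1P y) ev1 evQ1
    (fun i => g32 wdG1P i) (fun i => g64 cG1bP i) t6 878 877 = true := by
  decide +kernel

theorem lvlG1b (i : ℕ) (hi : i < 1755) : lvlStep 1755 (fun y => g13 posG1P y) ev1 evQ1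
    (fun i => g32 wdG1P i) (fun i => g64 cG1bP i) t6 (g13 t6 ((fun i => g13 orbG1P i) i)) i = true := by
  rcases Nat.lt_or_ge i 878 with h1 | h1
  · exact lvlChk_spec _ _ _ _ _ _ _ _ _ _ lvlG1b_0 i (Nat.zero_le _) (by omega)
  · exact lvlChk_spec _ _ _ _ _ _ _ _ _ _ lvlG1b_1 i h1 (by omega)

set_option maxRecDepth 1000000 in
theorem lvlG2a_0 : lvlChk 1280 (fun i => g13 orbG2P i) (fun y => g13 posG2P y) ev2 ev3
    (fun i => g32 wdG2P i) (fun i => g32 cG2aP i) t8 0 640 = true := by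
  decide +kernel

set_option maxRecDepth 1000000 in
theorem lvlG2a_1 : lvlChk 1280 (fun i => g13 orbG2P i) (fun y => g13 posG2P y) ev2 ev3
    (fun i => g32 wdG2P i) (fun i => g32 cG2aP i) t8 640 640 = true := by
  decide +kernel

theorem lvlG2a (i : ℕ) (hi : i < 1280) : lvlStep 1280 (fun y => g13 posG2P y) ev2 ev3
    (fun i => g32 wdG2P i) (fun i => g32 cG2aP i) t8 (g13 t8 ((fun i => g13 orbG2P i) i)) i = true := by
  rcases Nat.lt_or_ge i 640 with h1 | h1
  · exact lvlChk_spec _ _ _ _ _ _ _ _ _ _ lvlG2a_0 i (Nat.zero_le _) (by omega)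
  · exact lvlChk_spec _ _ _ _ _ _ _ _ _ _ lvlG2a_1 i h1 (by omega)

set_option maxRecDepth 1000000 in
theorem lvlG2b_0 : lvlChk 1280 (fun i => g13 orbG2P i) (fun y => g13 posG2P y) ev2 ev3
    (fun i => g32 wdG2P i) (fun i => g32 cG2bP i) t10 0 640 = true := by
  decide +kernel

set_option maxRecDepth 1000000 in
theorem lvlG2b_1 : lvlChk 1280 (fun i => g13 orbG2P i) (fun y => g13 posG2P y) ev2 ev3
    (fun i => g32 wdG2P i) (fun i => g32 cG2bP i) t10 640 640 = true := by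
  decide +kernel

theorem lvlG2b (i : ℕ) (hi : i < 1280) : lvlStep 1280 (fun y => g13 posG2P y) ev2 ev3
    (fun i => g32 wdG2P i) (fun i => g32 cG2bP i) t10 (g13 t10 ((fun i => g13 orbG2P i) i)) i = true := by
  rcases Nat.lt_or_ge i 640 with h1 | h1
  · exact lvlChk_spec _ _ _ _ _ _ _ _ _ _ lvlG2b_0 i (Nat.zero_le _) (by omega)
  · exact lvlChk_spec _ _ _ _ _ _ _ _ _ _ lvlG2b_1 i h1 (by omega)

set_option maxRecDepth 1000000 in
theorem lvlG3a_0 : lvlChk 16 (fun i => g13 orbG3P i) (fun y => g13 posG3P y) ev3 (fun _ x => x)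
    (fun i => g32 wdG3P i) (fun _ => 0) t12 0 16 = true := by
  decide +kernel

theorem lvlG3a (i : ℕ) (hi : i < 16) : lvlStep 16 (fun y => g13 posG3P y) ev3 (fun _ x => x)
    (fun i => g32 wdG3P i) (fun _ => 0) t12 (g13 t12 ((fun i => g13 orbG3P i) i)) i = true := by
  exact lvlChk_spec _ _ _ _ _ _ _ _ _ _ lvlG3a_0 i (Nat.zero_le _) (by omega)

set_option maxRecDepth 1000000 in
theorem lvlG3b_0 : lvlChk 16 (fun i => g13 orbG3P i) (fun y => g13 posG3P y) ev3 (fun _ x => x)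
    (fun i => g32 wdG3P i) (fun _ => 0) t14 0 16 = true := by
  decide +kernel

theorem lvlG3b (i : ℕ) (hi : i < 16) : lvlStep 16 (fun y => g13 posG3P y) ev3 (fun _ x => x)
    (fun i => g32 wdG3P i) (fun _ => 0) t14 (g13 t14 ((fun i => g13 orbG3P i) i)) i = true := by
  exact lvlChk_spec _ _ _ _ _ _ _ _ _ _ lvlG3b_0 i (Nat.zero_le _) (by omega)


end Cfsg.Agent.Lib.Helper9.Ru
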