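import Mathlib
import Cfsg.Agent.Lib.Helper9.RuBase

set_option autoImplicit false

namespace Cfsg.Agent.Lib.Helper9.Ru


/-! ### Schreier certificates of the chain T -/

set_option maxRecDepth 1000000 in
theorem lvlT0a_0 : lvlChk 1755 (fun i => g13 orbT0P i) (fun y => g13 posT0P y) ev4 evQ4
    (fun i => g32 wdT0P i) (fun i => g64 cT0aP i) t16 0 878 = true := by
  decide +kernel

set_option maxRecDepth 1000000 in
theorem lvlT0a_1 : lvlChk 1755 (fun i => g13 orbT0P i) (fun y => g13 posT0P y) ev4 evQ4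
    (fun i => g32 wdT0P i) (fun i => g64 cT0aP i) t16 878 877 = true := by
  decide +kernel

theorem lvlT0a (i : ℕ) (hi : i < 1755) : lvlStep 1755 (fun y => g13 posT0P y) ev4 evQ4
    (fun i => g32 wdT0P i) (fun i => g64 cT0aP i) t16 (g13 t16 ((fun i => g13 orbT0P i) i)) i = true := by
  rcases Nat.lt_or_ge i 878 with h1 | h1
  · exact lvlChk_spec _ _ _ _ _ _ _ _ _ _ lvlT0a_0 i (Nat.zero_le _) (by omega)
  · exact lvlChk_spec _ _ _ _ _ _ _ _ _ _ lvlT0a_1 i h1 (by omega)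

set_option maxRecDepth 1000000 in
theorem lvlT0b_0 : lvlChk 1755 (fun i => g13 orbT0P i) (fun y => g13 posT0P y) ev4 evQ4
    (fun i => g32 wdT0P i) (fun i => g64 cT0bP i) t18 0 878 = true := by
  decide +kernel

set_option maxRecDepth 1000000 in
theorem lvlT0b_1 : lvlChk 1755 (fun i => g13 orbT0P i) (fun y => g13 posT0P y) ev4 evQ4
    (fun i => g32 wdT0P i) (fun i => g64 cT0bP i) t18 878 877 = true := by
  decide +kernel

theorem lvlT0b (i : ℕ) (hi : i < 1755) : lvlStep 1755 (fun y => g13 posT0P y) ev4 evQ4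
    (fun i => g32 wdT0P i) (fun i => g64 cT0bP i) t18 (g13 t18 ((fun i => g13 orbT0P i) i)) i = true := by
  rcases Nat.lt_or_ge i 878 with h1 | h1
  · exact lvlChk_spec _ _ _ _ _ _ _ _ _ _ lvlT0b_0 i (Nat.zero_le _) (by omega)
  · exact lvlChk_spec _ _ _ _ _ _ _ _ _ _ lvlT0b_1 i h1 (by omega)

set_option maxRecDepth 1000000 in
theorem lvlT1a_0 : lvlChk 1024 (fun i => g13 orbT1P i) (fun y => g13 posT1P y) ev5 ev6
    (fun i => g32 wdT1P i) (fun i => g32 cT1aP i) t20 0 512 = true := by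
  decide +kernel

set_option maxRecDepth 1000000 in
theorem lvlT1a_1 : lvlChk 1024 (fun i => g13 orbT1P i) (fun y => g13 posT1P y) ev5 ev6
    (fun i => g32 wdT1P i) (fun i => g32 cT1aP i) t20 512 512 = true := by
  decide +kernel

theorem lvlT1a (i : ℕ) (hi : i < 1024) : lvlStep 1024 (fun y => g13 posT1P y) ev5 ev6
    (fun i => g32 wdT1P i) (fun i => g32 cT1aP i) t20 (g13 t20 ((fun i => g13 orbT1P i) i)) i = true := by
  rcases Nat.lt_or_ge i 512 with h1 | h1
  · exact lvlChk_spec _ _ _ _ _ _ _ _ _ _ lvlT1a_0 i (Nat.zero_le _) (by omega)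
  · exact lvlChk_spec _ _ _ _ _ _ _ _ _ _ lvlT1a_1 i h1 (by omega)

set_option maxRecDepth 1000000 in
theorem lvlT1b_0 : lvlChk 1024 (fun i => g13 orbT1P i) (fun y => g13 posT1P y) ev5 ev6
    (fun i => g32 wdT1P i) (fun i => g32 cT1bP i) t22 0 512 = true := by
  decide +kernel

set_option maxRecDepth 1000000 in
theorem lvlT1b_1 : lvlChk 1024 (fun i => g13 orbT1P i) (fun y => g13 posT1P y) ev5 ev6
    (fun i => g32 wdT1P i) (fun i => g32 cT1bP i) t22 512 512 = true := by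
  decide +kernel

theorem lvlT1b (i : ℕ) (hi : i < 1024) : lvlStep 1024 (fun y => g13 posT1P y) ev5 ev6
    (fun i => g32 wdT1P i) (fun i => g32 cT1bP i) t22 (g13 t22 ((fun i => g13 orbT1P i) i)) i = true := by
  rcases Nat.lt_or_ge i 512 with h1 | h1
  · exact lvlChk_spec _ _ _ _ _ _ _ _ _ _ lvlT1b_0 i (Nat.zero_le _) (by omega)
  · exact lvlChk_spec _ _ _ _ _ _ _ _ _ _ lvlT1b_1 i h1 (by omega)

set_option maxRecDepth 1000000 in
theorem lvlT2a_0 : lvlChk 10 (fun i => g13 orbT2P i) (fun y => g13 posT2P y) ev6 (fun _ x => x)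
    (fun i => g32 wdT2P i) (fun _ => 0) t24 0 10 = true := by
  decide +kernel

theorem lvlT2a (i : ℕ) (hi : i < 10) : lvlStep 10 (fun y => g13 posT2P y) ev6 (fun _ x => x)
    (fun i => g32 wdT2P i) (fun _ => 0) t24 (g13 t24 ((fun i => g13 orbT2P i) i)) i = true := by
  exact lvlChk_spec _ _ _ _ _ _ _ _ _ _ lvlT2a_0 i (Nat.zero_le _) (by omega)

set_option maxRecDepth 1000000 in
theorem lvlT2b_0 : lvlChk 10 (fun i => g13 orbT2P i) (fun y => g13 posT2P y) ev6 (fun _ x => x)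
    (fun i => g32 wdT2P i) (fun _ => 0) t26 0 10 = true := by
  decide +kernel

theorem lvlT2b (i : ℕ) (hi : i < 10) : lvlStep 10 (fun y => g13 posT2P y) ev6 (fun _ x => x)
    (fun i => g32 wdT2P i) (fun _ => 0) t26 (g13 t26 ((fun i => g13 orbT2P i) i)) i = true := by
  exact lvlChk_spec _ _ _ _ _ _ _ _ _ _ lvlT2b_0 i (Nat.zero_le _) (by omega)


end Cfsg.Agent.Lib.Helper9.Ru
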