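import Mathlib
import Cfsg.Agent.Lib.Helper9.RuBase

set_option autoImplicit false

namespace Cfsg.Agent.Lib.Helper9.Ru


/-! ### The smaller certificates -/

set_option maxRecDepth 1000000 in
theorem w4 : wordChk t4 ev0 gwG1a = true := by decide +kernel

set_option maxRecDepth 1000000 in
theorem w6 : wordChk t6 ev0 gwG1b = true := by decide +kernel

set_option maxRecDepth 1000000 in
theorem w8 : wordChk t8 ev1 gwG2a = true := by decide +kernel

set_option maxRecDepth 1000000 in
theorem w10 : wordChk t10 ev1 gwG2b = true := by decide +kernel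

set_option maxRecDepth 1000000 in
theorem w12 : wordChk t12 ev2 gwG3a = true := by decide +kernel

set_option maxRecDepth 1000000 in
theorem w14 : wordChk t14 ev2 gwG3b = true := by decide +kernel

set_option maxRecDepth 1000000 in
theorem w16 : wordChk t16 ev1 gwT0a = true := by decide +kernel

set_option maxRecDepth 1000000 in
theorem w18 : wordChk t18 ev1 gwT0b = true := by decide +kernel

set_option maxRecDepth 1000000 in
theorem w20 : wordChk t20 ev4 gwT1a = true := by decide +kernel

set_option maxRecDepth 1000000 in
theorem w22 : wordChk t22 ev4 gwT1b = true := by decide +kernel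

set_option maxRecDepth 1000000 in
theorem w24 : wordChk t24 ev5 gwT2a = true := by decide +kernel

set_option maxRecDepth 1000000 in
theorem w26 : wordChk t26 ev5 gwT2b = true := by decide +kernel

set_option maxRecDepth 1000000 in
theorem trG0 : trChk 4060 0 (fun i => i) (fun y => y) ev0
    (fun i => g32 wdG0P i) = true := by
  decide +kernel

set_option maxRecDepth 1000000 in
theorem bwG0 : band (Nat.ble (Nat.succ ((fun y => y) 0)) 4060)
    (Nat.beq (Nat.land ((fun i => g32 wdG0P i) ((fun y => y) 0)) 255) 0) = true := by decide +kernel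

set_option maxRecDepth 1000000 in
theorem trG1 : trChk 1755 2305 (fun i => g13 orbG1P i) (fun y => g13 posG1P y) ev1
    (fun i => g32 wdG1P i) = true := by
  decide +kernel

set_option maxRecDepth 1000000 in
theorem bwG1 : band (Nat.ble (Nat.succ ((fun y => g13 posG1P y) 2305)) 1755)
    (Nat.beq (Nat.land ((fun i => g32 wdG1P i) ((fun y => g13 posG1P y) 2305)) 255) 0) = true := by decide +kernel

set_option maxRecDepth 1000000 in
theorem trG2 : trChk 1280 1 (fun i => g13 orbG2P i) (fun y => g13 posG2P y) ev2
    (fun i => g32 wdG2P i) = true := by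
  decide +kernel

set_option maxRecDepth 1000000 in
theorem bwG2 : band (Nat.ble (Nat.succ ((fun y => g13 posG2P y) 1)) 1280)
    (Nat.beq (Nat.land ((fun i => g32 wdG2P i) ((fun y => g13 posG2P y) 1)) 255) 0) = true := by decide +kernel

set_option maxRecDepth 1000000 in
theorem trG3 : trChk 16 5 (fun i => g13 orbG3P i) (fun y => g13 posG3P y) ev3
    (fun i => g32 wdG3P i) = true := by
  decide +kernel

set_option maxRecDepth 1000000 in
theorem bwG3 : band (Nat.ble (Nat.succ ((fun y => g13 posG3P y) 5)) 16)
    (Nat.beq (Nat.land ((fun i => g32 wdG3P i) ((fun y => g13 posG3P y) 5)) 255) 0) = true := by decide +kernel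

set_option maxRecDepth 1000000 in
theorem trT0 : trChk 1755 2305 (fun i => g13 orbT0P i) (fun y => g13 posT0P y) ev4
    (fun i => g32 wdT0P i) = true := by
  decide +kernel

set_option maxRecDepth 1000000 in
theorem bwT0 : band (Nat.ble (Nat.succ ((fun y => g13 posT0P y) 2305)) 1755)
    (Nat.beq (Nat.land ((fun i => g32 wdT0P i) ((fun y => g13 posT0P y) 2305)) 255) 0) = true := by decide +kernel

set_option maxRecDepth 1000000 in
theorem trT1 : trChk 1024 2306 (fun i => g13 orbT1P i) (fun y => g13 posT1P y) ev5
    (fun i => g32 wdT1P i) = true := by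
  decide +kernel

set_option maxRecDepth 1000000 in
theorem bwT1 : band (Nat.ble (Nat.succ ((fun y => g13 posT1P y) 2306)) 1024)
    (Nat.beq (Nat.land ((fun i => g32 wdT1P i) ((fun y => g13 posT1P y) 2306)) 255) 0) = true := by decide +kernel

set_option maxRecDepth 1000000 in
theorem trT2 : trChk 10 2308 (fun i => g13 orbT2P i) (fun y => g13 posT2P y) ev6
    (fun i => g32 wdT2P i) = true := by
  decide +kernel

set_option maxRecDepth 1000000 in
theorem bwT2 : band (Nat.ble (Nat.succ ((fun y => g13 posT2P y) 2308)) 10)
    (Nat.beq (Nat.land ((fun i => g32 wdT2P i) ((fun y => g13 posT2P y) 2308)) 255) 0) = true := by decide +kernel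

set_option maxRecDepth 1000000 in
theorem fx4 : fixChk t4 0 = true := by decide +kernel

set_option maxRecDepth 1000000 in
theorem fx6 : fixChk t6 0 = true := by decide +kernel

set_option maxRecDepth 1000000 in
theorem fx8 : fixChk t8 2305 = true := by decide +kernel

set_option maxRecDepth 1000000 in
theorem fx10 : fixChk t10 2305 = true := by decide +kernel

set_option maxRecDepth 1000000 in
theorem fx12 : fixChk t12 1 = true := by decide +kernel

set_option maxRecDepth 1000000 in
theorem fx14 : fixChk t14 1 = true := by decide +kernel

set_option maxRecDepth 1000000 in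
theorem fx20 : fixChk t20 2305 = true := by decide +kernel

set_option maxRecDepth 1000000 in
theorem fx22 : fixChk t22 2305 = true := by decide +kernel

set_option maxRecDepth 1000000 in
theorem fx24 : fixChk t24 2306 = true := by decide +kernel

set_option maxRecDepth 1000000 in
theorem fx26 : fixChk t26 2306 = true := by decide +kernel

set_option maxRecDepth 1000000 in
theorem ord0 : ordChk t0 29 = true := by decide +kernel

set_option maxRecDepth 1000000 in
theorem ord2 : ordChk t2 29 = true := by decide +kernel

set_option maxRecDepth 1000000 in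
theorem ord16 : ordChk t16 13 = true := by decide +kernel

set_option maxRecDepth 1000000 in
theorem ord18 : ordChk t18 13 = true := by decide +kernel

set_option maxRecDepth 1000000 in
theorem gcls_ok : gclsChk 0 4060 = true := by decide +kernel

set_option maxRecDepth 1000000 in
theorem grep_ok : allB 3 (fun i => Nat.ble (g13 grepP i) 4059) = true := by decide +kernel

set_option maxRecDepth 1000000 in
theorem grep0 : band (Nat.beq (g13 grepP 0) 0) (Nat.beq (gclsF 0) 0) = true := by decide +kernel

set_option maxRecDepth 1000000 in
theorem gcnt_ok : band (Nat.beq (cntN gclsF 4060 0) 1) (band (Nat.beq (cntN gclsF 4060 1) 2304)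
    (Nat.beq (cntN gclsF 4060 2) 1755)) = true := by
  decide +kernel

set_option maxRecDepth 1000000 in
theorem tcls_ok : tclsChk 0 1755 = true := by decide +kernel

set_option maxRecDepth 1000000 in
theorem trep_ok : allB 5 (fun i => Nat.ble (g13 trepP i) 4059) = true := by decide +kernel

set_option maxRecDepth 1000000 in
theorem trep0 : band (Nat.beq (g13 trepP 0) 2305) (Nat.beq (tclsF 2305) 0) = true := by decide +kernel

set_option maxRecDepth 1000000 in
theorem tcnt_ok : band (Nat.beq (cntN (fun i => tclsF (omF i)) 1755 0) 1)
    (band (Nat.beq (cntN (fun i => tclsF (omF i)) 1755 1) 1024)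
    (band (Nat.beq (cntN (fun i => tclsF (omF i)) 1755 2) 10)
    (band (Nat.beq (cntN (fun i => tclsF (omF i)) 1755 3) 640)
    (Nat.beq (cntN (fun i => tclsF (omF i)) 1755 4) 80)))) = true := by
  decide +kernel

set_option maxRecDepth 1000000 in
theorem om_ok : band (band (Nat.ble (Nat.succ (g13 posT0P 2306)) 1755)
    (Nat.beq (omF (g13 posT0P 2306)) 2306)) (band (Nat.ble (Nat.succ (g13 posT0P 2308)) 1755)
    (Nat.beq (omF (g13 posT0P 2308)) 2308)) = true := by
  decide +kernel


end Cfsg.Agent.Lib.Helper9.Ru
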