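import Mathlib
import Cfsg.Prelude.Def_Sporadic_a
import Cfsg.Agent.Lib.Helper9.Steiner
import Cfsg.Agent.Lib.Helper9.SteinerGen

set_option autoImplicit false

namespace Cfsg.Agent.Lib.Helper9.S12

open Cfsg

/-- The subset of `Fin 12` with bit mask `m`. -/
def ofMask (m : ℕ) : Finset (Fin 12) := Finset.univ.filter (fun i => m.testBit i.val = true)

theorem mem_ofMask {m : ℕ} {i : Fin 12} : i ∈ ofMask m ↔ m.testBit i.val = true := by
  simp [ofMask]

/-- The number with bits `c 0, …, c (n-1)`. -/
def bitsToMask (c : ℕ → Bool) : ℕ → ℕ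
  | 0 => 0
  | n + 1 => bitsToMask c n + (if c n then 2 ^ n else 0)

theorem bitsToMask_lt (c : ℕ → Bool) (n : ℕ) : bitsToMask c n < 2 ^ n := by
  induction n with
  | zero => simp [bitsToMask]
  | succ n ih =>
    simp only [bitsToMask]
    have : 2 ^ (n + 1) = 2 ^ n + 2 ^ n := by ring
    split <;> omega

theorem testBit_bitsToMask (c : ℕ → Bool) (n j : ℕ) :
    (bitsToMask c n).testBit j = (decide (j < n) && c j) := by
  induction n with
  | zero => simp [bitsToMask]
  | succ n ih =>
    simp only [bitsToMask]
    have hlt := bitsToMask_lt c n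
    by_cases hc : c n = true
    · simp only [hc, if_true]
      rcases lt_trichotomy j n with h | h | h
      · rw [Nat.add_comm, Nat.testBit_two_pow_add_gt h, ih]
        simp [h, Nat.lt_succ_of_lt h]
      · subst h
        rw [Nat.add_comm, Nat.testBit_two_pow_add_eq, Nat.testBit_lt_two_pow hlt]
        simp [hc]
      · have h2 : 2 ^ (n + 1) ≤ 2 ^ j := Nat.pow_le_pow_right (by norm_num) h
        have h3 : 2 ^ (n + 1) = 2 ^ n + 2 ^ n := by ring
        rw [Nat.testBit_lt_two_pow (by omega)]
        have : ¬ j < n + 1 := by omega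
        simp [this]
    · simp only [hc, Bool.false_eq_true, if_false, Nat.add_zero, ih]
      rcases lt_trichotomy j n with h | h | h
      · simp [h, Nat.lt_succ_of_lt h]
      · subst h
        simp [hc]
      · have h1 : ¬ j < n := by omega
        have h2 : ¬ j < n + 1 := by omega
        simp [h1, h2]

/-- The bit mask of a subset of `Fin 12`. -/
def toMask (b : Finset (Fin 12)) : ℕ :=
  bitsToMask (fun i => if h : i < 12 then decide ((⟨i, h⟩ : Fin 12) ∈ b) else false) 12

theorem toMask_lt (b : Finset (Fin 12)) : toMask b < 4096 := bitsToMask_lt _ 12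

theorem ofMask_toMask (b : Finset (Fin 12)) : ofMask (toMask b) = b := by
  ext i
  rw [mem_ofMask, toMask, testBit_bitsToMask]
  simp [i.isLt]

theorem ofMask_subset {s m : ℕ} (hs : s < 4096) : ofMask s ⊆ ofMask m ↔ s &&& m = s := by
  constructor
  · intro h
    apply Nat.eq_of_testBit_eq
    intro i
    rw [Nat.testBit_and]
    by_cases hi : i < 12
    · have := @h ⟨i, hi⟩
      simp only [mem_ofMask] at this
      cases hsi : s.testBit i
      · simp
      · simp [this hsi]
    · have : s.testBit i = false := by
        apply Nat.testBit_lt_two_pow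
        calc s < 2 ^ 12 := hs
          _ ≤ 2 ^ i := Nat.pow_le_pow_right (by norm_num) (by omega)
      simp [this]
  · intro h i hi
    rw [mem_ofMask] at hi ⊢
    rw [← h, Nat.testBit_and] at hi
    simp only [Bool.and_eq_true] at hi
    exact hi.2

theorem ofMask_inj {a b : ℕ} (ha : a < 4096) (hb : b < 4096) (h : ofMask a = ofMask b) : a = b := by
  have h1 := (ofMask_subset (m := b) ha).mp (by rw [h])
  have h2 := (ofMask_subset (m := a) hb).mp (by rw [h])
  rw [← h1, Nat.and_comm, h2]

/-- 12-bit population count. -/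
def popc (m : ℕ) : ℕ := ((List.range 12).filter (fun i => m.testBit i)).length

set_option maxRecDepth 100000 in
theorem card_ofMask_aux : ∀ m : ℕ, m < 4096 → (ofMask m).card = popc m := by
  decide +kernel


theorem card_ofMask {m : ℕ} (hm : m < 4096) : (ofMask m).card = popc m := card_ofMask_aux m hm

/-- `s` is the mask of a 5-subset. -/
def five (s : ℕ) : Bool := decide (s < 4096) && popc s == 5

theorem five_spec {s : ℕ} (h : five s = true) : s < 4096 ∧ (ofMask s).card = 5 := by
  simp only [five, Bool.and_eq_true, decide_eq_true_eq, beq_iff_eq] at h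
  exact ⟨h.1, by rw [card_ofMask h.1, h.2]⟩

/-- `w` has exactly one bit. -/
def single (w : ℕ) : Bool := w != 0 && (w &&& (w - 1)) == 0

set_option maxRecDepth 100000 in
theorem single_card_aux : ∀ w : ℕ, w < 4096 → single w = true → (ofMask w).card = 1 := by
  decide +kernel

theorem ofMask_sdiff (s y : ℕ) : ofMask (s ^^^ (s &&& y)) = ofMask s \ ofMask y := by
  ext i
  simp only [mem_ofMask, Finset.mem_sdiff, Nat.testBit_xor, Nat.testBit_and]
  cases s.testBit i <;> cases y.testBit i <;> simp

theorem ofMask_or_pow (s : ℕ) (x : Fin 12) : ofMask (s ||| 2 ^ x.val) = insert x (ofMask s) := by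
  ext i
  simp only [mem_ofMask, Finset.mem_insert, Nat.testBit_or, Nat.testBit_two_pow, Bool.or_eq_true,
    decide_eq_true_eq]
  constructor
  · rintro (h | h)
    · exact Or.inr h
    · exact Or.inl (Fin.ext h.symm)
  · rintro (h | h)
    · exact Or.inr (by rw [h])
    · exact Or.inl h

/-- The points excluded as sixth point of the block through `s`, given the blocks `E`. -/
def excl (s : ℕ) : List ℕ → ℕ
  | [] => 0
  | y :: E => if single (s ^^^ (s &&& y)) then y ||| excl s E else excl s E

theorem excl_spec (s : ℕ) (E : List ℕ) (i : ℕ) (h : (excl s E).testBit i = true) :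
    ∃ y ∈ E, single (s ^^^ (s &&& y)) = true ∧ y.testBit i = true := by
  induction E with
  | nil => simp [excl] at h
  | cons y E ih =>
    simp only [excl] at h
    by_cases hs : single (s ^^^ (s &&& y)) = true
    · rw [if_pos hs, Nat.testBit_or, Bool.or_eq_true] at h
      rcases h with h | h
      · exact ⟨y, List.mem_cons_self, hs, h⟩
      · obtain ⟨z, hz, h1, h2⟩ := ih h
        exact ⟨z, List.mem_cons_of_mem _ hz, h1, h2⟩
    · rw [if_neg hs] at h
      obtain ⟨z, hz, h1, h2⟩ := ih h
      exact ⟨z, List.mem_cons_of_mem _ hz, h1, h2⟩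

/-- The allowed sixth points. -/
def al (s : ℕ) (E : List ℕ) : List ℕ :=
  (List.range 12).filter (fun i => !(s ||| excl s E).testBit i)

/-- The basic forcing step. -/
theorem step_sound {D : Set (Finset (Fin 12))} (hD : IsSteinerSystem 5 6 D) {E : List ℕ}
    (hE : ∀ y ∈ E, ofMask y ∈ D) {s : ℕ} (hs : five s = true) :
    ∃ x ∈ al s E, ofMask (s ||| 2 ^ x) ∈ D := by
  obtain ⟨hs1, hs2⟩ := five_spec hs
  obtain ⟨b, ⟨hb, hSb⟩, -⟩ := hD.2 (ofMask s) hs2
  have hbc : b.card = 6 := hD.1 b hb
  have h1 : (b \ ofMask s).card = 1 := by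
    rw [Finset.card_sdiff_of_subset hSb, hbc, hs2]
  obtain ⟨x, hx⟩ := Finset.card_eq_one.mp h1
  have hxb : x ∈ b ∧ x ∉ ofMask s := by
    have : x ∈ b \ ofMask s := by rw [hx]; exact Finset.mem_singleton_self x
    exact Finset.mem_sdiff.mp this
  have hins : insert x (ofMask s) = b := by
    apply Finset.eq_of_subset_of_card_le
    · exact Finset.insert_subset hxb.1 hSb
    · rw [Finset.card_insert_of_notMem hxb.2, hs2, hbc]
  refine ⟨x.val, ?_, ?_⟩
  · simp only [al, List.mem_filter, List.mem_range, Bool.not_eq_true', Nat.testBit_or,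
      Bool.or_eq_false_iff]
    refine ⟨x.isLt, ?_, ?_⟩
    · have := hxb.2
      rw [mem_ofMask] at this
      simpa using this
    · by_contra hcon
      have hcon' : (excl s E).testBit x.val = true := by simpa using hcon
      obtain ⟨y, hyE, hy1, hy2⟩ := excl_spec s E x.val hcon'
      have hyD := hE y hyE
      have hw : s ^^^ (s &&& y) < 4096 := by
        have h2 : s &&& y < 2 ^ 12 := lt_of_le_of_lt Nat.and_le_left hs1
        exact Nat.xor_lt_two_pow hs1 h2
      have hc1 := single_card_aux _ hw hy1
      rw [ofMask_sdiff] at hc1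
      have hxy : x ∈ ofMask y := mem_ofMask.mpr hy2
      have hc4 : (ofMask s ∩ ofMask y).card = 4 := by
        have := Finset.card_sdiff_add_card_inter (ofMask s) (ofMask y)
        omega
      have hsub : insert x (ofMask s ∩ ofMask y) ⊆ b ∩ ofMask y := by
        intro z hz
        rw [Finset.mem_insert] at hz
        rcases hz with rfl | hz
        · exact Finset.mem_inter.mpr ⟨hxb.1, hxy⟩
        · rw [Finset.mem_inter] at hz ⊢
          exact ⟨hSb hz.1, hz.2⟩
      have hc5 : 5 ≤ (b ∩ ofMask y).card := by
        refine le_trans ?_ (Finset.card_le_card hsub)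
        rw [Finset.card_insert_of_notMem (fun h => hxb.2 (Finset.mem_inter.mp h).1), hc4]
      have hby : b = ofMask y := eq_of_le_card_inter hD hb hyD hc5
      have : ofMask s \ ofMask y = ∅ := by
        rw [Finset.sdiff_eq_empty_iff_subset, ← hby]
        exact hSb
      rw [this] at hc1
      simp at hc1
  · rw [ofMask_or_pow, hins]
    exact hb

end Cfsg.Agent.Lib.Helper9.S12
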