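import Mathlib
import Cfsg.Prelude.Def_Sporadic_a
import Cfsg.Agent.Lib.Helper9.S12Mask

set_option autoImplicit false

namespace Cfsg.Agent.Lib.Helper9.S12

open Cfsg

/-- The map of `Fin 12` given by a table. -/
def tb (R : List ℕ) (i : Fin 12) : Fin 12 := Fin.ofNat 12 (R.getD i.val 0)

/-- The tables `R`, `R'` are mutually inverse permutations. -/
def permOK (R R' : List ℕ) : Bool :=
  (List.finRange 12).all (fun i => tb R (tb R' i) == i && tb R' (tb R i) == i)

theorem permOK_spec {R R' : List ℕ} (h : permOK R R' = true) (i : Fin 12) :
    tb R (tb R' i) = i ∧ tb R' (tb R i) = i := by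
  simp only [permOK, List.all_eq_true, List.mem_finRange, Bool.and_eq_true, beq_iff_eq,
    forall_const] at h
  exact h i

/-- The permutation of a checked table. -/
def tperm (R R' : List ℕ) (h : permOK R R' = true) : Equiv.Perm (Fin 12) where
  toFun := tb R
  invFun := tb R'
  left_inv i := (permOK_spec h i).2
  right_inv i := (permOK_spec h i).1

/-- The mask of the preimage of `m` under the table `R`. -/
def pullT (R : List ℕ) (m : ℕ) : ℕ := bitsToMask (fun i => m.testBit (R.getD i 0 % 12)) 12

theorem ofMask_pullT {R R' : List ℕ} (h : permOK R R' = true) (m : ℕ) :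
    ofMask (pullT R m) = (ofMask m).image (tperm R R' h).symm := by
  ext i
  rw [mem_ofMask, pullT, testBit_bitsToMask, Finset.mem_image]
  simp only [i.isLt, decide_true, Bool.true_and]
  constructor
  · intro hi
    refine ⟨tperm R R' h i, ?_, by simp⟩
    rw [mem_ofMask]
    exact hi
  · rintro ⟨a, ha, rfl⟩
    rw [mem_ofMask] at ha
    have : tb R ((tperm R R' h).symm a) = a := (tperm R R' h).apply_symm_apply a
    have h2 : (tb R ((tperm R R' h).symm a)).val = R.getD ((tperm R R' h).symm a).val 0 % 12 := rfl
    rw [← h2, this]
    exact ha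

theorem mem_image_of_pullT {D : Set (Finset (Fin 12))} {R R' : List ℕ} (h : permOK R R' = true)
    {m : ℕ} (hm : ofMask (pullT R m) ∈ D) :
    ofMask m ∈ (fun b => b.image (tperm R R' h)) '' D := by
  refine ⟨_, hm, ?_⟩
  show Finset.image (tperm R R' h) (ofMask (pullT R m)) = ofMask m
  rw [ofMask_pullT h, Finset.image_image]
  have : (⇑(tperm R R' h) ∘ ⇑(tperm R R' h).symm) = id := by
    ext x
    simp
  rw [this, Finset.image_id]

/-- The set system of a list of masks. -/
def sysOf (L : List ℕ) : Set (Finset (Fin 12)) := {b | ∃ m ∈ L, b = ofMask m}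

/-- Certificates. -/
inductive Tree where
  | chain (ss : List ℕ) (t : Tree)
  | step (s : ℕ) (kids : Tree)
  | sym (s : ℕ) (Rs : List (List ℕ × List ℕ)) (t : Tree)
  | done (R R' : List ℕ)
  | nil
  | alt (t rest : Tree)

/-- Run a chain of forced steps. -/
def runChain : List ℕ → List ℕ → Option (List ℕ)
  | [], E => some E
  | s :: ss, E =>
    if five s then
      match al s E with
      | [x] => runChain ss ((s ||| 2 ^ x) :: E)
      | _ => none
    else none

theorem runChain_sound {D : Set (Finset (Fin 12))} (hD : IsSteinerSystem 5 6 D) :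
    ∀ (ss E E' : List ℕ), runChain ss E = some E' → (∀ y ∈ E, ofMask y ∈ D) →
      ∀ y ∈ E', ofMask y ∈ D := by
  intro ss
  induction ss with
  | nil =>
    intro E E' h hE
    simp only [runChain, Option.some.injEq] at h
    subst h
    exact hE
  | cons s ss ih =>
    intro E E' h hE
    simp only [runChain] at h
    by_cases hs : five s = true
    · rw [if_pos hs] at h
      obtain ⟨x, hx, hxD⟩ := step_sound hD hE hs
      match hal : al s E, h with
      | [x'], h' =>
        rw [hal] at hx
        simp only [List.mem_singleton] at hx
        subst hx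
        refine ih _ _ h' ?_
        intro y hy
        rcases List.mem_cons.mp hy with rfl | hy
        · exact hxD
        · exact hE y hy
    · rw [if_neg hs] at h
      exact absurd h (by simp)

/-- Check the symmetry tables of a `sym` node. -/
def symOK (E : List ℕ) (s x0 : ℕ) : List ℕ → List (List ℕ × List ℕ) → Bool
  | [], [] => true
  | x :: xs, R :: Rs =>
    permOK R.1 R.2 &&
      ((s ||| 2 ^ x0) :: E).all (fun m => ((s ||| 2 ^ x) :: E).contains (pullT R.1 m)) &&
      symOK E s x0 xs Rs
  | _, _ => false

theorem symOK_spec (E : List ℕ) (s x0 : ℕ) :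
    ∀ (xs : List ℕ) (Rs : List (List ℕ × List ℕ)), symOK E s x0 xs Rs = true →
      ∀ x ∈ xs, ∃ R R' : List ℕ, ∃ _ : permOK R R' = true,
        ∀ m ∈ (s ||| 2 ^ x0) :: E, pullT R m ∈ (s ||| 2 ^ x) :: E := by
  intro xs
  induction xs with
  | nil => intro Rs _ x hx; simp at hx
  | cons x' xs ih =>
    intro Rs h x hx
    cases Rs with
    | nil => simp [symOK] at h
    | cons R Rs =>
      simp only [symOK, Bool.and_eq_true, List.all_eq_true] at h
      rcases List.mem_cons.mp hx with rfl | hx
      · refine ⟨R.1, R.2, h.1.1, ?_⟩
        intro m hm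
        have := h.1.2 m hm
        simpa using this
      · exact ih Rs h.2 x hx

/-- The certificate checker. The Boolean flag says whether the tree is read as a list of
alternatives for the candidates `xs` through `s`. -/
def chk (L0 : List ℕ) : Tree → Bool → List ℕ → ℕ → List ℕ → Bool
  | .chain ss t, false, E, _, _ =>
    match runChain ss E with
    | some E' => chk L0 t false E' 0 []
    | none => false
  | .step s kids, false, E, _, _ => five s && chk L0 kids true E s (al s E)
  | .sym s Rs t, false, E, _, _ =>
    five s &&
      (match al s E with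
      | [] => false
      | x0 :: xs => symOK E s x0 xs Rs && chk L0 t false ((s ||| 2 ^ x0) :: E) 0 [])
  | .done R R', false, E, _, _ => permOK R R' && L0.all (fun m => E.contains (pullT R m))
  | .nil, true, _, _, xs => xs.isEmpty
  | .alt t rest, true, E, s, x :: xs =>
    chk L0 t false ((s ||| 2 ^ x) :: E) 0 [] && chk L0 rest true E s xs
  | _, _, _, _, _ => false

theorem chk_sound (L0 : List ℕ) (hL0 : IsSteinerSystem 5 6 (sysOf L0)) :
    ∀ (t : Tree) (md : Bool) (E : List ℕ) (s : ℕ) (xs : List ℕ), chk L0 t md E s xs = true →
      ∀ D : Set (Finset (Fin 12)), IsSteinerSystem 5 6 D → (∀ y ∈ E, ofMask y ∈ D) →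
        (md = true → ∃ x ∈ xs, ofMask (s ||| 2 ^ x) ∈ D) → SetSystemIso D (sysOf L0) := by
  intro t
  induction t with
  | chain ss t ih =>
    intro md E s xs h D hD hE hmd
    cases md with
    | true => simp [chk] at h
    | false =>
      simp only [chk] at h
      match hr : runChain ss E, h with
      | some E', h =>
        exact ih false E' 0 [] h D hD (runChain_sound hD ss E E' hr hE) (by simp)
  | step s kids ih =>
    intro md E s' xs h D hD hE hmd
    cases md with
    | true => simp [chk] at h
    | false =>
      simp only [chk, Bool.and_eq_true] at h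
      obtain ⟨x, hx, hxD⟩ := step_sound hD hE h.1
      exact ih true E s (al s E) h.2 D hD hE (fun _ => ⟨x, hx, hxD⟩)
  | sym s Rs t ih =>
    intro md E s' xs h D hD hE hmd
    cases md with
    | true => simp [chk] at h
    | false =>
      simp only [chk, Bool.and_eq_true] at h
      obtain ⟨x, hx, hxD⟩ := step_sound hD hE h.1
      match hal : al s E, h.2 with
      | x0 :: xs', h2 =>
        simp only [Bool.and_eq_true] at h2
        rw [hal] at hx
        rcases List.mem_cons.mp hx with rfl | hx
        · refine ih false _ 0 [] h2.2 D hD ?_ (by simp)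
          intro y hy
          rcases List.mem_cons.mp hy with rfl | hy
          · exact hxD
          · exact hE y hy
        · obtain ⟨R, R', hp, hall⟩ := symOK_spec E s x0 xs' Rs h2.1 x hx
          have hD' := Cfsg.Agent.Lib.Helper9.steiner_image hD (tperm R R' hp)
          have hiso : SetSystemIso ((fun b => b.image (tperm R R' hp)) '' D) (sysOf L0) := by
            refine ih false _ 0 [] h2.2 _ hD' ?_ (by simp)
            intro y hy
            apply mem_image_of_pullT hp
            rcases List.mem_cons.mp (hall y hy) with h3 | h3
            · rw [h3]; exact hxD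
            · exact hE _ h3
          exact Cfsg.Agent.Lib.Helper9.setSystemIso_trans ⟨tperm R R' hp, rfl⟩ hiso
  | done R R' =>
    intro md E s xs h D hD hE hmd
    cases md with
    | true => simp [chk] at h
    | false =>
      simp only [chk, Bool.and_eq_true, List.all_eq_true] at h
      obtain ⟨hp, hall⟩ := h
      have hD' := Cfsg.Agent.Lib.Helper9.steiner_image hD (tperm R R' hp)
      refine ⟨tperm R R' hp, ?_⟩
      symm
      apply Cfsg.Agent.Lib.Helper9.steiner_eq_of_subset hL0 hD' ?_ (by norm_num)
      rintro b ⟨m, hm, rfl⟩
      apply mem_image_of_pullT hp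
      apply hE
      have := hall m hm
      simpa using this
  | nil =>
    intro md E s xs h D hD hE hmd
    cases md with
    | false => simp [chk] at h
    | true =>
      simp only [chk, List.isEmpty_iff] at h
      subst h
      obtain ⟨x, hx, -⟩ := hmd rfl
      simp at hx
  | alt t rest iht ihr =>
    intro md E s xs h D hD hE hmd
    cases md with
    | false => simp [chk] at h
    | true =>
      cases xs with
      | nil => simp [chk] at h
      | cons x xs =>
        simp only [chk, Bool.and_eq_true] at h
        obtain ⟨x', hx', hxD⟩ := hmd rfl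
        rcases List.mem_cons.mp hx' with rfl | hx'
        · refine iht false _ 0 [] h.1 D hD ?_ (by simp)
          intro y hy
          rcases List.mem_cons.mp hy with rfl | hy
          · exact hxD
          · exact hE y hy
        · exact ihr true E s xs h.2 D hD hE (fun _ => ⟨x', hx', hxD⟩)

end Cfsg.Agent.Lib.Helper9.S12
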